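import Cfsg.Agent.SThreeFree.Factor
import Cfsg.Agent.Thompson.PComplement
import Cfsg.Agent.Thompson.FactorBasics
import Cfsg.Agent.Components.Qd.Free
import Cfsg.Prelude.Def_ConjugacyFunctors

/-!
The two functors `Q ↦ J(Q)` and `Q ↦ Ω₁(Z(Ĵ(Q)))` and their triple factorization in constrained groups.
-/

set_option autoImplicit false
set_option linter.unusedSectionVars false
set_option linter.style.haveILetI false

namespace Cfsg.Lib.SThreeFree

open Subgroup
open Cfsg.Lib.Thompson (IsMaxElem)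
open Cfsg.Lib.ThompsonFactor (omegaZ)

universe u

variable {G G' : Type u} [Group G] [Group G'] [Finite G] [Finite G']

theorem eg_map {f : G →* G'} (hf : Function.Injective f) {U : Subgroup G} : EG (U.map f) ↔ EG U := by
  have h1 := eg_range_iff (G := G) (f := U.subtype) U.subtype_injective
  have h2 := eg_range_iff (G := G') (f := f.comp U.subtype) (hf.comp U.subtype_injective)
  rw [range_subtype] at h1
  rw [MonoidHom.range_comp, range_subtype] at h2
  exact h2.trans h1.symm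

theorem map_jHatOf {f : G →* G'} (hf : Function.Injective f) (S : Subgroup G) :
    (jHatOf S).map f = jHatOf (S.map f) := by
  rw [jHatOf_eq, jHatOf_eq, (gc_map_comap f).l_sSup]
  refine le_antisymm (iSup₂_le fun U hU => le_sSup ⟨map_mono hU.1, (eg_map hf).2 hU.2.1, ?_⟩)
    (sSup_le fun U hU => ?_)
  · rw [← Cfsg.Lib.Thompson.map_thompsonSubgroupOf hf.injOn]; exact map_mono hU.2.2
  · have he : (U.comap f).map f = U := map_comap_eq_self (hU.1.trans (map_le_range f S))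
    refine le_trans he.ge (le_iSup₂_of_le (U.comap f) ⟨?_, ?_, ?_⟩ le_rfl)
    · exact (comap_mono hU.1).trans (comap_map_eq_self_of_injective hf S).le
    · rw [← eg_map hf, he]; exact hU.2.1
    · rw [← map_le_map_iff_of_injective hf, he, Cfsg.Lib.Thompson.map_thompsonSubgroupOf hf.injOn]
      exact hU.2.2

theorem thompson_le_jHatOf (S : Subgroup G) : Cfsg.thompsonSubgroupOf 2 S ≤ jHatOf S :=
  le_jHatOf (Cfsg.Lib.Thompson.thompsonSubgroupOf_le _) (fun V hVU _ hVe hp => (thompson_centralizes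
    (U := Cfsg.thompsonSubgroupOf 2 S) le_rfl
    (hVU.trans (Cfsg.Lib.Thompson.thompsonSubgroupOf_le _)) hVe hp).1) le_rfl

theorem omegaZ_elem (S : Subgroup G) : Cfsg.IsElementaryAbelian 2 (omegaZ 2 S) := by
  refine Cfsg.Lib.JComp.elem_of_sq fun z hz => ?_
  induction hz using Subgroup.closure_induction with
  | mem x hx => rw [← pow_two]; exact hx.2
  | one => exact one_mul 1
  | mul x y hx hy ihx ihy =>
    have hcm : Commute x y := mem_centralizer_iff.1 (mem_inf.1 (Cfsg.Lib.ThompsonFactor.omegaZ_le S hy)).2 x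
      (mem_inf.1 (Cfsg.Lib.ThompsonFactor.omegaZ_le S hx)).1
    rw [← pow_two, hcm.mul_pow, pow_two, pow_two, ihx, ihy, one_mul]
  | inv x _ ih => rw [← mul_inv_rev, ih, inv_one]

theorem omegaZ_le_thompson (S : Subgroup G) : omegaZ 2 S ≤ Cfsg.thompsonSubgroupOf 2 S := by
  obtain ⟨A, hA⟩ := Cfsg.Lib.Thompson.exists_isMaxElem (p := 2) S
  have hc : S ≤ centralizer (omegaZ 2 S : Set G) :=
    le_centralizer_iff.1 ((Cfsg.Lib.ThompsonFactor.omegaZ_le S).trans inf_le_right)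
  exact ((thompson_centralizes (U := S) (Cfsg.Lib.Thompson.thompsonSubgroupOf_le S)
    ((Cfsg.Lib.ThompsonFactor.omegaZ_le S).trans inf_le_left) (omegaZ_elem S)
    (fun R hR _ _ hne => absurd (hR.trans hc) hne)).2 A hA).trans (maxElem_le_thompson hA)

theorem omegaZ_le_omegaZ_jHatOf (S : Subgroup G) : omegaZ 2 S ≤ omegaZ 2 (jHatOf S) := by
  refine (closure_le _).2 fun x hx => subset_closure ⟨mem_inf.2
    ⟨thompson_le_jHatOf S (omegaZ_le_thompson S (subset_closure hx)),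
      centralizer_le (jHatOf_le S) (mem_inf.1 hx.1).2⟩, hx.2⟩

theorem omegaZ_ne_bot {S : Subgroup G} (hS : IsPGroup 2 S) (hne : S ≠ ⊥) : omegaZ 2 S ≠ ⊥ := by
  haveI : Fact (Nat.Prime 2) := ⟨Nat.prime_two⟩
  intro h
  have hc := Cfsg.Lib.Thompson.center_ne_bot hS hne
  haveI : Nontrivial ↥(S ⊓ centralizer (S : Set G)) := (nontrivial_iff_ne_bot _).2 hc
  obtain ⟨m, hm0, hm⟩ := (hS.to_le inf_le_left).nontrivial_iff_card.mp ‹Nontrivial ↥(S ⊓ centralizer (S : Set G))›
  obtain ⟨⟨x, hxP⟩, hx⟩ := exists_prime_orderOf_dvd_card' (G := ↥(S ⊓ centralizer (S : Set G))) 2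
    (by rw [hm]; exact dvd_pow_self 2 (by omega))
  rw [Subgroup.orderOf_mk] at hx
  have hmem : x ∈ omegaZ 2 S := subset_closure ⟨hxP, by rw [← hx]; exact pow_orderOf_eq_one x⟩
  rw [h, mem_bot] at hmem
  rw [hmem, orderOf_one] at hx
  omega

/-- `Q ↦ J(Q)` -/
def jFun (Q : Type u) [Group Q] : Subgroup Q := Cfsg.thompsonSubgroupOf 2 (⊤ : Subgroup Q)

/-- `Q ↦ Ω₁(Z(Ĵ(Q)))` -/
def zFun (Q : Type u) [Group Q] : Subgroup Q := omegaZ 2 (jHatOf (⊤ : Subgroup Q))

theorem induced_jFun (P : Subgroup G) : Cfsg.inducedFunctor jFun P = Cfsg.thompsonSubgroupOf 2 P := by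
  show (jFun ↥P).map P.subtype = _
  rw [jFun, Cfsg.Lib.Thompson.map_thompsonSubgroupOf P.subtype_injective.injOn, map_subtype_top]

theorem induced_zFun (P : Subgroup G) : Cfsg.inducedFunctor zFun P = omegaZ 2 (jHatOf P) := by
  show (zFun ↥P).map P.subtype = _
  rw [zFun, Cfsg.Lib.ThompsonFactor.map_omegaZ P.subtype_injective.injOn, map_jHatOf P.subtype_injective, map_subtype_top]

theorem jFun_charP : Cfsg.IsCharPFunctor.{u} 2 jFun := by
  haveI : Fact (Nat.Prime 2) := ⟨Nat.prime_two⟩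
  refine ⟨fun Q _ _ hQ _ => Cfsg.Lib.Thompson.thompsonSubgroupOf_ne_bot (hQ.of_equiv Subgroup.topEquiv.symm)
    top_ne_bot, fun Q R _ _ _ _ φ => ?_⟩
  rw [jFun, jFun, Cfsg.Lib.Thompson.map_thompsonSubgroupOf φ.injective.injOn,
    Subgroup.map_top_of_surjective (f := φ.toMonoidHom) φ.surjective]

theorem zFun_charP : Cfsg.IsCharPFunctor.{u} 2 zFun := by
  haveI : Fact (Nat.Prime 2) := ⟨Nat.prime_two⟩
  refine ⟨fun Q _ _ hQ _ h => omegaZ_ne_bot (hQ.of_equiv Subgroup.topEquiv.symm) top_ne_bot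
    (le_bot_iff.1 ((omegaZ_le_omegaZ_jHatOf ⊤).trans h.le)), fun Q R _ _ _ _ φ => ?_⟩
  haveI : Finite R := Finite.of_equiv Q φ.toEquiv
  rw [zFun, zFun, Cfsg.Lib.ThompsonFactor.map_omegaZ φ.injective.injOn, map_jHatOf (f := φ.toMonoidHom) φ.injective,
    Subgroup.map_top_of_surjective (f := φ.toMonoidHom) φ.surjective]

theorem normalizer_jHatOf_le (S : Subgroup G) :
    normalizer (jHatOf S : Set G) ≤ normalizer (omegaZ 2 (jHatOf S) : Set G) := by
  intro g hg
  rw [← Cfsg.Lib.Coprime.conjMap_eq_self_iff] at hg ⊢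
  show (omegaZ 2 (jHatOf S)).map (MulAut.conj g).toMonoidHom = _
  rw [Cfsg.Lib.ThompsonFactor.map_omegaZ (f := (MulAut.conj g).toMonoidHom) (MulAut.conj g).injective.injOn]
  exact congrArg (omegaZ 2) hg

/-- The triple factorization. -/
theorem triple (hchar : centralizer (Cfsg.pCore 2 G : Set G) ≤ Cfsg.pCore 2 G)
    (hfree : ¬ Cfsg.Involves (Equiv.Perm (Fin 4)) G) (hc : Comp G) (T : Sylow 2 G) :
    (∀ x : G, ∃ a ∈ centralizer (omegaZ 2 (T : Subgroup G) : Set G),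
      ∃ b ∈ normalizer ((Cfsg.inducedFunctor jFun (T : Subgroup G) : Subgroup G) : Set G), x = a * b) ∧
    (∀ x : G, ∃ a ∈ centralizer (omegaZ 2 (T : Subgroup G) : Set G),
      ∃ b ∈ normalizer ((Cfsg.inducedFunctor zFun (T : Subgroup G) : Subgroup G) : Set G), x = a * b) ∧
    (∀ x : G, ∃ a ∈ normalizer ((Cfsg.inducedFunctor jFun (T : Subgroup G) : Subgroup G) : Set G),
      ∃ b ∈ normalizer ((Cfsg.inducedFunctor zFun (T : Subgroup G) : Subgroup G) : Set G), x = a * b) := by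
  obtain ⟨f1, f2, f3⟩ := factorizations hchar hfree hc T
  rw [induced_jFun, induced_zFun]
  have hcz := centralizer_le (Cfsg.Lib.ThompsonFactor.omegaZ_le (p := 2) (T : Subgroup G))
  refine ⟨fun x => ?_, fun x => ?_, fun x => ?_⟩
  · obtain ⟨c, hc', n, hn, e⟩ := f1 x; exact ⟨c, hcz hc', n, hn, e⟩
  · obtain ⟨c, hc', n, hn, e⟩ := f2 x; exact ⟨c, hcz hc', n, normalizer_jHatOf_le _ hn, e⟩
  · obtain ⟨c, hc', n, hn, e⟩ := f3 x⁻¹
    exact ⟨n⁻¹, inv_mem hn, c⁻¹, inv_mem (Cfsg.Lib.Thompson.centralizer_le_normalizer _ hc'),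
      by rw [← mul_inv_rev, ← e, inv_inv]⟩

end Cfsg.Lib.SThreeFree
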