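import Cfsg.Agent.SThreeFree.OffenderBasic

/-!
Offending subgroups centralise a module spanned by a subgroup that they fix and on which a Sylow
2-subgroup satisfies the three-halves bound.
-/

set_option autoImplicit false
set_option linter.unusedSectionVars false
set_option linter.style.haveILetI false

namespace Cfsg.Lib.SThreeFree

open Subgroup
open Cfsg.Lib.JComp (elem_sq elem_comm elem_inv conj_mem cj)

universe u v

variable {G : Type u} [Group G] {V : Type v} [AddCommGroup V]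

/-- The hypotheses: `W` is invariant under `S`, fixed by the members of `𝒜`, spans the module, and satisfies
the strict three-halves bound; the members of `𝒜` are offenders on every subgroup. -/
structure OH (σ : G →* AddMonoid.End V) (S : Sylow 2 G) (W : AddSubgroup V) (𝒜 : Set (Subgroup G)) : Prop where
  two : ∀ x : V, x + x = 0
  free : ¬ Cfsg.Involves (Equiv.Perm (Fin 3)) (G ⧸ σ.ker)
  comp : Comp G
  sinv : ∀ s ∈ (S : Subgroup G), ∀ w ∈ W, σ s w ∈ W
  le : ∀ A ∈ 𝒜, A ≤ (S : Subgroup G)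
  elem : ∀ A ∈ 𝒜, Cfsg.IsElementaryAbelian 2 A
  fixW : ∀ A ∈ 𝒜, A ≤ pstab σ W
  gen : AddSubgroup.closure {v | ∃ g, ∃ w ∈ W, v = σ g w} = ⊤
  sq : ∀ R ≤ (S : Subgroup G), (∀ r ∈ R, ∀ s ∈ R, ∀ w ∈ W, σ (r * s) w = σ (s * r) w) →
      (∀ r ∈ R, ∀ w ∈ W, σ (r * r) w = w) → ¬ R ≤ pstab σ W →
      Nat.card R ^ 3 * Nat.card ↥(W ⊓ fixd σ R) ^ 2 < Nat.card W ^ 2 * Nat.card ↥(R ⊓ pstab σ W) ^ 3
  max : ∀ A ∈ 𝒜, ∀ X : AddSubgroup V,
    Nat.card X * Nat.card ↥(A ⊓ pstab σ X) ≤ Nat.card A * Nat.card ↥(X ⊓ fixd σ A)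
  stable : ∀ n : G, (∀ A ∈ 𝒜, cj n A ≤ (S : Subgroup G)) → ∀ A ∈ 𝒜, cj n A ∈ 𝒜

variable [Finite G] [Finite V] {σ : G →* AddMonoid.End V} {S : Sylow 2 G} {W : AddSubgroup V}
  {𝒜 : Set (Subgroup G)}

/-- Both `n` and its inverse permute the offenders. -/
def Perm' (𝒜 : Set (Subgroup G)) (n : G) : Prop := ∀ A ∈ 𝒜, cj n A ∈ 𝒜 ∧ cj n⁻¹ A ∈ 𝒜

theorem OH.perm_of_normalizes (h : OH σ S W 𝒜) {T : Subgroup G} (hT : T ≤ (S : Subgroup G))
    (hA : ∀ A ∈ 𝒜, A ≤ T) {n : G} (hn : n ∈ normalizer (T : Set G)) : Perm' 𝒜 n := by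
  have key : ∀ m ∈ normalizer (T : Set G), ∀ A ∈ 𝒜, cj m A ≤ (S : Subgroup G) := by
    rintro m hm A hA' _ ⟨a, ha, rfl⟩
    exact hT (conj_mem hm (hA A hA' ha))
  exact fun A hA' => ⟨h.stable n (key n hn) A hA', h.stable n⁻¹ (key n⁻¹ (inv_mem hn)) A hA'⟩

theorem OH.perm_fix (h : OH σ S W 𝒜) {n : G} (hn : Perm' 𝒜 n) {A : Subgroup G} (hA : A ∈ 𝒜) {a : G}
    (ha : a ∈ A) {v : V} (hv : ∀ B ∈ 𝒜, ∀ b ∈ B, σ b v = v) : σ a (σ n v) = σ n v := by
  have h' : n⁻¹ * a * n ∈ cj n⁻¹ A := ⟨a, ha, by show n⁻¹ * a * n⁻¹⁻¹ = n⁻¹ * a * n; rw [inv_inv]⟩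
  have e : σ a (σ n v) = σ n (σ (n⁻¹ * a * n) v) := by
    rw [← act_mul, ← act_mul, show n * (n⁻¹ * a * n) = a * n by group]
  rw [e, hv _ (hn A hA).2 _ h']

/-- If the conclusion holds, every translate of `W` is the translate by a normalising element. -/
theorem OH.translate (h : OH σ S W 𝒜) (hc : ∀ A ∈ 𝒜, A ≤ σ.ker) (g : G) :
    ∃ n, Perm' 𝒜 n ∧ ∀ w ∈ W, σ g w = σ n w := by
  obtain ⟨n, hn, c, hc', rfl⟩ := frattini_inf S σ.ker g
  refine ⟨n, h.perm_of_normalizes inf_le_left (fun A hA => le_inf (h.le A hA) (hc A hA)) hn, fun w _ => ?_⟩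
  rw [act_mul, mem_ker_iff.1 hc' w]

theorem OH.inv_of_gen (g : G) (X : AddSubgroup V) {s : Set V} (hs : AddSubgroup.closure s = X)
    (h : ∀ x ∈ s, σ g x ∈ X) : ∀ x ∈ X, σ g x ∈ X := by
  intro x hx
  exact ((AddSubgroup.closure_le (X.comap (σ g))).2 fun y hy => h y hy) (hs.ge hx)

/-- Passage to a subgroup containing the offenders. -/
theorem OH.restrict (h : OH σ S W 𝒜) (H : Subgroup G) (hH : Comp H) (P : Sylow 2 H)
    (hPS : (P : Subgroup H).map H.subtype = (S : Subgroup G) ⊓ H) (hA : ∀ A ∈ 𝒜, A ≤ H) :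
    ∃ (VH : AddSubgroup V) (hVH : ∀ g : H, ∀ x ∈ VH, σ.comp H.subtype g x ∈ VH),
      (∀ g ∈ H, ∀ w ∈ W, σ g w ∈ VH) ∧
      OH (resAct (σ.comp H.subtype) VH hVH) P (W.comap VH.subtype) ((fun A => A.subgroupOf H) '' 𝒜) := by
  classical
  set VH := AddSubgroup.closure {v | ∃ g ∈ H, ∃ w ∈ W, v = σ g w} with hVHdef
  have hVH : ∀ g : H, ∀ x ∈ VH, σ.comp H.subtype g x ∈ VH := fun g => OH.inv_of_gen (g : G) VH rfl (by
    rintro _ ⟨k, hk, w, hw, rfl⟩
    rw [← act_mul]
    exact AddSubgroup.subset_closure ⟨(g : G) * k, mul_mem g.2 hk, w, hw, rfl⟩)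
  have hgW : ∀ g ∈ H, ∀ w ∈ W, σ g w ∈ VH := fun g hg w hw => AddSubgroup.subset_closure ⟨g, hg, w, hw, rfl⟩
  have hWV : W ≤ VH := fun w hw => by simpa [act_one] using hgW 1 (one_mem _) w hw
  refine ⟨VH, hVH, hgW, ?_⟩
  set σ' := resAct (σ.comp H.subtype) VH hVH
  have hPS' : ∀ x : H, x ∈ (P : Subgroup H) → (x : G) ∈ (S : Subgroup G) := fun x hx =>
    (mem_inf.1 (hPS ▸ mem_map_of_mem H.subtype hx)).1
  have hmemP : ∀ x : H, (x : G) ∈ (S : Subgroup G) → x ∈ (P : Subgroup H) := fun x hx => by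
    obtain ⟨y, hy, e⟩ := (hPS.ge (mem_inf.2 ⟨hx, x.2⟩) : (x : G) ∈ (P : Subgroup H).map H.subtype)
    exact Subtype.ext e ▸ hy
  have hcard : ∀ {R : Subgroup H}, Nat.card (R.map H.subtype) = Nat.card R :=
    fun {R} => Subgroup.card_map_of_injective H.subtype_injective
  have hval : ∀ (g : H) (x : VH), ((σ' g x : VH) : V) = σ g x := fun g x => rfl
  constructor
  · exact two_sub h.two VH
  · intro hi
    refine h.free ?_
    set f := (QuotientGroup.mk' σ.ker).comp H.subtype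
    have hker : f.ker ≤ σ'.ker := fun x hx => by
      have hx' : (x : G) ∈ σ.ker := (QuotientGroup.eq_one_iff _).1 (MonoidHom.mem_ker.1 hx)
      exact mem_ker_iff.2 fun v => Subtype.ext (by rw [hval]; exact mem_ker_iff.1 hx' v)
    have hsurj : Function.Surjective (QuotientGroup.map f.ker σ'.ker (MonoidHom.id H) hker) := fun q => by
      obtain ⟨x, rfl⟩ := QuotientGroup.mk'_surjective _ q
      exact ⟨QuotientGroup.mk' _ x, rfl⟩
    exact Cfsg.Lib.QdFree.involves_of_injective (QuotientGroup.kerLift_injective f)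
      (Cfsg.Lib.QuadPair.involves_of_surjective hsurj hi)
  · exact hH
  · exact fun s hs w hw => h.sinv (s : G) (hPS' s hs) (w : V) hw
  · rintro _ ⟨A, hA', rfl⟩ x hx
    exact hmemP x (h.le A hA' (mem_subgroupOf.1 hx))
  · rintro _ ⟨A, hA', rfl⟩
    exact elem_subgroupOf (h.elem A hA')
  · rintro _ ⟨A, hA', rfl⟩ x hx w hw
    exact Subtype.ext (h.fixW A hA' (mem_subgroupOf.1 hx) (w : V) hw)
  · refine top_le_iff.1 fun v _ => ?_
    have key : ∀ x ∈ VH, ∀ hx : x ∈ VH,
        (⟨x, hx⟩ : VH) ∈ AddSubgroup.closure {v | ∃ g, ∃ w ∈ W.comap VH.subtype, v = σ' g w} := by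
      intro x hx'
      induction hx' using AddSubgroup.closure_induction with
      | mem y hy =>
        obtain ⟨g, hg, w, hw, rfl⟩ := hy
        exact fun _ => AddSubgroup.subset_closure ⟨⟨g, hg⟩, ⟨w, hWV hw⟩, hw, Subtype.ext rfl⟩
      | zero => exact fun _ => zero_mem _
      | add y z hy hz ihy ihz => exact fun _ => add_mem (ihy hy) (ihz hz)
      | neg y hy ih => exact fun _ => neg_mem (ih hy)
    exact key v.1 v.2 v.2
  · intro R hR hc hs hne
    have h' := h.sq (R.map H.subtype) (by rintro _ ⟨r, hr, rfl⟩; exact hPS' r (hR hr))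
      (by rintro _ ⟨r, hr, rfl⟩ _ ⟨s, hs', rfl⟩ w hw
          exact congrArg Subtype.val (hc r hr s hs' ⟨w, hWV hw⟩ hw))
      (by rintro _ ⟨r, hr, rfl⟩ w hw; exact congrArg Subtype.val (hs r hr ⟨w, hWV hw⟩ hw))
      (fun hle => hne fun r hr w hw => Subtype.ext (hle (mem_map_of_mem _ hr) (w : V) hw))
    rw [hcard] at h'
    have e1 : Nat.card ↥(W.comap VH.subtype ⊓ fixd σ' R) = Nat.card ↥(W ⊓ fixd σ (R.map H.subtype)) :=
      Nat.card_congr
        { toFun := fun x => ⟨((x.1 : VH) : V), x.2.1, by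
            rintro _ ⟨r, hr, rfl⟩; exact congrArg Subtype.val (x.2.2 r hr)⟩
          invFun := fun x => ⟨⟨x.1, hWV x.2.1⟩, x.2.1, fun r hr => Subtype.ext (x.2.2 _ (mem_map_of_mem _ hr))⟩
          left_inv := fun x => rfl
          right_inv := fun x => rfl }
    have e2 : Nat.card ↥(W.comap VH.subtype) = Nat.card W := Nat.card_congr
        { toFun := fun x => ⟨((x.1 : VH) : V), x.2⟩
          invFun := fun x => ⟨⟨x.1, hWV x.2⟩, x.2⟩
          left_inv := fun x => rfl
          right_inv := fun x => rfl }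
    have e3 : (R.map H.subtype ⊓ pstab σ W) = (R ⊓ pstab σ' (W.comap VH.subtype)).map H.subtype := by
      ext g
      constructor
      · rintro ⟨⟨r, hr, rfl⟩, hg⟩
        exact ⟨r, ⟨hr, fun w hw => Subtype.ext (hg (w : V) hw)⟩, rfl⟩
      · rintro ⟨r, ⟨hr, hg⟩, rfl⟩
        exact ⟨mem_map_of_mem _ hr, fun w hw => congrArg Subtype.val (hg ⟨w, hWV hw⟩ hw)⟩
    rw [e3, hcard] at h'
    rwa [e1, e2]
  · rintro _ ⟨A, hA', rfl⟩ X
    have h' := h.max A hA' (X.map VH.subtype)
    have e1 : Nat.card (X.map VH.subtype) = Nat.card X :=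
      (Nat.card_congr (X.equivMapOfInjective VH.subtype Subtype.val_injective).toEquiv).symm
    have e2 : A ⊓ pstab σ (X.map VH.subtype) = (A.subgroupOf H ⊓ pstab σ' X).map H.subtype := by
      ext g
      constructor
      · rintro ⟨hg, hgx⟩
        exact ⟨⟨g, hA A hA' hg⟩, ⟨hg, fun x hx => Subtype.ext (hgx _ (AddSubgroup.mem_map_of_mem _ hx))⟩, rfl⟩
      · rintro ⟨r, ⟨hr, hgx⟩, rfl⟩
        refine ⟨hr, ?_⟩
        rintro _ ⟨x, hx, rfl⟩
        exact congrArg Subtype.val (hgx x hx)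
    have e3 : Nat.card ↥(X.map VH.subtype ⊓ fixd σ A) = Nat.card ↥(X ⊓ fixd σ' (A.subgroupOf H)) :=
      Nat.card_congr
        { toFun := fun x => ⟨⟨x.1, (by obtain ⟨y, -, e⟩ := x.2.1; exact e ▸ y.2)⟩,
            (by
              obtain ⟨y, hy, e⟩ := x.2.1
              have e' : y = ⟨(x : V), e ▸ y.2⟩ := Subtype.ext e
              exact e' ▸ hy),
            fun a ha => Subtype.ext (x.2.2 (a : G) ha)⟩
          invFun := fun x => ⟨((x.1 : VH) : V), AddSubgroup.mem_map_of_mem _ x.2.1,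
            fun a ha => congrArg Subtype.val (x.2.2 ⟨a, hA A hA' ha⟩ ha)⟩
          left_inv := fun x => rfl
          right_inv := fun x => rfl }
    rw [e1, e2, hcard, e3] at h'
    rwa [Nat.card_congr (subgroupOfEquivOfLe (hA A hA')).toEquiv]
  · intro n hn A' hA'
    obtain ⟨A, hA'', rfl⟩ := hA'
    have hcj : ∀ B ∈ 𝒜, cj n (B.subgroupOf H) = (cj (n : G) B).subgroupOf H := fun B hB => by
      ext x
      simp only [Cfsg.Lib.JComp.mem_cj, mem_subgroupOf]
      rfl
    have hst := h.stable (n : G) (fun B hB => by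
      rintro _ ⟨b, hb, rfl⟩
      exact hPS' _ (hn _ ⟨B, hB, rfl⟩ ⟨⟨b, hA B hB hb⟩, hb, rfl⟩)) A hA''
    exact ⟨_, hst, (hcj A hA'').symm⟩

/-- The offenders act trivially. -/
theorem oh_main : ∀ (m : ℕ) {G : Type u} [Group G] [Finite G] {V : Type v} [AddCommGroup V] [Finite V],
    Nat.card G = m → ∀ {σ : G →* AddMonoid.End V} {S : Sylow 2 G} {W : AddSubgroup V} {𝒜 : Set (Subgroup G)},
      OH σ S W 𝒜 → ∀ A ∈ 𝒜, A ≤ σ.ker := by
  intro m
  induction m using Nat.strong_induction_on with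
  | _ m ih =>
    intro G _ _ V _ _ hm σ S W 𝒜 h
    classical
    haveI : Fact (Nat.Prime 2) := ⟨Nat.prime_two⟩
    set K := σ.ker
    -- reduction through a proper subgroup
    have hrec : ∀ H : Subgroup G, H ≠ ⊤ → Comp H → (∃ P : Sylow 2 H, (P : Subgroup H).map H.subtype =
        (S : Subgroup G) ⊓ H) → (∀ A ∈ 𝒜, A ≤ H) →
        ∀ g ∈ H, ∃ n ∈ H, Perm' 𝒜 n ∧ ∀ w ∈ W, σ g w = σ n w := by
      intro H hne hC ⟨P, hP⟩ hA g hg
      obtain ⟨VH, hVH, hgW, h'⟩ := h.restrict H hC P hP hA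
      have hlt : Nat.card H < m := hm ▸ lt_of_le_of_ne (Nat.le_of_dvd Nat.card_pos H.card_subgroup_dvd_card)
        fun e => hne (eq_top_of_card_eq H e)
      obtain ⟨n, hn, hnw⟩ := h'.translate (ih _ hlt rfl h') ⟨g, hg⟩
      refine ⟨n, n.2, fun A hA' => ?_, fun w hw => ?_⟩
      · have hh := hn _ ⟨A, hA', rfl⟩
        have hback : ∀ k : H, cj k (A.subgroupOf H) ∈ (fun A => A.subgroupOf H) '' 𝒜 → cj (k : G) A ∈ 𝒜 := by
          rintro k ⟨B, hB, e⟩
          rwa [show cj (k : G) A = B from ?_]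
          ext x
          constructor
          · rintro ⟨a, ha, rfl⟩
            exact mem_subgroupOf.1 (e.ge ⟨⟨a, hA A hA' ha⟩, ha, rfl⟩ : (k * ⟨a, hA A hA' ha⟩ * k⁻¹ : H) ∈ B.subgroupOf H)
          · intro hx
            obtain ⟨a, ha, e'⟩ := (e.le (show (⟨x, hA B hB hx⟩ : H) ∈ B.subgroupOf H from hx) :
              (⟨x, hA B hB hx⟩ : H) ∈ cj k (A.subgroupOf H))
            exact ⟨a, ha, congrArg Subtype.val e'⟩
        exact ⟨hback n hh.1, by simpa using hback n⁻¹ hh.2⟩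
      · exact congrArg Subtype.val (hnw ⟨w, by simpa [act_one] using hgW 1 (one_mem _) w hw⟩ hw)
    by_contra hbad
    push Not at hbad
    obtain ⟨A, hA, hAK⟩ := hbad
    -- not all translates are fixed
    have hfin : ¬ ∀ g : G, ∃ n, Perm' 𝒜 n ∧ ∀ w ∈ W, σ g w = σ n w := by
      intro hall
      refine hAK fun a ha => mem_ker_iff.2 fun x => ?_
      have hle : (⊤ : AddSubgroup V) ≤ fixd σ A := h.gen ▸ (AddSubgroup.closure_le _).2 (by
        rintro _ ⟨g, w, hw, rfl⟩ b hb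
        obtain ⟨n, hn, hnw⟩ := hall g
        rw [hnw w hw]
        exact h.perm_fix hn hA hb fun B hB c hc => h.fixW B hB hc w hw)
      exact hle (AddSubgroup.mem_top x) a ha
    set J := ⨆ A ∈ 𝒜, A with hJ
    have hAJ : ∀ A ∈ 𝒜, A ≤ J := fun A hA => le_iSup₂ (f := fun B (_ : B ∈ 𝒜) => B) A hA
    have hJS : J ≤ (S : Subgroup G) := iSup₂_le h.le
    have hJW : J ≤ pstab σ W := iSup₂_le h.fixW
    set L := Cfsg.pResidual 2 G
    have hLS : L ⊔ (S : Subgroup G) = ⊤ := Cfsg.Lib.Transfer.pResidual_sup_sylow S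
    -- `G` is generated by `L` and the offenders
    have hLJ : L ⊔ J = ⊤ := by
      by_contra hne
      refine hfin fun g => ?_
      obtain ⟨l, hl, s, hs, rfl⟩ := mem_sup_of_normal_left.1 (hLS.ge (mem_top g))
      have hl' : ∀ w ∈ W, σ (l * s) w = σ l (σ s w) := fun w _ => act_mul σ l s w
      obtain ⟨n, -, hn, hnw⟩ := hrec (L ⊔ J) hne (comp_sup_two h.comp le_sup_left S.2 (sup_le_sup_left hJS L))
        (exists_sylow_inf S le_sup_left (Or.inl (by rw [sup_comm]; exact hLS)))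
        (fun A hA => (hAJ A hA).trans le_sup_right) l (mem_sup_left hl)
      -- `s` permutes the offenders
      have hs' : Perm' 𝒜 s := h.perm_of_normalizes le_rfl h.le (le_normalizer hs)
      refine ⟨n * s, fun B hB => ?_, fun w hw => ?_⟩
      · rw [← Cfsg.Lib.JComp.cj_cj, mul_inv_rev, ← Cfsg.Lib.JComp.cj_cj]
        exact ⟨(hn _ (hs' B hB).1).1, (hs' _ (hn B hB).2).2⟩
      · rw [act_mul, act_mul, hnw _ (h.sinv s hs w hw)]
    -- the preimage of the core
    haveI : (Cfsg.pCore 2 (G ⧸ K)).Normal := Cfsg.Lib.Components.pCore_normal' 2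
    set R := (Cfsg.pCore 2 (G ⧸ K)).comap (QuotientGroup.mk' K) with hR
    haveI hRn : R.Normal := Subgroup.Normal.comap inferInstance _
    have hKR : K ≤ R := fun k hk => by
      rw [hR, mem_comap, show QuotientGroup.mk' K k = 1 from (QuotientGroup.eq_one_iff k).2 hk]; exact one_mem _
    set T := (S : Subgroup G) ⊓ R
    have hSyl : ∀ H : Subgroup G, (S : Subgroup G) ≤ H →
        ∃ P : Sylow 2 H, (P : Subgroup H).map H.subtype = (S : Subgroup G) ⊓ H := fun H hle =>
      ⟨S.subtype hle, by rw [S.coe_subtype, subgroupOf_map_subtype]⟩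
    -- proper normal subgroups
    have hsmall : ∀ N : Subgroup G, N.Normal → N ⊔ (S : Subgroup G) ≠ ⊤ → (S : Subgroup G) ⊓ N ≤ R := by
      intro N hN hNS
      set T1 := (S : Subgroup G) ⊓ N
      by_cases hX : normalizer (T1 : Set G) = ⊤
      · haveI : T1.Normal := normalizer_eq_top_iff.1 hX
        exact map_le_iff_le_comap.1 (Cfsg.Lib.Components.le_pCore
          (hn := Subgroup.Normal.map inferInstance _ (QuotientGroup.mk'_surjective K))
          ((S.2.to_le inf_le_left).map _))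
      exfalso
      refine hfin fun g => ?_
      obtain ⟨x, hx, c, hc, e⟩ := frattini_inf S N g⁻¹
      have eg : g = c⁻¹ * x⁻¹ := by rw [← mul_inv_rev, ← e, inv_inv]
      have hSX : (S : Subgroup G) ≤ normalizer (T1 : Set G) :=
        Cfsg.Lib.Coprime.le_normalizer_inf le_normalizer (le_top.trans (normalizer_eq_top (H := N)).ge)
      obtain ⟨n1, hn1X, hn1, hn1w⟩ := hrec _ hX (comp_normalizer h.comp S N) (hSyl _ hSX)
        (fun A hA => (h.le A hA).trans hSX) x⁻¹ (inv_mem hx)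
      obtain ⟨n', -, hn', hn'w⟩ := hrec (N ⊔ (S : Subgroup G)) hNS (comp_sup_two h.comp le_sup_left S.2 le_rfl)
        (hSyl _ le_sup_right) (fun A hA => (h.le A hA).trans le_sup_right)
        (n1⁻¹ * c⁻¹ * n1) (mem_sup_left (by simpa using hN.conj_mem _ (inv_mem hc) n1⁻¹))
      refine ⟨n1 * n', fun B hB => ?_, fun w hw => ?_⟩
      · rw [← Cfsg.Lib.JComp.cj_cj, mul_inv_rev, ← Cfsg.Lib.JComp.cj_cj]
        exact ⟨(hn1 _ (hn' B hB).1).1, (hn' _ (hn1 B hB).2).2⟩
      · rw [eg, act_mul, hn1w w hw, act_mul σ n1 n', ← hn'w w hw, ← act_mul, ← act_mul,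
          show n1 * (n1⁻¹ * c⁻¹ * n1) = c⁻¹ * n1 by group]
    -- sections with non-trivial action of `L`
    set B0 := A ⊓ R with hB0def
    obtain ⟨B, hBA, hB0, hdec, hBcard⟩ := exists_complement (h.elem A hA) (inf_le_left : B0 ≤ A)
    have hsec : ∀ {X : Type v} [AddCommGroup X] [Finite X] (τ : G →* AddMonoid.End X), (∀ x : X, x + x = 0) →
        K ≤ τ.ker → ¬ L ≤ τ.ker →
        Nat.card B ^ 2 * Nat.card (fixd τ B) ≤ Nat.card X ∧ Nat.card B ^ 2 ≤ Nat.card (commd τ B) := by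
      intro X _ _ τ h2 hKτ hLτ
      haveI : (Cfsg.pCore 2 (G ⧸ τ.ker)).Normal := Cfsg.Lib.Components.pCore_normal' 2
      set Rτ := (Cfsg.pCore 2 (G ⧸ τ.ker)).comap (QuotientGroup.mk' τ.ker) with hRτ
      have hsurj : Function.Surjective (QuotientGroup.map K τ.ker (MonoidHom.id G) hKτ) := fun q => by
        obtain ⟨x, rfl⟩ := QuotientGroup.mk'_surjective _ q
        exact ⟨QuotientGroup.mk' _ x, rfl⟩
      refine bd_of_quotient τ h2 ⟨fun hi => h.free (Cfsg.Lib.QuadPair.involves_of_surjective hsurj hi),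
        comp_quotient h.comp _⟩ (elem_le (h.elem A hA) hBA) fun b hb hbc => ?_
      have hNS : Rτ ⊔ (S : Subgroup G) ≠ ⊤ := by
        intro e
        refine hLτ (Cfsg.Lib.Transfer.pResidual_le ?_)
        have h2' : IsPGroup 2 ↥(Cfsg.pCore 2 (G ⧸ τ.ker) ⊔ (S : Subgroup G).map (QuotientGroup.mk' τ.ker)) :=
          IsPGroup.to_sup_of_normal_left (Cfsg.Lib.Components.isPGroup_pCore 2) (S.2.map _)
        have htop : Cfsg.pCore 2 (G ⧸ τ.ker) ⊔ (S : Subgroup G).map (QuotientGroup.mk' τ.ker) = ⊤ := by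
          rw [← map_comap_eq_self_of_surjective (QuotientGroup.mk'_surjective τ.ker) (Cfsg.pCore 2 (G ⧸ τ.ker)),
            ← Subgroup.map_sup, ← hRτ, e, map_top_of_surjective _ (QuotientGroup.mk'_surjective τ.ker)]
        rw [htop] at h2'
        exact h2'.of_equiv Subgroup.topEquiv
      exact mem_bot.1 (hB0 ▸ mem_inf.2 ⟨hb, hBA hb,
        hsmall Rτ (Subgroup.Normal.comap inferInstance _) hNS (mem_inf.2 ⟨h.le A hA (hBA hb), mem_comap.2 hbc⟩)⟩)
    -- the offender inequality and the consequence of the three-halves bound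
    have hmax : Nat.card V * Nat.card ↥(A ⊓ K) ≤ Nat.card A * Nat.card (fixd σ A) := by
      have := h.max A hA ⊤
      rwa [pstab_top, top_inf_eq, AddSubgroup.card_top] at this
    -- representatives in `T`
    have hrep : ∀ f ∈ R, ∃ t ∈ T, ∀ x, σ f x = σ t x := by
      intro f hf
      obtain ⟨P, hP⟩ := exists_sylow_inf S (N := R) (H := R) le_rfl (Or.inr rfl)
      have hidx : IsPGroup 2 (R ⧸ K.subgroupOf R) := by
        intro q
        obtain ⟨⟨x, hx⟩, rfl⟩ := QuotientGroup.mk'_surjective _ q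
        obtain ⟨s, hs⟩ := Cfsg.Lib.Components.isPGroup_pCore (G := G ⧸ K) 2 ⟨_, hx⟩
        refine ⟨s, ?_⟩
        rw [← map_pow]
        exact (QuotientGroup.eq_one_iff _).2 (mem_subgroupOf.2 ((QuotientGroup.eq_one_iff _).1
          (congrArg Subtype.val hs)))
      obtain ⟨i, hi⟩ := IsPGroup.iff_card.1 hidx
      rw [← Subgroup.index_eq_card] at hi
      obtain ⟨k, hk, t, ht, e⟩ := mem_sup_of_normal_left.1
        ((Cfsg.Lib.Transfer.sup_sylow_eq_top hi P).ge (mem_top (⟨f, hf⟩ : R)))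
      refine ⟨t, hP.le (mem_map_of_mem R.subtype ht), fun x => ?_⟩
      rw [show f = (k : G) * t from (congrArg Subtype.val e).symm, act_mul,
        mem_ker_iff.1 (mem_subgroupOf.1 hk)]
    have hRW : ∀ f ∈ R, ∀ w ∈ W, σ f w ∈ W := fun f hf w hw => by
      obtain ⟨t, ht, e⟩ := hrep f hf
      rw [e]
      exact h.sinv t (mem_inf.1 ht).1 w hw
    have hgW : ∀ g : G, ∃ n ∈ normalizer (T : Set G), ∀ w ∈ W, ∃ w' ∈ W, σ g w = σ n w' := by
      intro g
      obtain ⟨n, hn, c, hc, rfl⟩ := frattini_inf S R g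
      exact ⟨n, hn, fun w hw => ⟨σ c w, hRW c hc w hw, act_mul σ n c w⟩⟩
    have hsqV : ∀ Y ≤ T, (∀ r ∈ Y, ∀ s ∈ Y, ∀ x, σ (r * s) x = σ (s * r) x) → (∀ r ∈ Y, ∀ x, σ (r * r) x = x) →
        ¬ Y ≤ K → Nat.card Y ^ 3 * Nat.card (fixd σ Y) ^ 2 < Nat.card V ^ 2 * Nat.card ↥(Y ⊓ K) ^ 3 := by
      refine sq_span σ (fun n : normalizer (T : Set G) => W.map (σ (n : G))) ?_ T ?_
      · refine top_le_iff.1 (h.gen ▸ (AddSubgroup.closure_le _).2 ?_)
        rintro _ ⟨g, w, hw, rfl⟩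
        obtain ⟨n, hn, e⟩ := hgW g
        obtain ⟨w', hw', e'⟩ := e w hw
        rw [e']
        exact AddSubgroup.mem_iSup_of_mem (⟨n, hn⟩ : normalizer (T : Set G)) (AddSubgroup.mem_map_of_mem _ hw')
      · rintro ⟨n, hn⟩ Y hY hc hs hne
        have hY' : cj n⁻¹ Y ≤ (S : Subgroup G) := by
          rintro _ ⟨y, hy, rfl⟩
          exact (mem_inf.1 (conj_mem (inv_mem hn) (hY hy))).1
        have hact : ∀ (y : G) (w : V), σ (n⁻¹ * y * n⁻¹⁻¹) w = σ n⁻¹ (σ y (σ n w)) := fun y w => by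
          rw [inv_inv, act_mul, act_mul]
        have hiff : ∀ (y : G) (w : V), σ (n⁻¹ * y * n⁻¹⁻¹) w = w ↔ σ y (σ n w) = σ n w := fun y w => by
          rw [hact]
          exact ⟨fun e => act_injective σ n⁻¹ (e.trans (act_inv_apply σ n w).symm),
            fun e => by rw [e, act_inv_apply]⟩
        have h' := h.sq _ hY' (by
          rintro _ ⟨r, hr, rfl⟩ _ ⟨s, hs', rfl⟩ w hw
          show σ ((n⁻¹ * r * n⁻¹⁻¹) * (n⁻¹ * s * n⁻¹⁻¹)) w = σ ((n⁻¹ * s * n⁻¹⁻¹) * (n⁻¹ * r * n⁻¹⁻¹)) w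
          rw [conj_mul, conj_mul, hact, hact]
          exact congrArg _ (hc r hr s hs' _ (AddSubgroup.mem_map_of_mem _ hw))) (by
          rintro _ ⟨r, hr, rfl⟩ w hw
          show σ ((n⁻¹ * r * n⁻¹⁻¹) * (n⁻¹ * r * n⁻¹⁻¹)) w = w
          rw [conj_mul, hiff]
          exact hs r hr _ (AddSubgroup.mem_map_of_mem _ hw)) (by
          intro hle
          refine hne fun y hy => ?_
          rintro _ ⟨w, hw, rfl⟩
          exact (hiff y w).1 (hle ⟨y, hy, rfl⟩ w hw))
        have e1 : Nat.card ↥(W.map (σ n)) = Nat.card W :=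
          (Nat.card_congr (W.equivMapOfInjective _ (act_injective σ n)).toEquiv).symm
        have e2 : Nat.card ↥(W.map (σ n) ⊓ fixd σ Y) = Nat.card ↥(W ⊓ fixd σ (cj n⁻¹ Y)) := by
          have e : W.map (σ n) ⊓ fixd σ Y = (W ⊓ fixd σ (cj n⁻¹ Y)).map (σ n) := by
            ext v
            constructor
            · rintro ⟨⟨w, hw, rfl⟩, hv⟩
              exact ⟨w, ⟨hw, by rintro _ ⟨y, hy, rfl⟩; exact (hiff y w).2 (hv y hy)⟩, rfl⟩
            · rintro ⟨w, ⟨hw, hv⟩, rfl⟩
              exact ⟨AddSubgroup.mem_map_of_mem _ hw, fun y hy => (hiff y w).1 (hv _ ⟨y, hy, rfl⟩)⟩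
          rw [e]
          exact (Nat.card_congr (AddSubgroup.equivMapOfInjective _ _ (act_injective σ n)).toEquiv).symm
        have e3 : cj n⁻¹ Y ⊓ pstab σ W = cj n⁻¹ (Y ⊓ pstab σ (W.map (σ n))) := by
          ext g
          constructor
          · rintro ⟨⟨y, hy, rfl⟩, hg⟩
            exact ⟨y, ⟨hy, by rintro _ ⟨w, hw, rfl⟩; exact (hiff y w).1 (hg w hw)⟩, rfl⟩
          · rintro ⟨y, ⟨hy, hg⟩, rfl⟩
            exact ⟨⟨y, hy, rfl⟩, fun w hw => (hiff y w).2 (hg _ (AddSubgroup.mem_map_of_mem _ hw))⟩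
        rw [Cfsg.Lib.JComp.card_cj, e3, Cfsg.Lib.JComp.card_cj, ← e2] at h'
        rwa [e1]
    set a1 := Nat.card B0
    set b := Nat.card B
    set c := Nat.card ↥(A ⊓ K)
    set fA := Nat.card (fixd σ A)
    have hfB : fA ≤ Nat.card (fixd σ B) := Nat.le_of_dvd Nat.card_pos
      (AddSubgroup.card_dvd_of_le (fixd_mono σ hBA))
    have hVab : Nat.card V * c ≤ a1 * b * fA :=
      hmax.trans (Nat.mul_le_mul_right _ hBcard)
    -- `L` is non-trivial on the module
    set M := moves σ L ⊤ with hM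
    have hMinv := moves_invariant σ L (X := ⊤) fun _ _ _ => AddSubgroup.mem_top _
    have hJS' : ∀ j ∈ J, ∀ w ∈ W, σ j w = w := fun j hj w hw => hJW hj w hw
    have hUM : ∀ g : G, ∀ v : V, σ g v - v ∈ M := by
      set X := W ⊔ M
      have hmem : ∀ g : G, ∀ v ∈ X, σ g v - v ∈ M := by
        let H : Subgroup G :=
          { carrier := {g | ∀ v ∈ X, σ g v - v ∈ M}
            one_mem' := fun v _ => by rw [act_one, sub_self]; exact zero_mem _
            mul_mem' := fun {g k} hg hk v hv => by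
              show σ (g * k) v - v ∈ M
              have e : σ (g * k) v - v = σ g (σ k v - v) + (σ g v - v) := by rw [act_mul, map_sub]; abel
              rw [e]
              exact add_mem (hMinv g _ (hk v hv)) (hg v hv)
            inv_mem' := fun {g} hg v hv => by
              show σ g⁻¹ v - v ∈ M
              have e : σ g⁻¹ v - v = -σ g⁻¹ (σ g v - v) := by rw [map_sub, act_inv_apply]; abel
              rw [e]
              exact neg_mem (hMinv g⁻¹ _ (hg v hv)) }
        have hH : L ⊔ J ≤ H := sup_le (fun l hl v _ => moves_mem hl (AddSubgroup.mem_top v)) fun j hj v hv => by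
          obtain ⟨w, hw, m', hm', rfl⟩ := AddSubgroup.mem_sup.1 hv
          rw [map_add, hJS' j hj w hw, show w + σ j m' - (w + m') = σ j m' - m' by abel]
          exact sub_mem (hMinv j m' hm') hm'
        exact fun g => (hLJ ▸ hH) (mem_top g)
      have htop : X = ⊤ := top_le_iff.1 (h.gen ▸ (AddSubgroup.closure_le _).2 (by
        rintro _ ⟨g, w, hw, rfl⟩
        have := add_mem (AddSubgroup.mem_sup_right (S := W) (hmem g w (AddSubgroup.mem_sup_left hw)))
          (AddSubgroup.mem_sup_left (T := M) hw)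
        simpa using this))
      exact fun g v => hmem g v (htop ▸ AddSubgroup.mem_top v)
    have hWM : ∀ v : V, ∃ w ∈ W, v - w ∈ M := by
      intro v
      have : v ∈ W ⊔ M := by
        refine (h.gen ▸ (AddSubgroup.closure_le _).2 ?_ : (⊤ : AddSubgroup V) ≤ W ⊔ M) (AddSubgroup.mem_top v)
        rintro _ ⟨g, w, hw, rfl⟩
        rw [show σ g w = w + (σ g w - w) by abel]
        exact AddSubgroup.add_mem _ (AddSubgroup.mem_sup_left hw) (AddSubgroup.mem_sup_right (hUM g w))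
      obtain ⟨w, hw, m', hm', rfl⟩ := AddSubgroup.mem_sup.1 this
      exact ⟨w, hw, by rw [add_sub_cancel_left]; exact hm'⟩
    have hodd : ∀ {l : G}, (orderOf l).Coprime 2 → Odd (orderOf l) := fun h => Nat.coprime_two_right.1 h
    -- an `L`-invariant subgroup on which and modulo which `L` is trivial
    have hLfix : ∀ (Z : AddSubgroup V) (x : V), (∀ l ∈ L, ∀ z ∈ Z, σ l z = z) → (∀ l ∈ L, σ l x - x ∈ Z) →
        ∀ l ∈ L, σ l x = x := by
      intro Z x hZ hx l hl
      have hle : L ≤ pstab σ (AddSubgroup.closure {x}) := by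
        refine (closure_le _).2 fun g hg v hv => ?_
        have hgL : g ∈ L := Cfsg.Lib.Transfer.mem_pResidual_of_coprime hg
        have hgx : σ g x = x := fix_of_stab σ h.two (hodd hg) (hZ g hgL _ (hx g hgL))
        obtain ⟨i, rfl⟩ := AddSubgroup.mem_closure_singleton.1 hv
        rw [map_zsmul, hgx]
      exact hle hl x (AddSubgroup.subset_closure rfl)
    have hLM : ¬ ∀ l ∈ L, ∀ x ∈ M, σ l x = x := by
      intro hall
      have hfix : ∀ l ∈ L, ∀ v, σ l v = v := fun l hl v =>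
        hLfix M v hall (fun k hk => moves_mem hk (AddSubgroup.mem_top v)) l hl
      have hM0 : M ≤ ⊥ := moves_le fun l hl x _ => by rw [hfix l hl, sub_self]; exact zero_mem _
      refine hfin fun g => ⟨1, fun B hB => ?_, fun w _ => ?_⟩
      · simp [inv_one, Cfsg.Lib.JComp.cj_one, hB]
      · rw [act_one]
        exact sub_eq_zero.1 (AddSubgroup.mem_bot.1 (hM0 (hUM g w)))
    -- the invariant proper subgroups of `M`
    set Z0 := M ⊓ fixd σ L with hZ0
    have hZ0inv := fix_inf_invariant σ L hMinv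
    have hLM' : ¬ L ≤ (resAct σ M hMinv).ker := fun hle => hLM fun l hl x hx =>
      congrArg Subtype.val (mem_ker_iff.1 (hle hl) ⟨x, hx⟩)
    have hKM : ∀ {X : AddSubgroup V} (hX : ∀ g, ∀ x ∈ X, σ g x ∈ X), K ≤ (resAct σ X hX).ker :=
      fun hX k hk => mem_ker_iff.2 fun x => Subtype.ext (mem_ker_iff.1 hk (x : V))
    have hbM := (hsec (resAct σ M hMinv) (two_sub h.two M) (hKM hMinv) hLM').1
    have hb2 : b ^ 2 * fA ≤ Nat.card V := by
      refine Nat.le_of_mul_le_mul_right ?_ (Nat.card_pos (α := M))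
      calc b ^ 2 * fA * Nat.card M ≤ b ^ 2 * (Nat.card (fixd σ B) * Nat.card M) := by
            rw [mul_assoc]; exact Nat.mul_le_mul_left _ (Nat.mul_le_mul_right _ hfB)
        _ ≤ b ^ 2 * (Nat.card (fixd (resAct σ M hMinv) B) * Nat.card V) :=
            Nat.mul_le_mul_left _ (card_fixd_sub_le σ M hMinv B)
        _ = (b ^ 2 * Nat.card (fixd (resAct σ M hMinv) B)) * Nat.card V := by ring
        _ ≤ Nat.card M * Nat.card V := Nat.mul_le_mul_right _ hbM
        _ = _ := mul_comm _ _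
    have hfA : 0 < fA := Nat.card_pos
    have hc0 : 0 < c := Nat.card_pos
    have hB0K : ¬ B0 ≤ K := by
      intro hle
      have hac : a1 ≤ c := card_le_of_le (le_inf inf_le_left hle)
      have hb1 : b ≤ 1 := by
        have h1 : b ^ 2 * fA * c ≤ c * b * fA :=
          (Nat.mul_le_mul_right c hb2).trans (hVab.trans (Nat.mul_le_mul_right _ (Nat.mul_le_mul_right _ hac)))
        have h2 : b * (b * fA * c) ≤ 1 * (b * fA * c) := le_trans (le_of_eq (by ring)) (h1.trans (le_of_eq (by ring)))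
        exact Nat.le_of_mul_le_mul_right h2 (Nat.mul_pos (Nat.mul_pos Nat.card_pos hfA) hc0)
      refine hAK fun a ha => ?_
      obtain ⟨x, hx, y, hy, rfl⟩ := hdec a ha
      have hy1 : y = 1 := mem_bot.1 ((Subgroup.card_le_one_iff_eq_bot B).1 hb1 ▸ hy)
      rw [hy1, mul_one]
      exact hle hx
    have hB0T : B0 ≤ T := le_inf (inf_le_left.trans (h.le A hA)) inf_le_right
    have ha1 : a1 < b ^ 2 * c := by
      have hs := hsqV B0 hB0T (fun r hr s hs x => by rw [elem_comm (h.elem A hA) hr.1 hs.1])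
        (fun r hr x => by rw [elem_sq (h.elem A hA) hr.1, act_one]) hB0K
      have hfB0 : fA ≤ Nat.card (fixd σ B0) := Nat.le_of_dvd Nat.card_pos
        (AddSubgroup.card_dvd_of_le (fixd_mono σ inf_le_left))
      have hK0 : Nat.card ↥(B0 ⊓ K) ≤ c := card_le_of_le (inf_le_inf_right _ inf_le_left)
      by_contra hge
      push Not at hge
      have h1 : a1 ^ 3 * fA ^ 2 * c ^ 2 < (a1 * b * fA) ^ 2 * c ^ 3 := by
        calc a1 ^ 3 * fA ^ 2 * c ^ 2 ≤ a1 ^ 3 * Nat.card (fixd σ B0) ^ 2 * c ^ 2 :=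
              Nat.mul_le_mul_right _ (Nat.mul_le_mul_left _ (Nat.pow_le_pow_left hfB0 2))
          _ < Nat.card V ^ 2 * Nat.card ↥(B0 ⊓ K) ^ 3 * c ^ 2 :=
              Nat.mul_lt_mul_of_pos_right hs (pow_pos hc0 2)
          _ ≤ Nat.card V ^ 2 * c ^ 3 * c ^ 2 :=
              Nat.mul_le_mul_right _ (Nat.mul_le_mul_left _ (Nat.pow_le_pow_left hK0 3))
          _ = (Nat.card V * c) ^ 2 * c ^ 3 := by ring
          _ ≤ (a1 * b * fA) ^ 2 * c ^ 3 := Nat.mul_le_mul_right _ (Nat.pow_le_pow_left hVab 2)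
      have h2 : (a1 * b * fA) ^ 2 * c ^ 3 ≤ a1 ^ 3 * fA ^ 2 * c ^ 2 :=
        calc (a1 * b * fA) ^ 2 * c ^ 3 = (a1 ^ 2 * fA ^ 2 * c ^ 2) * (b ^ 2 * c) := by ring
          _ ≤ (a1 ^ 2 * fA ^ 2 * c ^ 2) * a1 := Nat.mul_le_mul_left _ hge
          _ = _ := by ring
      omega
    have hlim : Nat.card V < b ^ 3 * fA := by
      refine Nat.lt_of_mul_lt_mul_right (a := c) ?_
      calc Nat.card V * c ≤ a1 * b * fA := hVab
        _ < b ^ 2 * c * b * fA :=
            Nat.mul_lt_mul_of_pos_right (Nat.mul_lt_mul_of_pos_right ha1 Nat.card_pos) hfA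
        _ = _ := by ring
    have hmin : ∀ X : AddSubgroup V, X ≤ M → (∀ g, ∀ x ∈ X, σ g x ∈ X) → X ≠ M → X ≤ Z0 := by
      intro X hXM hX hne
      refine le_inf hXM fun x hx l hl => by_contra fun hlx => ?_
      set σM := resAct σ M hMinv
      set X' := X.comap M.subtype with hX'def
      have hX' : ∀ g, ∀ z ∈ X', σM g z ∈ X' := fun g z hz => hX g z hz
      have hL1 : ¬ L ≤ (resAct σM X' hX').ker := fun hle => hlx (congrArg (fun z : X' => ((z : M) : V))
        (mem_ker_iff.1 (hle hl) (⟨⟨x, hXM hx⟩, hx⟩ : X')))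
      have hL2 : ¬ L ≤ (quoAct σM X' hX').ker := by
        intro hle
        refine hne (le_antisymm hXM ?_)
        have hM2 : ∀ k ∈ L, ∀ z ∈ M, σ k z - z ∈ X := fun k hk z hz => by
          have := mem_ker_iff.1 (hle hk) (QuotientAddGroup.mk (s := X') (⟨z, hz⟩ : M))
          exact (QuotientAddGroup.eq_iff_sub_mem.1 this :)
        refine moves_le fun k hk z _ => ?_
        -- stability in the quotient by `X`
        have hq : ∀ k ∈ L, quoAct σ X hX k (QuotientAddGroup.mk z) = QuotientAddGroup.mk z := by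
          intro k hk
          have hle' : L ≤ pstab (quoAct σ X hX) (AddSubgroup.closure {QuotientAddGroup.mk z}) := by
            refine (closure_le _).2 fun g hg v hv => ?_
            have hgL : g ∈ L := Cfsg.Lib.Transfer.mem_pResidual_of_coprime hg
            have hgz := fix_of_stab (quoAct σ X hX) (two_quo h.two X) (hodd hg) (v := QuotientAddGroup.mk z) (by
              rw [quoAct_mk, ← QuotientAddGroup.mk_sub, quoAct_mk, QuotientAddGroup.eq_iff_sub_mem]
              exact hM2 g hgL _ (hUM g z))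
            obtain ⟨i, rfl⟩ := AddSubgroup.mem_closure_singleton.1 hv
            rw [map_zsmul, hgz]
          exact hle' hk _ (AddSubgroup.subset_closure rfl)
        have := hq k hk
        rw [quoAct_mk, QuotientAddGroup.eq_iff_sub_mem] at this
        exact this
      have hK1 : K ≤ (resAct σM X' hX').ker := fun k hk => mem_ker_iff.2 fun z =>
        Subtype.ext (mem_ker_iff.1 (hKM hMinv hk) (z : M))
      have hK2 : K ≤ (quoAct σM X' hX').ker := fun k hk => mem_ker_iff.2 fun q => by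
        obtain ⟨z, rfl⟩ := QuotientAddGroup.mk_surjective q
        rw [quoAct_mk, mem_ker_iff.1 (hKM hMinv hk)]
      have h1 := (hsec _ (two_sub (two_sub h.two M) X') hK1 hL1).1
      have h2 := (hsec _ (two_quo (two_sub h.two M) X') hK2 hL2).1
      have h3 : b ^ 4 * Nat.card (fixd σM B) ≤ Nat.card M :=
        calc b ^ 4 * Nat.card (fixd σM B)
            ≤ b ^ 4 * (Nat.card (fixd (resAct σM X' hX') B) * Nat.card (fixd (quoAct σM X' hX') B)) :=
              Nat.mul_le_mul_left _ (card_fixd_le σM X' hX' le_rfl le_rfl)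
          _ = (b ^ 2 * Nat.card (fixd (resAct σM X' hX') B)) * (b ^ 2 * Nat.card (fixd (quoAct σM X' hX') B)) := by
              ring
          _ ≤ Nat.card X' * Nat.card (M ⧸ X') := Nat.mul_le_mul h1 h2
          _ = Nat.card M := by rw [AddSubgroup.card_eq_card_quotient_mul_card_addSubgroup X', mul_comm]
      have h4 : b ^ 4 * fA ≤ Nat.card V := by
        refine Nat.le_of_mul_le_mul_right ?_ (Nat.card_pos (α := M))
        calc b ^ 4 * fA * Nat.card M ≤ b ^ 4 * (Nat.card (fixd σ B) * Nat.card M) := by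
              rw [mul_assoc]; exact Nat.mul_le_mul_left _ (Nat.mul_le_mul_right _ hfB)
          _ ≤ b ^ 4 * (Nat.card (fixd σM B) * Nat.card V) :=
              Nat.mul_le_mul_left _ (card_fixd_sub_le σ M hMinv B)
          _ = (b ^ 4 * Nat.card (fixd σM B)) * Nat.card V := by ring
          _ ≤ Nat.card M * Nat.card V := Nat.mul_le_mul_right _ h3
          _ = _ := mul_comm _ _
      have h5 : b ^ 3 * fA ≤ b ^ 4 * fA := Nat.mul_le_mul_right _ (Nat.pow_le_pow_right Nat.card_pos (by omega))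
      omega
    have hZne : Z0 ≠ M := fun e => hLM fun l hl x hx => (e.ge hx).2 l hl
    -- `R` is trivial on `M` modulo `Z0`
    have hRZ : ∀ f ∈ R, ∀ x ∈ M, σ f x - x ∈ Z0 := by
      set σM := resAct σ M hMinv
      set Z' := Z0.comap M.subtype
      have hZ' : ∀ g, ∀ z ∈ Z', σM g z ∈ Z' := fun g z hz => hZ0inv g z hz
      set τ := quoAct σM Z' hZ'
      set F := fixd τ R
      have hFinv : ∀ g, ∀ q ∈ F, τ g q ∈ F := fun g q hq =>
        fixd_invariant τ (fun f hf => by simpa using hRn.conj_mem f hf g⁻¹) hq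
      set X := (F.comap (QuotientAddGroup.mk' Z')).map M.subtype with hXdef
      have hXM : X ≤ M := AddSubgroup.map_subtype_le _
      have hXinv : ∀ g, ∀ x ∈ X, σ g x ∈ X := by
        rintro g _ ⟨z, hz, rfl⟩
        refine ⟨σM g z, ?_, rfl⟩
        show QuotientAddGroup.mk (σM g z) ∈ F
        rw [← quoAct_mk]
        exact hFinv g _ hz
      have hXeq : X = M := by
        by_contra hne
        have hnt : (⊤ : AddSubgroup (M ⧸ Z')) ≠ ⊥ := by
          intro e
          refine hZne (le_antisymm inf_le_left fun x hx => ?_)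
          have : (QuotientAddGroup.mk (⟨x, hx⟩ : M) : M ⧸ Z') = 0 :=
            AddSubgroup.mem_bot.1 (e ▸ AddSubgroup.mem_top _)
          exact ((QuotientAddGroup.eq_zero_iff (⟨x, hx⟩ : M)).1 this :)
        obtain ⟨q, -, hq0, hqT⟩ := fixd_ne_bot τ (S.2.to_le (inf_le_left : T ≤ _)) ⊤
          (fun _ _ _ _ => AddSubgroup.mem_top _) hnt (two_quo (two_sub h.two M) Z')
        obtain ⟨z, rfl⟩ := QuotientAddGroup.mk_surjective q
        refine hq0 ((QuotientAddGroup.eq_zero_iff z).2 (hmin X hXM hXinv hne ⟨z, ?_, rfl⟩))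
        intro f hf
        obtain ⟨t, ht, e⟩ := hrep f hf
        show τ f (QuotientAddGroup.mk z) = QuotientAddGroup.mk z
        rw [quoAct_mk]
        have : σM f z = σM t z := Subtype.ext (e (z : V))
        rw [this, ← quoAct_mk]
        exact hqT t ht
      intro f hf x hx
      obtain ⟨z, hz, e⟩ := hXeq.ge hx
      obtain rfl : (z : V) = x := e
      have := hz f hf
      change QuotientAddGroup.mk (σM f z) = QuotientAddGroup.mk z at this
      exact (QuotientAddGroup.eq_iff_sub_mem.1 this :)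
    -- `[V, R] ≤ W`
    have hfixWZ : ∀ g : G, ∀ z ∈ W ⊓ Z0, σ g z = z := by
      intro g z hz
      have hle : L ⊔ J ≤ pstab σ (AddSubgroup.closure {z}) := sup_le
        (fun l hl v hv => by
          obtain ⟨i, rfl⟩ := AddSubgroup.mem_closure_singleton.1 hv
          rw [map_zsmul, hz.2.2 l hl])
        (fun j hj v hv => by
          obtain ⟨i, rfl⟩ := AddSubgroup.mem_closure_singleton.1 hv
          rw [map_zsmul, hJS' j hj z hz.1])
      exact hle (hLJ ▸ mem_top g) z (AddSubgroup.subset_closure rfl)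
    have hconj : ∀ (g f : G) (x : V), σ f (σ g x) - σ g x = σ g (σ (g⁻¹ * f * g) x - x) := fun g f x => by
      rw [map_sub, ← act_mul, ← act_mul, show g * (g⁻¹ * f * g) = f * g by group]
    have hconjR : ∀ (g f : G), f ∈ R → g⁻¹ * f * g ∈ R := fun g f hf => by
      simpa using hRn.conj_mem f hf g⁻¹
    have hUR : ∀ f ∈ R, ∀ v : V, σ f v - v ∈ W := by
      by_cases hWZ : W ⊓ M ≤ Z0
      · have hall : (⊤ : AddSubgroup V) ≤ ⨅ f : R, (W ⊓ Z0).comap (dsub σ (f : G)) := by
          rw [← h.gen, AddSubgroup.closure_le]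
          rintro _ ⟨g, w, hw, rfl⟩
          simp only [SetLike.mem_coe, AddSubgroup.mem_iInf]
          intro f
          show σ (f : G) (σ g w) - σ g w ∈ W ⊓ Z0
          have hw' : σ (g⁻¹ * f * g) w - w ∈ W := AddSubgroup.sub_mem _ (hRW _ (hconjR g f f.2) w hw) hw
          have hd : σ (g⁻¹ * f * g) w - w ∈ W ⊓ Z0 :=
            AddSubgroup.mem_inf.2 ⟨hw', hWZ (AddSubgroup.mem_inf.2 ⟨hw', hUM _ w⟩)⟩
          rw [hconj, hfixWZ g _ hd]
          exact hd
        intro f hf v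
        exact ((AddSubgroup.mem_iInf.1 (hall (AddSubgroup.mem_top v))) ⟨f, hf⟩).1
      · set X : AddSubgroup V :=
          M ⊓ ⨅ f : R, (W ⊓ Z0).comap (dsub σ (f : G)) with hXdef
        have hmemX : ∀ x, x ∈ X ↔ x ∈ M ∧ ∀ f ∈ R, σ f x - x ∈ W ⊓ Z0 := by
          intro x
          rw [hXdef, AddSubgroup.mem_inf, AddSubgroup.mem_iInf]
          exact ⟨fun h => ⟨h.1, fun f hf => h.2 ⟨f, hf⟩⟩, fun h => ⟨h.1, fun f => h.2 f f.2⟩⟩
        have hXinv : ∀ g, ∀ x ∈ X, σ g x ∈ X := by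
          intro g x hx
          rw [hmemX] at hx ⊢
          refine ⟨hMinv g x hx.1, fun f hf => ?_⟩
          rw [hconj, hfixWZ g _ (hx.2 _ (hconjR g f hf))]
          exact hx.2 _ (hconjR g f hf)
        have hsub : W ⊓ M ≤ X := fun x hx => (hmemX x).2 ⟨hx.2, fun f hf =>
          AddSubgroup.mem_inf.2 ⟨AddSubgroup.sub_mem _ (hRW f hf x hx.1) hx.1, hRZ f hf x hx.2⟩⟩
        have hXM : X = M := by_contra fun hne => hWZ (hsub.trans (hmin X inf_le_left hXinv hne))
        intro f hf v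
        obtain ⟨w, hw, hm'⟩ := hWM v
        have e : σ f v - v = (σ f w - w) + (σ f (v - w) - (v - w)) := by rw [map_sub]; abel
        rw [e]
        exact add_mem (sub_mem (hRW f hf w hw) hw) (((hmemX _).1 (hXM.ge hm')).2 f hf).1
    -- elements of `R` trivial on `Z0`
    set F1 := R ⊓ pstab σ Z0 with hF1
    haveI hF1n : F1.Normal := ⟨fun f hf g => ⟨hRn.conj_mem f hf.1 g, fun z hz => by
      have h1 := hf.2 _ (hZ0inv g⁻¹ z hz)
      rw [act_mul, act_mul, h1, ← act_mul, mul_inv_cancel, act_one]⟩⟩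
    have hF1M : ¬ ∀ f ∈ F1, ∀ x ∈ M, σ f x = x := by
      intro hall
      -- then `R` commutes with `L` on `M`
      refine hB0K fun f hf => mem_ker_iff.2 fun v => ?_
      have hfM : ∀ x ∈ M, σ f x = x := by
        have hcomm : ∀ l ∈ L, ∀ x ∈ M, σ f (σ l x) = σ l (σ f x) := by
          intro l hl x hx
          have hlf : l⁻¹ * f⁻¹ * l * f ∈ F1 := by
            refine ⟨mul_mem (hconjR l _ (inv_mem hf.2)) hf.2, fun z hz => ?_⟩
            have hz' := hZ0inv f z hz
            rw [act_mul, act_mul, act_mul, hz'.2 l hl, act_inv_apply, hz.2 l⁻¹ (inv_mem hl)]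
          have h1 := hall _ hlf x hx
          rw [act_mul, act_mul, act_mul] at h1
          have h2 : σ f⁻¹ (σ l (σ f x)) = σ l x := by
            have := congrArg (σ l) h1
            rwa [← act_mul σ l l⁻¹, mul_inv_cancel, act_one] at this
          rw [← h2, ← act_mul, mul_inv_cancel, act_one]
        set X : AddSubgroup V := M ⊓ (dsub σ f).ker with hXdef
        have hle : moves σ L M ≤ X := moves_le fun l hl x hx => by
          refine AddSubgroup.mem_inf.2 ⟨AddSubgroup.sub_mem _ (hMinv l x hx) hx, ?_⟩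
          show σ f (σ l x - x) - (σ l x - x) = 0
          have hz := (hRZ f hf.2 x hx).2 l hl
          rw [map_sub] at hz
          rw [map_sub, hcomm l hl x hx]
          calc σ l (σ f x) - σ f x - (σ l x - x) = (σ l (σ f x) - σ l x) - (σ f x - x) := by abel
            _ = 0 := by rw [hz, sub_self]
        have hMM : moves σ L M = M := by
          by_contra hne
          have hfix : ∀ l ∈ L, ∀ x ∈ M, σ l x = x := fun l hl x hx =>
            hLfix Z0 x (fun k hk z hz => hz.2 k hk)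
              (fun k hk => hmin _ (moves_le fun i hi y hy => sub_mem (hMinv i y hy) hy)
                (moves_invariant σ L hMinv) hne (moves_mem hk hx)) l hl
          exact hLM hfix
        intro x hx
        have := (hle (hMM.ge hx)).2
        exact sub_eq_zero.1 this
      obtain ⟨w, hw, hm'⟩ := hWM v
      have e : σ f v = σ f w + σ f (v - w) := by rw [map_sub]; abel
      rw [e, h.fixW A hA hf.1 w hw, hfM _ hm']
      abel
    -- the module of derivations
    let dM : F1 → (M →+ M) := fun f => dsub (resAct σ M hMinv) (f : G)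
    have hdM : ∀ (f : F1) (x : M), ((dM f x : M) : V) = σ (f : G) (x : V) - x := fun f x => rfl
    have hdadd : ∀ f f' : F1, dM (f * f') = dM f + dM f' := by
      intro f f'
      refine AddMonoidHom.ext fun x => Subtype.ext ?_
      rw [AddMonoidHom.add_apply, AddSubgroup.coe_add, hdM, hdM, hdM, Subgroup.coe_mul, act_mul]
      have h1 : σ (f : G) (σ (f' : G) (x : V) - x) = σ (f' : G) (x : V) - x :=
        f.2.2 _ (hRZ _ f'.2.1 _ x.2)
      rw [map_sub] at h1
      calc σ (f : G) (σ (f' : G) (x : V)) - (x : V)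
          = (σ (f : G) (σ (f' : G) (x : V)) - σ (f : G) (x : V)) + (σ (f : G) (x : V) - x) := by abel
        _ = _ := by rw [h1, add_comm]
    let P : AddSubgroup (M →+ M) :=
      { carrier := {φ | ∃ f : F1, φ = dM f}
        zero_mem' := ⟨1, by
          refine AddMonoidHom.ext fun x => Subtype.ext ?_
          rw [hdM]; show (0 : V) = _
          rw [show ((1 : F1) : G) = 1 from rfl, act_one, sub_self]⟩
        add_mem' := by rintro _ _ ⟨f, rfl⟩ ⟨f', rfl⟩; exact ⟨f * f', (hdadd f f').symm⟩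
        neg_mem' := by
          rintro _ ⟨f, rfl⟩
          exact ⟨f, neg_eq_of_add_eq_zero_left (AddMonoidHom.ext fun x => two_sub h.two M (dM f x))⟩ }
    haveI : Finite (M →+ M) := Finite.of_injective _ DFunLike.coe_injective
    let κ : G →* AddMonoid.End (M →+ M) :=
      { toFun := fun g => AddMonoidHom.mk'
          (fun φ => ((resAct σ M hMinv g : M →+ M).comp φ).comp (resAct σ M hMinv g⁻¹ : M →+ M))
          fun φ ψ => AddMonoidHom.ext fun x => map_add (resAct σ M hMinv g) _ _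
        map_one' := AddMonoidHom.ext fun φ => AddMonoidHom.ext fun x => by
          show resAct σ M hMinv 1 (φ (resAct σ M hMinv (1 : G)⁻¹ x)) = φ x
          rw [inv_one, act_one, act_one]
        map_mul' := fun g k => AddMonoidHom.ext fun φ => AddMonoidHom.ext fun x => by
          show resAct σ M hMinv (g * k) (φ (resAct σ M hMinv (g * k)⁻¹ x)) =
            resAct σ M hMinv g (resAct σ M hMinv k (φ (resAct σ M hMinv k⁻¹ (resAct σ M hMinv g⁻¹ x))))
          rw [mul_inv_rev, act_mul, act_mul] }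
    have hκ : ∀ (g : G) (f : F1), κ g (dM f) = dM ⟨g * f * g⁻¹, hF1n.conj_mem _ f.2 g⟩ := by
      intro g f
      refine AddMonoidHom.ext fun x => Subtype.ext ?_
      rw [hdM]
      show σ g (σ (f : G) (σ g⁻¹ (x : V)) - σ g⁻¹ (x : V)) = σ (g * f * g⁻¹) (x : V) - (x : V)
      rw [map_sub, ← act_mul, ← act_mul, ← act_mul, mul_inv_cancel, act_one]
    have hPinv : ∀ g, ∀ φ ∈ P, κ g φ ∈ P := by
      rintro g _ ⟨f, rfl⟩
      exact ⟨_, hκ g f⟩
    set τ := resAct κ P hPinv
    have hKτ : K ≤ τ.ker := fun k hk => mem_ker_iff.2 fun φ => Subtype.ext (by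
      show κ k (φ : M →+ M) = φ
      refine AddMonoidHom.ext fun x => Subtype.ext ?_
      show σ k (((φ : M →+ M) (resAct σ M hMinv k⁻¹ x) : M) : V) = (((φ : M →+ M) x : M) : V)
      rw [mem_ker_iff.1 hk, show resAct σ M hMinv k⁻¹ x = x from
        Subtype.ext (mem_ker_iff.1 (inv_mem hk) (x : V))])
    have hLτ : ¬ L ≤ τ.ker := by
      intro hle
      refine hF1M fun f hf x hx => ?_
      have hX : moves σ L M ≤ M ⊓ (dsub σ f).ker := moves_le fun l hl y hy => by
        refine AddSubgroup.mem_inf.2 ⟨AddSubgroup.sub_mem _ (hMinv l y hy) hy, ?_⟩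
        show σ f (σ l y - y) - (σ l y - y) = 0
        have h1 := congrArg Subtype.val (mem_ker_iff.1 (hle (inv_mem hl))
          (⟨dM ⟨f, hf⟩, ⟨f, hf⟩, rfl⟩ : P))
        change κ l⁻¹ (dM ⟨f, hf⟩) = dM ⟨f, hf⟩ at h1
        have h2 := congrArg Subtype.val (DFunLike.congr_fun h1 ⟨y, hy⟩)
        rw [hκ, hdM, hdM] at h2
        have h3 : σ f (σ l y) = σ l (σ (l⁻¹ * f * l⁻¹⁻¹) y) := by
          rw [← act_mul, ← act_mul, show l * (l⁻¹ * f * l⁻¹⁻¹) = f * l by group]
        have h4 : σ (l⁻¹ * f * l⁻¹⁻¹) y = σ f y := sub_left_inj.1 h2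
        have h5 := (hRZ f hf.1 y hy).2 l hl
        rw [map_sub] at h5
        rw [map_sub, h3, h4]
        calc σ l (σ f y) - σ f y - (σ l y - y) = (σ l (σ f y) - σ l y) - (σ f y - y) := by abel
          _ = 0 := by rw [h5, sub_self]
      have hMM : moves σ L M = M := by
        by_contra hne
        exact hLM fun l hl x hx => hLfix Z0 x (fun k hk z hz => hz.2 k hk)
          (fun k hk => hmin _ (moves_le fun i hi y hy => sub_mem (hMinv i y hy) hy)
            (moves_invariant σ L hMinv) hne (moves_mem hk hx)) l hl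
      exact sub_eq_zero.1 (hX (hMM.ge hx)).2
    have hP2 : ∀ φ : P, φ + φ = 0 := fun φ =>
      Subtype.ext (AddMonoidHom.ext fun x => two_sub h.two M ((φ : M →+ M) x))
    have hbP := (hsec τ hP2 hKτ hLτ).2
    -- the elements of `T` fixing `fix A` and `Z0`
    set Y := T ⊓ pstab σ (fixd σ A) ⊓ pstab σ Z0 with hY
    have hYF : Y ≤ F1 := fun y hy => ⟨hy.1.1.2, hy.2⟩
    have hWfix : W ≤ fixd σ A := le_fixd_iff.2 (h.fixW A hA)
    have hYcomm : ∀ r ∈ Y, ∀ s ∈ Y, ∀ x, σ (r * s) x = σ (s * r) x := by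
      intro r hr s hs x
      obtain ⟨w, hw, hm'⟩ := hWM x
      have hx : x = w + (x - w) := by abel
      have e1 := congrArg (fun φ : M →+ M => ((φ ⟨x - w, hm'⟩ : M) : V))
        ((hdadd ⟨r, hYF hr⟩ ⟨s, hYF hs⟩).trans (by rw [add_comm, ← hdadd]))
      simp only [hdM] at e1
      have e1' : σ (r * s) (x - w) = σ (s * r) (x - w) := sub_left_inj.1 e1
      have e2 : σ (r * s) w = σ (s * r) w := by
        rw [act_mul, act_mul, hs.1.2 w (hWfix hw), hr.1.2 w (hWfix hw), hs.1.2 w (hWfix hw)]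
      rw [hx, map_add, map_add, e1', e2]
    have hYsq : ∀ r ∈ Y, ∀ x, σ (r * r) x = x := by
      intro r hr x
      obtain ⟨w, hw, hm'⟩ := hWM x
      have hx : x = w + (x - w) := by abel
      have e1 := congrArg (fun φ : M →+ M => ((φ ⟨x - w, hm'⟩ : M) : V))
        ((hdadd ⟨r, hYF hr⟩ ⟨r, hYF hr⟩).trans (AddMonoidHom.ext fun z => two_sub h.two M (dM ⟨r, hYF hr⟩ z) :
          dM ⟨r, hYF hr⟩ + dM ⟨r, hYF hr⟩ = 0))
      simp only [hdM] at e1
      have e1' : σ (r * r) (x - w) = x - w := sub_eq_zero.1 e1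
      have e2 : σ (r * r) w = w := by rw [act_mul, hr.1.2 w (hWfix hw), hr.1.2 w (hWfix hw)]
      rw [hx, map_add, e1', e2]
    -- commutators are realised in `Y`
    let PY : AddSubgroup P :=
      { carrier := {φ | ∃ y : F1, (y : G) ∈ Y ∧ (φ : M →+ M) = dM y}
        zero_mem' := by
          obtain ⟨f, hf⟩ := P.zero_mem
          exact ⟨1, one_mem Y, by
            refine AddMonoidHom.ext fun x => Subtype.ext ?_
            rw [hdM]; show (0 : V) = _
            rw [show ((1 : F1) : G) = 1 from rfl, act_one, sub_self]⟩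
        add_mem' := by
          rintro φ ψ ⟨y, hy, e⟩ ⟨z, hz, e'⟩
          exact ⟨y * z, mul_mem hy hz, by rw [hdadd, AddSubgroup.coe_add, e, e']⟩
        neg_mem' := by
          rintro φ ⟨y, hy, e⟩
          exact ⟨y, hy, by rw [neg_eq_of_add_eq_zero_left (hP2 φ)]; exact e⟩ }
    have hcommd : commd τ B ≤ PY := by
      refine (AddSubgroup.closure_le _).2 ?_
      rintro _ ⟨a, ha, ⟨_, ⟨f, rfl⟩⟩, rfl⟩
      set f' : G := a * f * a⁻¹ * (f : G)⁻¹
      have haA := hBA ha
      have hf'R : f' ∈ R := mul_mem (hRn.conj_mem _ f.2.1 a) (inv_mem f.2.1)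
      have hf'Z : f' ∈ pstab σ Z0 := mul_mem (hF1n.conj_mem _ f.2 a).2 (inv_mem f.2.2)
      have hf'A : f' ∈ pstab σ (fixd σ A) := by
        intro u hu
        have hfu : σ (f : G)⁻¹ u ∈ fixd σ A := by
          rw [show σ (f : G)⁻¹ u = u + (σ (f : G)⁻¹ u - u) by abel]
          exact add_mem hu (hWfix (hUR _ (inv_mem f.2.1) u))
        have h1 : σ a⁻¹ (σ (f : G)⁻¹ u) = σ (f : G)⁻¹ u := hfu a⁻¹ (inv_mem haA)
        show σ (a * f * a⁻¹ * (f : G)⁻¹) u = u
        rw [act_mul, act_mul σ (a * (f : G)), h1, act_mul, ← act_mul σ (f : G), mul_inv_cancel, act_one, hu a haA]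
      obtain ⟨t, ht, e⟩ := hrep f' hf'R
      have htY : t ∈ Y := ⟨⟨ht, fun x hx => by rw [← e]; exact hf'A x hx⟩,
        fun x hx => by rw [← e]; exact hf'Z x hx⟩
      refine ⟨⟨t, hYF htY⟩, htY, ?_⟩
      show κ a (dM f) - dM f = dM ⟨t, hYF htY⟩
      rw [hκ, sub_eq_iff_eq_add, ← hdadd]
      refine AddMonoidHom.ext fun x => Subtype.ext ?_
      rw [hdM, hdM]
      show σ (a * f * a⁻¹) (x : V) - x = σ (t * f) (x : V) - x
      rw [act_mul σ t, ← e, ← act_mul, show a * (f : G) * a⁻¹ * (f : G)⁻¹ * f = a * f * a⁻¹ by group]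
    have hYb : b ^ 2 * Nat.card ↥(Y ⊓ K) ≤ Nat.card Y := by
      haveI : Nonempty PY := ⟨⟨0, PY.zero_mem⟩⟩
      haveI : Finite PY := Finite.of_injective (fun z : PY => ((z : P) : M →+ M)) fun z z' e =>
        Subtype.ext (Subtype.ext e)
      have hPYpos : 0 < Nat.card PY := Nat.card_pos
      refine le_trans (Nat.mul_le_mul_right _ (hbP.trans (Nat.le_of_dvd hPYpos
        (AddSubgroup.card_dvd_of_le hcommd)))) ?_
      set N := (Y ⊓ K).subgroupOf Y
      rw [Subgroup.card_eq_card_quotient_mul_card_subgroup N,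
        Nat.card_congr (subgroupOfEquivOfLe (inf_le_left : Y ⊓ K ≤ Y)).toEquiv]
      refine Nat.mul_le_mul_right _ ?_
      let g : Y → PY := fun y => ⟨⟨dM ⟨y, hYF y.2⟩, ⟨y, hYF y.2⟩, rfl⟩, ⟨y, hYF y.2⟩, y.2, rfl⟩
      refine Nat.card_le_card_of_surjective
        (Quotient.lift g fun y z hyz => ?_) fun φ => ?_
      · have hk : ((y : G))⁻¹ * z ∈ K := (mem_inf.1 (mem_subgroupOf.1 (QuotientGroup.leftRel_apply.1 hyz))).2
        refine Subtype.ext (Subtype.ext (AddMonoidHom.ext fun x => Subtype.ext ?_))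
        show σ (y : G) (x : V) - x = σ (z : G) (x : V) - x
        conv_rhs => rw [show (z : G) = y * ((y : G)⁻¹ * z) by group, act_mul, mem_ker_iff.1 hk]
      · obtain ⟨⟨_, _⟩, y, hy, e⟩ := φ
        exact ⟨QuotientGroup.mk ⟨(y : G), hy⟩, Subtype.ext (Subtype.ext e.symm)⟩
    have hYK : ¬ Y ≤ K := by
      intro hle
      rw [inf_eq_left.2 hle] at hYb
      have hb1 : b ≤ 1 := by
        by_contra hb1
        have h2 : 2 * Nat.card Y ≤ b ^ 2 * Nat.card Y :=
          Nat.mul_le_mul_right _ ((not_le.1 hb1 : 1 < b).trans_le (Nat.le_self_pow two_ne_zero b))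
        have : 0 < Nat.card Y := Nat.card_pos
        omega
      have : b ^ 3 * fA ≤ b ^ 2 * fA := Nat.mul_le_mul_right _ (by
        rw [pow_succ]
        exact le_trans (Nat.mul_le_mul_left _ hb1) (le_of_eq (mul_one _)))
      omega
    have hYsqV := hsqV Y (inf_le_left.trans inf_le_left) hYcomm hYsq hYK
    have hfY : fA ≤ Nat.card (fixd σ Y) := Nat.le_of_dvd Nat.card_pos
      (AddSubgroup.card_dvd_of_le fun x hx y hy => hy.1.2 x hx)
    have hlast : (b ^ 3 * fA) ^ 2 * Nat.card ↥(Y ⊓ K) ^ 3 < (b ^ 3 * fA) ^ 2 * Nat.card ↥(Y ⊓ K) ^ 3 :=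
      calc (b ^ 3 * fA) ^ 2 * Nat.card ↥(Y ⊓ K) ^ 3 = (b ^ 2 * Nat.card ↥(Y ⊓ K)) ^ 3 * fA ^ 2 := by ring
        _ ≤ Nat.card Y ^ 3 * Nat.card (fixd σ Y) ^ 2 :=
            Nat.mul_le_mul (Nat.pow_le_pow_left hYb 3) (Nat.pow_le_pow_left hfY 2)
        _ < Nat.card V ^ 2 * Nat.card ↥(Y ⊓ K) ^ 3 := hYsqV
        _ ≤ (b ^ 3 * fA) ^ 2 * Nat.card ↥(Y ⊓ K) ^ 3 := Nat.mul_le_mul_right _ (Nat.pow_le_pow_left hlim.le 2)
    exact lt_irrefl _ hlast

end Cfsg.Lib.SThreeFree
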