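import Cfsg.Agent.SThreeFree.EGroups
import Cfsg.Agent.SThreeFree.Offender
import Cfsg.Agent.Components.Sfour.LocalThree

/-!
Factorizations of constrained groups without a section `S₄` whose non-abelian composition factors are
Suzuki groups or `PSL₂(3^odd)`.
-/

set_option autoImplicit false
set_option linter.unusedSectionVars false
set_option linter.style.haveILetI false

namespace Cfsg.Lib.SThreeFree

open Subgroup
open scoped commutatorElement IsMulCommutative
open Cfsg.Lib.JComp (elem_sq elem_comm elem_inv conj_mem cj)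
open Cfsg.Lib.Thompson (IsMaxElem)

universe u

variable {G : Type u} [Group G]

/-- Conjugation on a commutative normal subgroup, written additively. -/
def conjEnd (U : Subgroup G) [U.Normal] [IsMulCommutative U] : G →* AddMonoid.End (Additive U) where
  toFun g := MonoidHom.toAdditive (MulAut.conjNormal g : U ≃* U).toMonoidHom
  map_one' := AddMonoidHom.ext fun m => by
    show Additive.ofMul ((MulAut.conjNormal (1 : G) : U ≃* U) (Additive.toMul m)) = m
    rw [map_one]; rfl
  map_mul' g h := AddMonoidHom.ext fun m => by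
    show Additive.ofMul ((MulAut.conjNormal (g * h) : U ≃* U) (Additive.toMul m)) =
      Additive.ofMul ((MulAut.conjNormal g : U ≃* U) ((MulAut.conjNormal h : U ≃* U) (Additive.toMul m)))
    rw [map_mul]; rfl

theorem conjEnd_val (U : Subgroup G) [U.Normal] [IsMulCommutative U] (g : G) (m : Additive U) :
    ((Additive.toMul (conjEnd U g m) : U) : G) = g * (Additive.toMul m : U) * g⁻¹ :=
  MulAut.conjNormal_apply g _

theorem conjEnd_fix_iff (U : Subgroup G) [U.Normal] [IsMulCommutative U] (g : G) (m : Additive U) :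
    conjEnd U g m = m ↔ g * (Additive.toMul m : U) = (Additive.toMul m : U) * g := by
  rw [← mul_inv_eq_iff_eq_mul, ← conjEnd_val]
  exact ⟨fun e => by rw [e], fun e => Additive.toMul.injective (Subtype.ext e)⟩

/-- The subgroup of `G` inside `U` given by an additive subgroup. -/
def toG (U : Subgroup G) [IsMulCommutative U] (X : AddSubgroup (Additive U)) : Subgroup G :=
  (AddSubgroup.toSubgroup' X).map U.subtype

theorem toG_le (U : Subgroup G) [IsMulCommutative U] (X : AddSubgroup (Additive U)) : toG U X ≤ U :=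
  map_subtype_le _

theorem mem_toG {U : Subgroup G} [IsMulCommutative U] {X : AddSubgroup (Additive U)} {x : G} :
    x ∈ toG U X ↔ ∃ h : x ∈ U, Additive.ofMul (⟨x, h⟩ : U) ∈ X := by
  constructor
  · rintro ⟨y, hy, rfl⟩; exact ⟨y.2, hy⟩
  · rintro ⟨h, hx⟩; exact ⟨⟨x, h⟩, hx, rfl⟩

theorem card_toG (U : Subgroup G) [IsMulCommutative U] (X : AddSubgroup (Additive U)) :
    Nat.card (toG U X) = Nat.card X := by
  rw [toG, Subgroup.card_map_of_injective U.subtype_injective]
  exact Nat.card_congr ((Additive.ofMul).subtypeEquiv fun _ => Iff.rfl)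

theorem pstab_conjEnd (U : Subgroup G) [U.Normal] [IsMulCommutative U] (X : AddSubgroup (Additive U)) :
    pstab (conjEnd U) X = centralizer (toG U X : Set G) := by
  ext g
  rw [mem_centralizer_iff]
  constructor
  · intro h x hx
    obtain ⟨hxU, hxX⟩ := mem_toG.1 hx
    exact ((conjEnd_fix_iff U g _).1 (h _ hxX)).symm
  · intro h m hm
    exact (conjEnd_fix_iff U g m).2 (h _ (mem_toG.2 ⟨(Additive.toMul m : U).2, hm⟩)).symm

theorem toG_inf_fixd (U : Subgroup G) [U.Normal] [IsMulCommutative U] (X : AddSubgroup (Additive U))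
    (A : Subgroup G) :
    toG U (X ⊓ fixd (conjEnd U) A) = toG U X ⊓ centralizer (A : Set G) := by
  ext x
  constructor
  · intro hx
    obtain ⟨hxU, hxX, hxA⟩ := mem_toG.1 hx
    exact mem_inf.2 ⟨mem_toG.2 ⟨hxU, hxX⟩, mem_centralizer_iff.2 fun a ha =>
      (conjEnd_fix_iff U a _).1 (hxA a ha)⟩
  · intro hx
    obtain ⟨hxU, hxX⟩ := mem_toG.1 (mem_inf.1 hx).1
    exact mem_toG.2 ⟨hxU, hxX, fun a ha => (conjEnd_fix_iff U a _).2 (mem_centralizer_iff.1 (mem_inf.1 hx).2 a ha)⟩

theorem ker_conjEnd (U : Subgroup G) [U.Normal] [IsMulCommutative U] :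
    (conjEnd U).ker = centralizer (U : Set G) := by
  rw [← pstab_top, pstab_conjEnd]
  refine congrArg (fun T : Subgroup G => centralizer (T : Set G)) ?_
  exact le_antisymm (toG_le U ⊤) fun x hx => mem_toG.2 ⟨hx, AddSubgroup.mem_top _⟩

variable [Finite G]

theorem not_involves_quotient_centralizer (hfree : ¬ Cfsg.Involves (Equiv.Perm (Fin 4)) G) (U : Subgroup G)
    [hU : U.Normal] (hU2 : IsPGroup 2 U) :
    ¬ Cfsg.Involves (Equiv.Perm (Fin 3)) (G ⧸ centralizer (U : Set G)) := by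
  intro hi
  haveI := centralizer_normal U
  refine hfree (Cfsg.Lib.Sfour.involves_four_of_local hU2 ?_)
  have hle : (centralizer (U : Set G)).subgroupOf (normalizer (U : Set G)) ≤
      (centralizer (U : Set G)).comap (normalizer (U : Set G)).subtype := fun x hx => hx
  refine Cfsg.Lib.QuadPair.involves_of_surjective
    (f := QuotientGroup.map _ (centralizer (U : Set G)) (normalizer (U : Set G)).subtype hle) ?_ hi
  intro q
  obtain ⟨g, rfl⟩ := QuotientGroup.mk'_surjective _ q
  exact ⟨QuotientGroup.mk' _ ⟨g, (normalizer_eq_top (H := U)).ge (mem_top g)⟩, rfl⟩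

theorem tame_quotient_core (hchar : centralizer (Cfsg.pCore 2 G : Set G) ≤ Cfsg.pCore 2 G)
    (hfree : ¬ Cfsg.Involves (Equiv.Perm (Fin 4)) G) (hc : Comp G) : Tame (G ⧸ Cfsg.pCore 2 G) := by
  haveI : Fact (Nat.Prime 2) := ⟨Nat.prime_two⟩
  haveI : (Cfsg.pCore 2 G).Normal := Cfsg.Lib.Components.pCore_normal' 2
  haveI := centralizer_normal (Cfsg.pCore 2 G)
  have h := not_involves_quotient_centralizer hfree (Cfsg.pCore 2 G) (Cfsg.Lib.Components.isPGroup_pCore 2)
  refine ⟨fun hi => h (Cfsg.Lib.QuadPair.involves_of_surjective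
    (f := QuotientGroup.map (centralizer (Cfsg.pCore 2 G : Set G)) (Cfsg.pCore 2 G) (MonoidHom.id G) hchar) ?_ hi),
    comp_quotient hc _⟩
  intro q
  obtain ⟨g, rfl⟩ := QuotientGroup.mk'_surjective _ q
  exact ⟨QuotientGroup.mk' _ g, rfl⟩

theorem core_le_sylow (S : Sylow 2 G) : Cfsg.pCore 2 G ≤ (S : Subgroup G) := by
  haveI : Fact (Nat.Prime 2) := ⟨Nat.prime_two⟩
  haveI : (Cfsg.pCore 2 G).Normal := Cfsg.Lib.Components.pCore_normal' 2
  exact sup_eq_left.1 (S.is_maximal' (S.isPGroup'.to_sup_of_normal_right (Cfsg.Lib.Components.isPGroup_pCore 2))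
    le_sup_left)

/-- An element of odd order fixing the elements of order two of an abelian normal 2-subgroup centralises it. -/
theorem odd_centralizes {V : Subgroup G} [V.Normal] [IsMulCommutative V] (hV : IsPGroup 2 V) {x : G}
    (hx : Odd (orderOf x)) (h : ∀ v ∈ V, v * v = 1 → x * v = v * x) : x ∈ centralizer (V : Set G) := by
  refine mem_centralizer_iff.2 fun v hv => ?_
  suffices hmain : ∀ k, ∀ v ∈ V, v ^ 2 ^ k = 1 → x * v = v * x by
    obtain ⟨k, hk⟩ := hV ⟨v, hv⟩
    exact (hmain k v hv (congrArg Subtype.val hk)).symm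
  intro k
  induction k with
  | zero => intro v _ hvk; rw [pow_zero, pow_one] at hvk; rw [hvk, mul_one, one_mul]
  | succ k ih =>
    intro v hv hvk
    have h2 := ih (v * v) (mul_mem hv hv) (by rw [← pow_two, ← pow_mul, ← pow_succ']; exact hvk)
    set δ := x * v * x⁻¹ * v⁻¹ with hδ
    have hvx : x * v * x⁻¹ ∈ V := (inferInstance : V.Normal).conj_mem v hv x
    have hδV : δ ∈ V := mul_mem hvx (inv_mem hv)
    have hcm : ∀ p ∈ V, ∀ q ∈ V, Commute p q := fun p hp q hq =>
      congrArg Subtype.val (IsMulCommutative.is_comm.comm (⟨p, hp⟩ : V) ⟨q, hq⟩)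
    have hδ2 : δ * δ = 1 := by
      rw [hδ, ← pow_two, (hcm _ hvx _ (inv_mem hv)).mul_pow, pow_two, pow_two, conj_mul, h2,
        mul_inv_cancel_right, ← mul_inv_rev, mul_inv_cancel]
    have hxδ : x * δ = δ * x := h δ hδV hδ2
    have hxv : x * v * x⁻¹ = δ * v := by rw [hδ, inv_mul_cancel_right]
    clear_value δ
    have hpow : ∀ i : ℕ, x ^ i * v * (x ^ i)⁻¹ = δ ^ i * v := by
      intro i
      induction i with
      | zero => simp
      | succ i ihi =>
        calc x ^ (i + 1) * v * (x ^ (i + 1))⁻¹ = x * (x ^ i * v * (x ^ i)⁻¹) * x⁻¹ := by rw [pow_succ']; group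
          _ = x * (δ ^ i * v) * x⁻¹ := by rw [ihi]
          _ = (x * δ ^ i * x⁻¹) * (x * v * x⁻¹) := by group
          _ = δ ^ i * (δ * v) := by rw [hxv, ((show Commute x δ from hxδ).pow_right i).eq, mul_inv_cancel_right]
          _ = _ := by rw [pow_succ, mul_assoc]
    have h1 := hpow (orderOf x)
    rw [pow_orderOf_eq_one, one_mul, inv_one, mul_one] at h1
    have hδ1 : δ ^ orderOf x = 1 := mul_right_cancel (h1.symm.trans (one_mul v).symm)
    obtain ⟨c, hc⟩ := hx
    rw [hc, pow_succ, pow_mul, pow_two, hδ2, one_pow, one_mul] at hδ1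
    rw [hδ1, one_mul] at hxv
    exact mul_inv_eq_iff_eq_mul.1 hxv

/-- The first two factorizations: a normal subgroup centralising `Z(S)` contains the generators of `Ĵ(S)`. -/
theorem center_factor (hchar : centralizer (Cfsg.pCore 2 G : Set G) ≤ Cfsg.pCore 2 G)
    (hfree : ¬ Cfsg.Involves (Equiv.Perm (Fin 4)) G) (hc : Comp G) (S : Sylow 2 G) :
    ∃ C : Subgroup G, C.Normal ∧ C ≤ centralizer (((S : Subgroup G) ⊓ centralizer ((S : Subgroup G) : Set G) :
        Subgroup G) : Set G) ∧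
      jHatOf (S : Subgroup G) ≤ C ∧ Cfsg.thompsonSubgroupOf 2 (S : Subgroup G) ≤ C := by
  haveI : Fact (Nat.Prime 2) := ⟨Nat.prime_two⟩
  set Q := Cfsg.pCore 2 G
  haveI : Q.Normal := Cfsg.Lib.Components.pCore_normal' 2
  have hQS := core_le_sylow S
  set ZS := (S : Subgroup G) ⊓ centralizer ((S : Subgroup G) : Set G)
  have hZQ : ZS ≤ Q := fun z hz => hchar (centralizer_le hQS (mem_inf.1 hz).2)
  set V := Subgroup.normalClosure (ZS : Set G)
  have hVQ : V ≤ Q := normalClosure_le_normal hZQ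
  haveI := centralizer_normal Q
  have hVc : V ≤ centralizer (Q : Set G) :=
    normalClosure_le_normal fun z hz => centralizer_le hQS (mem_inf.1 hz).2
  haveI hVcomm : IsMulCommutative V :=
    .of_comm fun a b => Subtype.ext (mem_centralizer_iff.1 (hVc b.2) a (hVQ a.2))
  have hV2 : IsPGroup 2 V := (Cfsg.Lib.Components.isPGroup_pCore 2).to_le hVQ
  haveI := centralizer_normal V
  refine ⟨centralizer (V : Set G), inferInstance, centralizer_le subset_normalClosure, ?_⟩
  -- the module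
  set U : Subgroup G := Cfsg.omegaOne 2 V
  have hUV : U ≤ V := (closure_le _).2 fun x hx => hx.1
  haveI hUn : U.Normal := ⟨fun n hn g => by
    refine (closure_le (K := U.comap (MulAut.conj g).toMonoidHom)).2 ?_ hn
    rintro x ⟨hx, hx2⟩
    exact subset_closure ⟨(inferInstance : V.Normal).conj_mem x hx g, by
      show (g * x * g⁻¹) ^ 2 = 1
      rw [conj_pow, hx2, mul_one, mul_inv_cancel]⟩⟩
  have hUe : Cfsg.IsElementaryAbelian 2 U := Cfsg.Lib.JComp.elem_of_sq fun z hz => by
    induction hz using Subgroup.closure_induction with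
    | mem x hx => rw [← pow_two]; exact hx.2
    | one => exact one_mul 1
    | mul x y hx hy ihx ihy =>
      have hcm : Commute x y := congrArg Subtype.val (hVcomm.is_comm.comm (⟨x, hUV hx⟩ : V) ⟨y, hUV hy⟩)
      rw [← pow_two, hcm.mul_pow, pow_two, pow_two, ihx, ihy, one_mul]
    | inv x _ ih => rw [← mul_inv_rev, ih, inv_one]
  haveI := hUe.1
  haveI := centralizer_normal U
  -- the core of the quotient is trivial
  set D := (Cfsg.pCore 2 (G ⧸ centralizer (V : Set G))).comap (QuotientGroup.mk' (centralizer (V : Set G)))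
  haveI : (Cfsg.pCore 2 (G ⧸ centralizer (V : Set G))).Normal := Cfsg.Lib.Components.pCore_normal' 2
  haveI : D.Normal := Subgroup.Normal.comap inferInstance _
  have hDV : D ≤ centralizer (V : Set G) := by
    have hle : D ≤ centralizer (V : Set G) ⊔ ((S : Subgroup G) ⊓ D) := by
      intro d hd
      obtain ⟨P, hP⟩ := exists_sylow_inf S (N := D) (H := D) le_rfl (Or.inr rfl)
      have h2 : IsPGroup 2 (D ⧸ (centralizer (V : Set G)).subgroupOf D) := by
        intro q
        obtain ⟨⟨x, hx⟩, rfl⟩ := QuotientGroup.mk'_surjective _ q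
        obtain ⟨s, hs⟩ := Cfsg.Lib.Components.isPGroup_pCore (G := G ⧸ centralizer (V : Set G)) 2 ⟨_, hx⟩
        refine ⟨s, ?_⟩
        rw [← map_pow]
        exact (QuotientGroup.eq_one_iff _).2 (mem_subgroupOf.2 ((QuotientGroup.eq_one_iff _).1
          (congrArg Subtype.val hs)))
      obtain ⟨i, hi⟩ := IsPGroup.iff_card.1 h2
      rw [← Subgroup.index_eq_card] at hi
      obtain ⟨k, hk, t, ht, e⟩ := mem_sup_of_normal_left.1
        ((Cfsg.Lib.Transfer.sup_sylow_eq_top hi P).ge (mem_top (⟨d, hd⟩ : D)))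
      rw [show d = (k : G) * t from (congrArg Subtype.val e).symm]
      exact mul_mem (mem_sup_left (mem_subgroupOf.1 hk)) (mem_sup_right (hP.le (mem_map_of_mem D.subtype ht)))
    have hDc : D ≤ centralizer (ZS : Set G) := hle.trans (sup_le (centralizer_le subset_normalClosure)
      fun x hx => mem_centralizer_iff.2 fun z hz => (mem_centralizer_iff.1 (mem_inf.1 hz).2 x (mem_inf.1 hx).1).symm)
    haveI := centralizer_normal D
    exact le_centralizer_iff.1 (normalClosure_le_normal (le_centralizer_iff.1 hDc))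
  have hVU : centralizer (U : Set G) = centralizer (V : Set G) := by
    refine le_antisymm ?_ (centralizer_le hUV)
    refine (le_trans ?_ hDV : centralizer (U : Set G) ≤ centralizer (V : Set G))
    refine map_le_iff_le_comap.1 (Cfsg.Lib.Components.le_pCore
      (hn := Subgroup.Normal.map inferInstance _ (QuotientGroup.mk'_surjective _)) ?_)
    rintro ⟨_, c, hc, rfl⟩
    obtain ⟨s, hs⟩ := Cfsg.Lib.JComp.exists_odd_pow c
    refine ⟨s, Subtype.ext ?_⟩
    show QuotientGroup.mk' (centralizer (V : Set G)) c ^ 2 ^ s = 1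
    rw [← map_pow]
    exact (QuotientGroup.eq_one_iff _).2 (odd_centralizes hV2 hs fun v hv hv2 =>
      (mem_centralizer_iff.1 (pow_mem hc _) v (subset_closure ⟨hv, by rw [pow_two]; exact hv2⟩)).symm)
  -- the squared bound
  have h2 : ∀ m : Additive U, m + m = 0 := fun m =>
    congrArg Additive.ofMul (Subtype.ext (elem_sq hUe (Additive.toMul m : U).2))
  have hK : (conjEnd U).ker = centralizer (V : Set G) := (ker_conjEnd U).trans hVU
  have hT : Tame (G ⧸ (conjEnd U).ker) := by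
    have hf := not_involves_quotient_centralizer hfree U (hV2.to_le hUV)
    refine ⟨fun hi => hf ?_, comp_quotient hc _⟩
    exact Cfsg.Lib.QuadPair.involves_of_surjective
      (f := (QuotientGroup.quotientMulEquivOfEq (ker_conjEnd U).symm).toMonoidHom) (MulEquiv.surjective _) hi
  have hbound : ∀ R : Subgroup G, ⁅R, R⁆ ≤ centralizer (U : Set G) → (∀ r ∈ R, r ^ 2 ∈ centralizer (U : Set G)) →
      Nat.card R ^ 2 * Nat.card ↥(U ⊓ centralizer (R : Set G)) ≤
          Nat.card U * Nat.card ↥(R ⊓ centralizer (U : Set G)) ^ 2 ∧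
        Nat.card R ^ 2 ≤ Nat.card ↥⁅U, R⁆ * Nat.card ↥(R ⊓ centralizer (U : Set G)) ^ 2 := by
    intro R hRc hRs
    set σ := conjEnd U
    set π := QuotientGroup.mk' σ.ker
    have hel : Cfsg.IsElementaryAbelian 2 (R.map π) := Cfsg.Lib.JComp.elem_of_sq (by
      rintro _ ⟨r, hr, rfl⟩
      rw [← map_mul, ← pow_two]
      exact (QuotientGroup.eq_one_iff _).2 (by rw [ker_conjEnd]; exact hRs r hr))
    have hcore : Cfsg.pCore 2 (G ⧸ σ.ker) = ⊥ := by
      rw [eq_bot_iff]
      intro q hq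
      obtain ⟨g, rfl⟩ := QuotientGroup.mk'_surjective _ q
      refine mem_bot.2 ((QuotientGroup.eq_one_iff g).2 ?_)
      rw [hK]
      refine hDV ?_
      show QuotientGroup.mk' _ g ∈ Cfsg.pCore 2 (G ⧸ centralizer (V : Set G))
      haveI : (Cfsg.pCore 2 (G ⧸ σ.ker)).Normal := Cfsg.Lib.Components.pCore_normal' 2
      exact Cfsg.Lib.Components.le_pCore
        (hn := Subgroup.Normal.map (H := Cfsg.pCore 2 (G ⧸ σ.ker)) inferInstance
          (QuotientGroup.quotientMulEquivOfEq hK).toMonoidHom (MulEquiv.surjective _))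
        ((Cfsg.Lib.Components.isPGroup_pCore 2).map _) ⟨_, hq, rfl⟩
    have hyp : Hyp (QuotientGroup.lift σ.ker σ le_rfl) (R.map π) :=
      ⟨lift_injective σ, hT, hel, by rw [hcore, inf_bot_eq], h2⟩
    have hb := bd_all hyp
    have hd := bd_commd hyp
    unfold Bd at hb
    rw [fixd_map σ σ.ker le_rfl] at hb
    have hR : Nat.card R = Nat.card (R.map π) * Nat.card ↥(R ⊓ centralizer (U : Set G)) := by
      rw [Subgroup.card_eq_card_quotient_mul_card_subgroup (π.comp R.subtype).ker,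
        Nat.card_congr (QuotientGroup.quotientKerEquivRange (π.comp R.subtype)).toEquiv,
        MonoidHom.range_comp, range_subtype, ← ker_conjEnd]
      congr 1
      exact Nat.card_congr
        { toFun := fun z => ⟨(z : R).1, mem_inf.2 ⟨(z : R).2, (QuotientGroup.eq_one_iff _).1 z.2⟩⟩
          invFun := fun z => ⟨⟨z.1, (mem_inf.1 z.2).1⟩, (QuotientGroup.eq_one_iff _).2 (mem_inf.1 z.2).2⟩
          left_inv := fun z => rfl
          right_inv := fun z => rfl }
    have hU : Nat.card (Additive U) = Nat.card U := Nat.card_congr Additive.toMul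
    have hfix : Nat.card ↥(U ⊓ centralizer (R : Set G)) ≤ Nat.card (fixd σ R) := by
      have hle : U ⊓ centralizer (R : Set G) ≤ toG U (⊤ ⊓ fixd σ R) := by
        rw [toG_inf_fixd]
        exact inf_le_inf_right _ fun x hx => mem_toG.2 ⟨hx, AddSubgroup.mem_top _⟩
      exact (card_le_of_le hle).trans (le_of_eq (by rw [card_toG, top_inf_eq]))
    have hcom : Nat.card (commd (QuotientGroup.lift σ.ker σ le_rfl) (R.map π)) ≤ Nat.card ↥⁅U, R⁆ := by
      have hle : toG U (commd (QuotientGroup.lift σ.ker σ le_rfl) (R.map π)) ≤ ⁅U, R⁆ := by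
        intro x hx
        obtain ⟨hxU, hxC⟩ := mem_toG.1 hx
        have key : ∀ m ∈ commd (QuotientGroup.lift σ.ker σ le_rfl) (R.map π),
            ((Additive.toMul m : U) : G) ∈ ⁅U, R⁆ := by
          intro m hm
          induction hm using AddSubgroup.closure_induction with
          | mem m hm =>
            obtain ⟨_, ⟨r, hr, rfl⟩, y, rfl⟩ := hm
            show ((Additive.toMul (σ r y) : U) : G) / ((Additive.toMul y : U) : G) ∈ ⁅U, R⁆
            rw [conjEnd_val, commutator_comm, div_eq_mul_inv, ← commutatorElement_def]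
            exact commutator_mem_commutator hr (Additive.toMul y : U).2
          | zero => exact one_mem _
          | add a b _ _ iha ihb => exact mul_mem iha ihb
          | neg a _ iha => exact inv_mem iha
        exact key _ hxC
      exact (card_toG U _).ge.trans (card_le_of_le hle)
    refine ⟨?_, ?_⟩
    · calc Nat.card R ^ 2 * Nat.card ↥(U ⊓ centralizer (R : Set G))
          ≤ (Nat.card (R.map π) * Nat.card ↥(R ⊓ centralizer (U : Set G))) ^ 2 * Nat.card (fixd σ R) := by
            rw [← hR]; exact Nat.mul_le_mul_left _ hfix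
        _ = (Nat.card (R.map π) ^ 2 * Nat.card (fixd σ R)) * Nat.card ↥(R ⊓ centralizer (U : Set G)) ^ 2 := by ring
        _ ≤ _ := Nat.mul_le_mul_right _ (hb.trans hU.le)
    · rw [hR, mul_pow]
      exact Nat.mul_le_mul_right _ (hd.trans hcom)
  have hprop : ∀ R : Subgroup G, R ≤ (S : Subgroup G) → ⁅R, R⁆ ≤ centralizer (U : Set G) →
      (∀ r ∈ R, r ^ 2 ∈ centralizer (U : Set G)) → ¬ R ≤ centralizer (U : Set G) → EIneq U R := by
    intro R _ hRc hRs hne
    obtain ⟨h1, h3⟩ := hbound R hRc hRs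
    set r := Nat.card R
    set c := Nat.card ↥(R ⊓ centralizer (U : Set G))
    set d := Nat.card ↥(U ⊓ centralizer (R : Set G))
    have hcr : c < r := lt_of_le_of_ne (card_le_of_le inf_le_left) fun e =>
      hne ((eq_of_le_of_card_ge inf_le_left e.ge).ge.trans inf_le_right)
    have hc0 : 0 < c := Nat.card_pos
    have hd0 : 0 < d := Nat.card_pos
    have hr0 : 0 < r := Nat.card_pos
    refine ⟨?_, ?_⟩
    · refine Nat.lt_of_mul_lt_mul_right (a := c) ?_
      calc r ^ 3 * d ^ 2 * c < r ^ 3 * d ^ 2 * r := Nat.mul_lt_mul_of_pos_left hcr (by positivity)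
        _ = (r ^ 2 * d) ^ 2 := by ring
        _ ≤ (Nat.card U * c ^ 2) ^ 2 := Nat.pow_le_pow_left h1 2
        _ = _ := by ring
    · refine Nat.lt_of_mul_lt_mul_right (a := c) ?_
      calc r * c < r * r := Nat.mul_lt_mul_of_pos_left hcr hr0
        _ = r ^ 2 := (pow_two r).symm
        _ ≤ _ := h3.trans (le_of_eq (by ring))
  have hUS : U ≤ (S : Subgroup G) := hUV.trans (hVQ.trans hQS)
  obtain ⟨hJ, hUA⟩ := thompson_centralizes (U := (S : Subgroup G))
    (Cfsg.Lib.Thompson.thompsonSubgroupOf_le _) hUS hUe hprop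
  have hUJ : U ≤ Cfsg.thompsonSubgroupOf 2 (S : Subgroup G) :=
    let ⟨A, hA⟩ := Cfsg.Lib.Thompson.exists_isMaxElem (p := 2) (S : Subgroup G)
    (hUA A hA).trans (maxElem_le_thompson hA)
  refine ⟨?_, hJ.trans hVU.le⟩
  rw [jHatOf_eq, ← hVU]
  refine sSup_le fun T hT => hT.2.1 U (hUJ.trans hT.2.2) (le_top.trans (normalizer_eq_top (H := U)).ge) hUe
    fun R hR => hprop R (hR.trans hT.1)

theorem jHat_perm (S : Sylow 2 G) {T : Subgroup G} (hTS : T ≤ (S : Subgroup G))
    (hK : jHatOf (S : Subgroup G) ≤ T) (hJ : Cfsg.thompsonSubgroupOf 2 (S : Subgroup G) ≤ T) :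
    normalizer (T : Set G) ≤ normalizer (Cfsg.thompsonSubgroupOf 2 (S : Subgroup G) : Set G) ∧
      normalizer (T : Set G) ≤ normalizer (jHatOf (S : Subgroup G) : Set G) := by
  have hmax : ∀ n ∈ normalizer (T : Set G), ∀ A, IsMaxElem 2 (S : Subgroup G) A →
      IsMaxElem 2 (S : Subgroup G) (cj n A) := by
    intro n hn A hA
    refine ⟨?_, elem_map _ hA.2.1, fun B hB hBe => (hA.2.2 B hB hBe).trans (Cfsg.Lib.JComp.card_cj n A).ge⟩
    rintro _ ⟨a, ha, rfl⟩
    exact hTS (conj_mem hn (hJ (maxElem_le_thompson hA ha)))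
  have hJn : ∀ n ∈ normalizer (T : Set G), cj n (Cfsg.thompsonSubgroupOf 2 (S : Subgroup G)) ≤
      Cfsg.thompsonSubgroupOf 2 (S : Subgroup G) := by
    intro n hn
    rw [Cfsg.Lib.Thompson.thompsonSubgroupOf_eq, cj, (gc_map_comap _).l_sSup]
    exact iSup₂_le fun A hA => le_sSup (hmax n hn A hA)
  refine ⟨fun n hn => Cfsg.Lib.JComp.mem_normalizer_of_cj_le (hJn n hn), fun n hn => ?_⟩
  refine Cfsg.Lib.JComp.mem_normalizer_of_cj_le ?_
  rw [jHatOf_eq, cj, (gc_map_comap _).l_sSup]
  refine iSup₂_le fun U hU => le_sSup ⟨?_, eg_cj n hU.2.1, ?_⟩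
  · rintro _ ⟨u, hu, rfl⟩
    have huK : u ∈ jHatOf (S : Subgroup G) := le_jHatOf hU.1 hU.2.1 hU.2.2 hu
    exact hTS (conj_mem hn (hK huK))
  · intro x hx
    have hJi := hJn n⁻¹ (inv_mem hn)
    exact ⟨n⁻¹ * x * n, hU.2.2 (hJi ⟨x, hx, by show n⁻¹ * x * n⁻¹⁻¹ = n⁻¹ * x * n; rw [inv_inv]⟩),
      show n * (n⁻¹ * x * n) * n⁻¹ = x by group⟩

/-- The three factorizations. -/
theorem factorizations (hchar : centralizer (Cfsg.pCore 2 G : Set G) ≤ Cfsg.pCore 2 G)
    (hfree : ¬ Cfsg.Involves (Equiv.Perm (Fin 4)) G) (hc : Comp G) (S : Sylow 2 G) :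
    (∀ g : G, ∃ c ∈ centralizer (((S : Subgroup G) ⊓ centralizer ((S : Subgroup G) : Set G) : Subgroup G) : Set G),
        ∃ n ∈ normalizer (Cfsg.thompsonSubgroupOf 2 (S : Subgroup G) : Set G), g = c * n) ∧
    (∀ g : G, ∃ c ∈ centralizer (((S : Subgroup G) ⊓ centralizer ((S : Subgroup G) : Set G) : Subgroup G) : Set G),
        ∃ n ∈ normalizer (jHatOf (S : Subgroup G) : Set G), g = c * n) ∧
    (∀ g : G, ∃ c ∈ centralizer ((Cfsg.omegaOne 2 (jHatOf (S : Subgroup G) ⊓
        centralizer (jHatOf (S : Subgroup G) : Set G)) : Subgroup G) : Set G),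
        ∃ n ∈ normalizer (Cfsg.thompsonSubgroupOf 2 (S : Subgroup G) : Set G), g = c * n) := by
  haveI : Fact (Nat.Prime 2) := ⟨Nat.prime_two⟩
  obtain ⟨C, hCn, hCZ, hKC, hJC⟩ := center_factor hchar hfree hc S
  obtain ⟨hnJ, hnK⟩ := jHat_perm S inf_le_left (le_inf (jHatOf_le _) hKC)
    (le_inf (Cfsg.Lib.Thompson.thompsonSubgroupOf_le _) hJC)
  have hfr : ∀ (N : Subgroup G), N.Normal → ∀ g : G, ∃ c ∈ N,
      ∃ n ∈ normalizer (((S : Subgroup G) ⊓ N : Subgroup G) : Set G), g = c * n := by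
    intro N hN g
    obtain ⟨n, hn, c, hc', e⟩ := frattini_inf S N g⁻¹
    exact ⟨c⁻¹, inv_mem hc', n⁻¹, inv_mem hn, by rw [← mul_inv_rev, ← e, inv_inv]⟩
  refine ⟨fun g => ?_, fun g => ?_, ?_⟩
  · obtain ⟨c, hc', n, hn, e⟩ := hfr C hCn g; exact ⟨c, hCZ hc', n, hnJ hn, e⟩
  · obtain ⟨c, hc', n, hn, e⟩ := hfr C hCn g; exact ⟨c, hCZ hc', n, hnK hn, e⟩
  -- the third factorization
  set Q := Cfsg.pCore 2 G
  haveI : Q.Normal := Cfsg.Lib.Components.pCore_normal' 2
  set K := jHatOf (S : Subgroup G)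
  set Z := Cfsg.omegaOne 2 (K ⊓ centralizer (K : Set G))
  have hsq : SqHalf (S : Subgroup G) Z := sqHalf_omega (S := (S : Subgroup G)) S.2
  have hZK : Z ≤ K ⊓ centralizer (K : Set G) := (closure_le _).2 fun x hx => hx.1
  have hZe : Cfsg.IsElementaryAbelian 2 Z := Cfsg.Lib.JComp.elem_of_sq fun z hz => by
    induction hz using Subgroup.closure_induction with
    | mem x hx => rw [← pow_two]; exact hx.2
    | one => exact one_mul 1
    | mul x y hx hy ihx ihy =>
      have hcm : Commute x y := mem_centralizer_iff.1 (mem_inf.1 (hZK hy)).2 x (mem_inf.1 (hZK hx)).1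
      rw [← pow_two, hcm.mul_pow, pow_two, pow_two, ihx, ihy, one_mul]
    | inv x _ ih => rw [← mul_inv_rev, ih, inv_one]
  have hSK : (S : Subgroup G) ≤ normalizer (K : Set G) :=
    le_normalizer.trans (jHat_perm S le_rfl (jHatOf_le _) (Cfsg.Lib.Thompson.thompsonSubgroupOf_le _)).2
  have hSZ : (S : Subgroup G) ≤ normalizer (Z : Set G) := fun s hs => Cfsg.Lib.JComp.mem_normalizer_of_cj_le (by
    refine map_le_iff_le_comap.2 ((closure_le (K := Z.comap (MulAut.conj s).toMonoidHom)).2 ?_)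
    rintro x ⟨hx, hx2⟩
    refine subset_closure ⟨?_, by
      show (s * x * s⁻¹) ^ 2 = 1
      rw [conj_pow, hx2, mul_one, mul_inv_cancel]⟩
    have hn := Cfsg.Lib.Coprime.le_normalizer_inf hSK
      (hSK.trans (Cfsg.Lib.Thompson.normalizer_le_normalizer_centralizer K)) hs
    exact conj_mem hn hx)
  have hZS : Z ≤ (S : Subgroup G) := hZK.trans (inf_le_left.trans (jHatOf_le _))
  have hZQ : Z ≤ Q := le_core_of_sq hchar (tame_quotient_core hchar hfree hc) (S : Subgroup G) Z
    (core_le_sylow S) hZS hSZ hZe hsq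
  -- conjugates commute
  have hcomm : ∀ g : G, cj g Z ≤ centralizer (Z : Set G) := by
    intro g
    by_contra hne
    have hQg : ∀ h : G, cj h Z ≤ (S : Subgroup G) := fun h => by
      rintro _ ⟨z, hz, rfl⟩
      exact core_le_sylow S ((inferInstance : Q.Normal).conj_mem z (hZQ hz) h)
    have hRc : ∀ h : G, ⁅cj h Z, cj h Z⁆ ≤ centralizer (Z : Set G) ∧
        ∀ r ∈ cj h Z, r ^ 2 ∈ centralizer (Z : Set G) := fun h =>
      ⟨commutator_le.2 fun a ha b hb => by
        rw [commutatorElement_eq_one_iff_mul_comm.2 (elem_comm (elem_map _ hZe) ha hb)]; exact one_mem _,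
       fun r hr => by rw [pow_two, elem_sq (elem_map _ hZe) hr]; exact one_mem _⟩
    have hne' : ¬ cj g⁻¹ Z ≤ centralizer (Z : Set G) := by
      intro h
      refine hne ?_
      rintro _ ⟨z, hz, rfl⟩
      refine mem_centralizer_iff.2 fun w hw => ?_
      have h1 := mem_centralizer_iff.1 (h ⟨w, hw, rfl⟩) z hz
      change z * (g⁻¹ * w * g⁻¹⁻¹) = g⁻¹ * w * g⁻¹⁻¹ * z at h1
      show w * (g * z * g⁻¹) = g * z * g⁻¹ * w
      calc w * (g * z * g⁻¹) = g * ((g⁻¹ * w * g⁻¹⁻¹) * z) * g⁻¹ := by group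
        _ = g * (z * (g⁻¹ * w * g⁻¹⁻¹)) * g⁻¹ := by rw [h1]
        _ = _ := by group
    have e1 := hsq _ (hQg g) (hRc g).1 (hRc g).2 hne
    have e2 := hsq _ (hQg g⁻¹) (hRc g⁻¹).1 (hRc g⁻¹).2 hne'
    have hx : ∀ h : G, Nat.card ↥(Z ⊓ centralizer (cj h Z : Set G)) =
        Nat.card ↥(cj h⁻¹ Z ⊓ centralizer (Z : Set G)) := by
      intro h
      have hmap := (inf_centralizer_map (f := (MulAut.conj h⁻¹).toMonoidHom) (MulEquiv.injective _) Z (cj h Z)).symm
      rw [show (cj h Z).map (MulAut.conj h⁻¹).toMonoidHom = Z from Cfsg.Lib.JComp.cj_inv_cj h Z] at hmap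
      exact (Cfsg.Lib.JComp.card_cj h⁻¹ _).symm.trans (congrArg (fun T : Subgroup G => Nat.card T) hmap)
    rw [Cfsg.Lib.JComp.card_cj, hx] at e1
    rw [Cfsg.Lib.JComp.card_cj, hx, inv_inv] at e2
    set n := Nat.card Z
    set x := Nat.card ↥(cj g⁻¹ Z ⊓ centralizer (Z : Set G))
    set y := Nat.card ↥(cj g Z ⊓ centralizer (Z : Set G))
    have hxn : x ≤ n := (card_le_of_le inf_le_left).trans (Cfsg.Lib.JComp.card_cj _ _).le
    have hyn : y ≤ n := (card_le_of_le inf_le_left).trans (Cfsg.Lib.JComp.card_cj _ _).le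
    have h1 : n * x ^ 2 < y ^ 3 := Nat.lt_of_mul_lt_mul_left (a := n ^ 2)
      (lt_of_le_of_lt (le_of_eq (by ring)) e1)
    have h2 : n * y ^ 2 < x ^ 3 := Nat.lt_of_mul_lt_mul_left (a := n ^ 2)
      (lt_of_le_of_lt (le_of_eq (by ring)) e2)
    have h3 : (n * x ^ 2) * (n * y ^ 2) < x ^ 2 * y ^ 2 * (n * n) :=
      calc (n * x ^ 2) * (n * y ^ 2) < y ^ 3 * x ^ 3 := Nat.mul_lt_mul'' h1 h2
        _ = x ^ 2 * y ^ 2 * (x * y) := by ring
        _ ≤ _ := Nat.mul_le_mul_left _ (Nat.mul_le_mul hxn hyn)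
    exact absurd h3 (not_lt.2 (le_of_eq (by ring)))
  set U := Subgroup.normalClosure (Z : Set G)
  have hUQ : U ≤ Q := normalClosure_le_normal hZQ
  have hgen : ∀ x ∈ Group.conjugatesOfSet (Z : Set G), ∃ g, x ∈ cj g Z := fun x hx => by
    obtain ⟨z, hz, hzx⟩ := Group.mem_conjugatesOfSet_iff.1 hx
    obtain ⟨g, rfl⟩ := isConj_iff.1 hzx
    exact ⟨g, z, hz, rfl⟩
  haveI hUcomm : IsMulCommutative U := Subgroup.isMulCommutative_closure fun x hx y hy => by
    obtain ⟨g, a, ha, rfl⟩ := hgen x hx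
    obtain ⟨h, b, hb, rfl⟩ := hgen y hy
    have h1 := mem_centralizer_iff.1 (hcomm (g⁻¹ * h) ⟨b, hb, rfl⟩) a ha
    change a * (g⁻¹ * h * b * (g⁻¹ * h)⁻¹) = g⁻¹ * h * b * (g⁻¹ * h)⁻¹ * a at h1
    show g * a * g⁻¹ * (h * b * h⁻¹) = h * b * h⁻¹ * (g * a * g⁻¹)
    calc g * a * g⁻¹ * (h * b * h⁻¹) = g * (a * (g⁻¹ * h * b * (g⁻¹ * h)⁻¹)) * g⁻¹ := by group
      _ = g * ((g⁻¹ * h * b * (g⁻¹ * h)⁻¹) * a) * g⁻¹ := by rw [h1]
      _ = _ := by group
  have hUe : Cfsg.IsElementaryAbelian 2 U := Cfsg.Lib.JComp.elem_of_sq fun z hz => by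
    induction hz using Subgroup.closure_induction with
    | mem x hx => obtain ⟨g, a, ha, rfl⟩ := hgen x hx; show g * a * g⁻¹ * (g * a * g⁻¹) = 1; rw [conj_mul, elem_sq hZe ha, mul_one, mul_inv_cancel]
    | one => exact one_mul 1
    | mul x y hx hy ihx ihy =>
      have hcm : Commute x y := congrArg Subtype.val (hUcomm.is_comm.comm (⟨x, hx⟩ : U) ⟨y, hy⟩)
      rw [← pow_two, hcm.mul_pow, pow_two, pow_two, ihx, ihy, one_mul]
    | inv x _ ih => rw [← mul_inv_rev, ih, inv_one]
  have hUS : U ≤ (S : Subgroup G) := hUQ.trans (core_le_sylow S)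
  have hZU : Z ≤ U := subset_normalClosure
  haveI := centralizer_normal U
  set σ := conjEnd U
  set W : AddSubgroup (Additive U) := Subgroup.toAddSubgroup (Z.subgroupOf U)
  have hWG : toG U W = Z := by
    ext x
    refine mem_toG.trans ⟨fun ⟨_, h⟩ => h, fun h => ⟨hZU h, h⟩⟩
  set 𝒜 := {A : Subgroup G | IsMaxElem 2 (S : Subgroup G) A}
  have hJK : Cfsg.thompsonSubgroupOf 2 (S : Subgroup G) ≤ K :=
    le_jHatOf (Cfsg.Lib.Thompson.thompsonSubgroupOf_le _) (fun V hVU _ hVe hp => (thompson_centralizes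
      (U := Cfsg.thompsonSubgroupOf 2 (S : Subgroup G)) le_rfl
      (hVU.trans (Cfsg.Lib.Thompson.thompsonSubgroupOf_le _)) hVe hp).1) le_rfl
  have hOH : OH σ S W 𝒜 := by
    refine ⟨fun m => congrArg Additive.ofMul (Subtype.ext (elem_sq hUe (Additive.toMul m : U).2)), ?_, hc, ?_,
      fun A hA => hA.1, fun A hA => hA.2.1, ?_, ?_, ?_, ?_, ?_⟩
    · intro hi
      exact not_involves_quotient_centralizer hfree U (S.2.to_le hUS) (Cfsg.Lib.QuadPair.involves_of_surjective
        (f := (QuotientGroup.quotientMulEquivOfEq (ker_conjEnd U).symm).toMonoidHom) (MulEquiv.surjective _) hi)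
    · intro s hs w hw
      show ((Additive.toMul (σ s w) : U) : G) ∈ Z
      rw [conjEnd_val]
      exact conj_mem (hSZ hs) hw
    · intro A hA
      rw [pstab_conjEnd, hWG]
      exact ((maxElem_le_thompson hA).trans hJK).trans (le_centralizer_iff.1 (hZK.trans inf_le_right))
    · refine top_le_iff.1 fun m _ => ?_
      have key : ∀ x, ∀ hx : x ∈ U, Additive.ofMul (⟨x, hx⟩ : U) ∈
          AddSubgroup.closure {v | ∃ g, ∃ w ∈ W, v = σ g w} := by
        intro x hx
        induction hx using Subgroup.closure_induction with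
        | mem y hy =>
          obtain ⟨g, a, ha, rfl⟩ := hgen y hy
          exact AddSubgroup.subset_closure ⟨g, Additive.ofMul ⟨a, hZU ha⟩, ha,
            Additive.toMul.injective (Subtype.ext (conjEnd_val U g (Additive.ofMul ⟨a, hZU ha⟩)).symm)⟩
        | one => exact zero_mem _
        | mul y z hy hz ihy ihz => exact add_mem ihy ihz
        | inv y hy ih => exact neg_mem ih
      exact key _ (Additive.toMul m : U).2
    · intro R hR hc' hs hne
      rw [pstab_conjEnd, hWG] at hne ⊢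
      have h := hsq R hR (commutator_le.2 fun r hr s hs' => ?_) (fun r hr => ?_) hne
      · rwa [← card_toG U W, ← card_toG U (W ⊓ fixd σ R), toG_inf_fixd, hWG]
      · rw [← hWG, ← pstab_conjEnd]
        intro w hw
        have e : σ (r⁻¹ * s⁻¹) w = σ (s⁻¹ * r⁻¹) w := hc' r⁻¹ (inv_mem hr) s⁻¹ (inv_mem hs') w hw
        rw [commutatorElement_def, mul_assoc (r * s), act_mul, e, ← act_mul,
          show r * s * (s⁻¹ * r⁻¹) = 1 by group, act_one]
      · rw [← hWG, ← pstab_conjEnd, pow_two]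
        exact fun w hw => hs r hr w hw
    · intro A hA X
      have h := max_offender hA (elem_le hUe (toG_le U X)) ((toG_le U X).trans hUS)
      rwa [card_toG, ← pstab_conjEnd, ← toG_inf_fixd, card_toG] at h
    · intro n hn A hA
      exact ⟨hn A hA, elem_map _ hA.2.1, fun B hB hBe => (hA.2.2 B hB hBe).trans (Cfsg.Lib.JComp.card_cj n A).ge⟩
  have hJU : Cfsg.thompsonSubgroupOf 2 (S : Subgroup G) ≤ centralizer (U : Set G) := by
    rw [Cfsg.Lib.Thompson.thompsonSubgroupOf_eq]
    exact sSup_le fun A hA => ((oh_main _ rfl hOH) A hA).trans (ker_conjEnd U).le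
  intro g
  obtain ⟨c, hc', n, hn, e⟩ := hfr (centralizer (U : Set G)) inferInstance g
  refine ⟨c, centralizer_le hZU hc', n, ?_, e⟩
  refine Cfsg.Lib.JComp.mem_normalizer_of_cj_le ?_
  rw [Cfsg.Lib.Thompson.thompsonSubgroupOf_eq, cj, (gc_map_comap _).l_sSup]
  refine iSup₂_le fun A hA => le_sSup ⟨?_, elem_map _ hA.2.1,
    fun B hB hBe => (hA.2.2 B hB hBe).trans (Cfsg.Lib.JComp.card_cj n A).ge⟩
  rintro _ ⟨a, ha, rfl⟩
  exact (mem_inf.1 (conj_mem hn (mem_inf.2 ⟨hA.1 ha, hJU (maxElem_le_thompson hA ha)⟩))).1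

end Cfsg.Lib.SThreeFree
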