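import Cfsg.Agent.SThreeFree.Comp
import Cfsg.Agent.S2126
import Cfsg.Agent.S0813
import Cfsg.Agent.Suz.Lie
import Cfsg.Agent.Components.Module.IndexBoundSuz
import Cfsg.Agent.Components.Misc.SmallOffender
import Cfsg.Agent.Components.Signalizer.Basic
import Cfsg.Agent.SolvStruct.AltEight.Six
import Cfsg.Agent.Classical.Misc.SmallPSL
import Cfsg.Agent.Classical.Misc.PSLBounds
import Cfsg.Agent.JComp.Basic

/-!
Facts about Suzuki groups and `PSL₂(3^odd)`: commuting involutions, Sylow normalisers, and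
automorphisms of order two.
-/

set_option autoImplicit false
set_option linter.unusedSectionVars false
set_option linter.style.haveILetI false

namespace Cfsg.Lib.SThreeFree

open Subgroup
open scoped commutatorElement

universe u

/-! ### `SL₂` over a field in which `-1` is not a square -/

section SL

variable {F : Type*} [Field F]

local notation "SL2" => Matrix.SpecialLinearGroup (Fin 2) F
local notation "PSL2" => Matrix.ProjectiveSpecialLinearGroup (Fin 2) F

theorem sl_center (M : SL2) (h : M ∈ Subgroup.center SL2) : M * M = 1 := by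
  obtain ⟨z, hzp, hze⟩ := Matrix.SpecialLinearGroup.mem_center_iff.1 h
  rw [Fintype.card_fin] at hzp
  apply Subtype.ext
  rw [Matrix.SpecialLinearGroup.coe_mul, ← hze, Matrix.SpecialLinearGroup.coe_one]
  simp [← pow_two z, hzp]

theorem sl_center_cases (M : SL2) (h : M ∈ Subgroup.center SL2) : M = 1 ∨ M = -1 := by
  obtain ⟨z, hzp, hze⟩ := Matrix.SpecialLinearGroup.mem_center_iff.1 h
  rw [Fintype.card_fin] at hzp
  rcases sq_eq_one_iff.1 hzp with rfl | rfl
  · left; ext i j; rw [← hze]; fin_cases i <;> fin_cases j <;> simp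
  · right; ext i j; rw [← hze]; fin_cases i <;> fin_cases j <;> simp

theorem neg_one_mem_center : (-1 : SL2) ∈ Subgroup.center SL2 :=
  Subgroup.mem_center_iff.2 fun g => by rw [mul_neg, neg_mul, mul_one, one_mul]

theorem sl_neg_inv (M : SL2) : (-M)⁻¹ = -M⁻¹ := inv_eq_of_mul_eq_one_right (by rw [neg_mul_neg, mul_inv_cancel])

theorem psl_eq_iff (M N : SL2) : (QuotientGroup.mk M : PSL2) = QuotientGroup.mk N ↔ M = N ∨ M = -N := by
  rw [QuotientGroup.eq]
  constructor
  · intro h
    rcases sl_center_cases _ h with e | e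
    · exact Or.inl (inv_mul_eq_one.1 e)
    · refine Or.inr ?_
      have := congrArg (M * ·) e
      simp only [mul_inv_cancel_left, mul_neg, mul_one] at this
      rw [this, neg_neg]
  · rintro (rfl | rfl)
    · rw [inv_mul_cancel]; exact one_mem _
    · rw [sl_neg_inv, neg_mul, inv_mul_cancel]; exact neg_one_mem_center

variable (hns : ¬ IsSquare (-1 : F))
include hns

/-- A lift of an involution squares to `-1`. -/
theorem lift_sq {A : SL2} (h1 : (QuotientGroup.mk A : PSL2) ≠ 1)
    (h2 : (QuotientGroup.mk A : PSL2) * QuotientGroup.mk A = 1) : A * A = -1 := by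
  have hc : A * A ∈ Subgroup.center SL2 := by
    rw [← QuotientGroup.eq_one_iff, QuotientGroup.mk_mul]; exact h2
  rcases sl_center_cases _ hc with e | e
  · exfalso
    refine h1 ((QuotientGroup.eq_one_iff A).2 ?_)
    have e' : (A : Matrix (Fin 2) (Fin 2) F) * A = 1 := by
      rw [← Matrix.SpecialLinearGroup.coe_mul, e, Matrix.SpecialLinearGroup.coe_one]
    have hc := Cfsg.Lib.Components.IndexBound.cayley A
    rw [e'] at hc
    have a := congrFun (congrFun hc 0) 0
    have b := congrFun (congrFun hc 0) 1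
    have c := congrFun (congrFun hc 1) 0
    have d := congrFun (congrFun hc 1) 1
    simp at a b c d
    by_cases ht : A 0 0 + A 1 1 = 0
    · exfalso
      rw [ht, zero_mul, zero_sub] at a
      exact hns ⟨1, by rw [mul_one]; exact a.symm⟩
    rcases b with b | b
    · exact absurd b ht
    rcases c with c | c
    · exact absurd c ht
    refine Matrix.SpecialLinearGroup.mem_center_iff.2 ⟨A 0 0, ?_, ?_⟩
    · have had : A 0 0 = A 1 1 := mul_left_cancel₀ ht (by linear_combination d - a)
      have hd := A.2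
      rw [Matrix.det_fin_two, b, c, ← had, mul_zero, sub_zero] at hd
      rw [Fintype.card_fin, pow_two]
      exact hd
    · have had : A 0 0 = A 1 1 := mul_left_cancel₀ ht (by linear_combination d - a)
      ext i j
      fin_cases i <;> fin_cases j <;> simp [b, c, ← had]
  · exact e

theorem trace_zero {A : SL2} (h : A * A = -1) :
    A 1 1 = -A 0 0 ∧ A 0 0 * A 0 0 + A 0 1 * A 1 0 = -1 ∧ A 1 0 ≠ 0 := by
  have e : (A : Matrix (Fin 2) (Fin 2) F) * A = -1 := by
    rw [← Matrix.SpecialLinearGroup.coe_mul, h, Matrix.SpecialLinearGroup.coe_neg,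
      Matrix.SpecialLinearGroup.coe_one]
  have a := congrFun (congrFun e 0) 0
  have b := congrFun (congrFun e 0) 1
  have c := congrFun (congrFun e 1) 0
  simp [Matrix.mul_apply, Fin.sum_univ_two] at a b c
  have h10 : A 1 0 ≠ 0 := fun h0 => hns ⟨A 0 0, by rw [h0, mul_zero, add_zero] at a; exact a.symm⟩
  refine ⟨?_, a, h10⟩
  have : A 1 0 * (A 0 0 + A 1 1) = 0 := by linear_combination c
  rcases mul_eq_zero.1 this with h' | h'
  · exact absurd h' h10
  · linear_combination h'

theorem centralizer_form {A M : SL2} (h : A * A = -1) (hc : M * A = A * M) :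
    ∃ u v : F, M 0 0 = u + v * A 0 0 ∧ M 0 1 = v * A 0 1 ∧ M 1 0 = v * A 1 0 ∧ M 1 1 = u - v * A 0 0 := by
  obtain ⟨h11, -, h10⟩ := trace_zero hns h
  have e : (M : Matrix (Fin 2) (Fin 2) F) * A = (A : Matrix (Fin 2) (Fin 2) F) * M := by
    rw [← Matrix.SpecialLinearGroup.coe_mul, ← Matrix.SpecialLinearGroup.coe_mul, hc]
  have a := congrFun (congrFun e 0) 0
  have c := congrFun (congrFun e 1) 0
  simp [Matrix.mul_apply, Fin.sum_univ_two, h11] at a c
  refine ⟨M 0 0 - M 1 0 / A 1 0 * A 0 0, M 1 0 / A 1 0, by ring, ?_, ?_, ?_⟩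
  · field_simp
    linear_combination a
  · field_simp
  · field_simp
    linear_combination c

theorem centralizer_comm {A M N : SL2} (h : A * A = -1) (hM : M * A = A * M) (hN : N * A = A * N) :
    M * N = N * M := by
  obtain ⟨u, v, a, b, c, d⟩ := centralizer_form hns h hM
  obtain ⟨u', v', a', b', c', d'⟩ := centralizer_form hns h hN
  ext i j
  fin_cases i <;> fin_cases j <;>
    simp [Matrix.mul_apply, Fin.sum_univ_two, a, b, c, d, a', b', c', d'] <;> ring

/-- Commuting involutions: their lifts anticommute. -/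
theorem anticommute {A B : SL2} (hA : A * A = -1) (hB : B * B = -1)
    (hne : (QuotientGroup.mk A : PSL2) ≠ QuotientGroup.mk B)
    (hc : (QuotientGroup.mk A : PSL2) * QuotientGroup.mk B = QuotientGroup.mk B * QuotientGroup.mk A) :
    A * B = -(B * A) := by
  rw [← QuotientGroup.mk_mul, ← QuotientGroup.mk_mul, psl_eq_iff] at hc
  refine hc.resolve_left fun e => hne ?_
  rw [psl_eq_iff]
  obtain ⟨u, v, a, b, c, d⟩ := centralizer_form hns hA e.symm
  obtain ⟨h11, hbc, h10⟩ := trace_zero hns hA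
  obtain ⟨h11', hbc', -⟩ := trace_zero hns hB
  have hu2 : u + u = 0 := by rw [a, d] at h11'; linear_combination h11'
  have key : -v ^ 2 + 2 * u * v * A 0 0 + u ^ 2 = -1 := by
    rw [a, b, c] at hbc'; linear_combination hbc' - v ^ 2 * hbc
  have hv : v ^ 2 = 1 + u ^ 2 := by linear_combination -key + v * A 0 0 * hu2
  have hu : u = 0 := by
    by_contra hu
    have h20 : (2 : F) = 0 := by
      rcases mul_eq_zero.1 (show (2 : F) * u = 0 by linear_combination hu2) with h | h
      · exact h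
      · exact absurd h hu
    exact hns ⟨1, by linear_combination -h20⟩
  subst hu
  rcases sq_eq_one_iff.1 (show v ^ 2 = 1 by rw [hv]; ring) with rfl | rfl
  · left
    ext i j
    fin_cases i <;> fin_cases j <;> simp [a, b, c, d, h11]
  · right
    ext i j
    fin_cases i <;> fin_cases j <;> simp [a, b, c, d, h11]

/-- The involutions commuting with two commuting involutions. -/
theorem third_involution {a b c : PSL2} (ha : a ≠ 1) (hb : b ≠ 1) (hab : a ≠ b) (hc : c ≠ 1)
    (ha2 : a * a = 1) (hb2 : b * b = 1) (hc2 : c * c = 1)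
    (h1 : a * b = b * a) (h2 : a * c = c * a) (h3 : b * c = c * b) : c = a ∨ c = b ∨ c = a * b := by
  by_contra hne
  push Not at hne
  obtain ⟨hca, hcb, hcab⟩ := hne
  obtain ⟨A, rfl⟩ := QuotientGroup.mk_surjective a
  obtain ⟨B, rfl⟩ := QuotientGroup.mk_surjective b
  obtain ⟨C, rfl⟩ := QuotientGroup.mk_surjective c
  have hA := lift_sq hns ha ha2
  have hB := lift_sq hns hb hb2
  have hC := lift_sq hns hc hc2
  have eAB := anticommute hns hA hB hab h1
  have eAC := anticommute hns hA hC (Ne.symm hca) h2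
  have eBC := anticommute hns hB hC (Ne.symm hcb) h3
  have hAB : A * B * (A * B) = -1 := by
    rw [show A * B * (A * B) = A * (B * A) * B by group, show B * A = -(A * B) by rw [eAB, neg_neg]]
    rw [mul_neg, neg_mul, show A * (A * B) * B = (A * A) * (B * B) by group, hA, hB, neg_mul_neg, mul_one]
  have e := anticommute hns hAB hC (fun h => hcab (h.symm.trans (QuotientGroup.mk_mul _ _ _))) (by
    rw [QuotientGroup.mk_mul]
    exact (Commute.mul_left h2 h3).eq)
  have e' : A * B * C = C * (A * B) := by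
    rw [mul_assoc, eBC, mul_neg, ← mul_assoc, eAC, neg_mul, neg_neg, mul_assoc]
  rw [e'] at e
  have h' := congrArg (fun M : SL2 => ((C * (A * B))⁻¹ * M : SL2)) e
  simp only [inv_mul_cancel, mul_neg] at h'
  have h00 := congrArg (fun M : SL2 => M 0 0) h'
  simp at h00
  exact hns ⟨1, by linear_combination -h00⟩

omit hns in
/-- `u + v A`. -/
def el (A : Matrix (Fin 2) (Fin 2) F) (u v : F) : Matrix (Fin 2) (Fin 2) F := u • 1 + v • A

omit hns in
theorem el_mul {A : Matrix (Fin 2) (Fin 2) F} (h : A * A = -1) (u v u' v' : F) :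
    el A u v * el A u' v' = el A (u * u' - v * v') (u * v' + v * u') := by
  unfold el
  simp only [add_mul, mul_add, smul_mul_assoc, mul_smul_comm, one_mul, mul_one, h, smul_neg, smul_smul]
  module

theorem el_inj {A : SL2} (h : A * A = -1) {u v u' v' : F}
    (e : el (A : Matrix (Fin 2) (Fin 2) F) u v = el (A : Matrix (Fin 2) (Fin 2) F) u' v') : u = u' ∧ v = v' := by
  obtain ⟨-, -, h10⟩ := trace_zero hns h
  have e1 := congrFun (congrFun e 1) 0
  have e0 := congrFun (congrFun e 0) 0
  simp [el] at e1 e0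
  have hv : v = v' := e1.resolve_right h10
  subst hv
  exact ⟨add_right_cancel e0, rfl⟩

theorem mem_el {A M : SL2} (h : A * A = -1) (hc : M * A = A * M) :
    ∃ u v : F, (M : Matrix (Fin 2) (Fin 2) F) = el (A : Matrix (Fin 2) (Fin 2) F) u v ∧ u * u + v * v = 1 := by
  obtain ⟨u, v, a, b, c, d⟩ := centralizer_form hns h hc
  obtain ⟨h11, hbc, -⟩ := trace_zero hns h
  refine ⟨u, v, ?_, ?_⟩
  · ext i j
    fin_cases i <;> fin_cases j <;> simp [el, a, b, c, d, h11, sub_eq_add_neg]
  · have := M.2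
    rw [Matrix.det_fin_two, a, b, c, d] at this
    linear_combination this + v ^ 2 * hbc

variable [Fintype F]

theorem exists_odd_inverted (hq : 4 < Fintype.card F) {a b : PSL2} (ha : a ≠ 1) (hb : b ≠ 1) (hab : a ≠ b)
    (ha2 : a * a = 1) (hb2 : b * b = 1) (h1 : a * b = b * a) (h2 : ¬ IsSquare (2 : F)) :
    ∃ x : PSL2, x ≠ 1 ∧ Odd (orderOf x) ∧ a * x = x * a ∧ b * x * b⁻¹ = x⁻¹ := by
  classical
  obtain ⟨A, rfl⟩ := QuotientGroup.mk_surjective a
  obtain ⟨B, rfl⟩ := QuotientGroup.mk_surjective b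
  have hA := lift_sq hns ha ha2
  have hB := lift_sq hns hb hb2
  have eAB := anticommute hns hA hB hab h1
  obtain ⟨h11, hbc, h10⟩ := trace_zero hns hA
  set A' : Matrix (Fin 2) (Fin 2) F := (A : Matrix (Fin 2) (Fin 2) F) with hA'
  have hAA : A' * A' = -1 := by
    rw [hA', ← Matrix.SpecialLinearGroup.coe_mul, hA, Matrix.SpecialLinearGroup.coe_neg,
      Matrix.SpecialLinearGroup.coe_one]
  have one_el : ((1 : SL2) : Matrix (Fin 2) (Fin 2) F) = el A' 1 0 := by simp [el]
  set C : Subgroup SL2 := Subgroup.centralizer ({A} : Set SL2)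
  have hmem : ∀ M : SL2, M ∈ C ↔ M * A = A * M := fun M => by
    rw [Subgroup.mem_centralizer_singleton_iff]
  have hden : ∀ t : F, 1 + t * t ≠ 0 := fun t h => hns ⟨t, by linear_combination -h⟩
  have h20 : (2 : F) ≠ 0 := fun h => hns ⟨1, by linear_combination -h⟩
  have hdet : ∀ u v : F, u * u + v * v = 1 → (el A' u v).det = 1 := fun u v h => by
    rw [Matrix.det_fin_two]
    simp [el, h11]
    linear_combination h - v ^ 2 * hbc
  let pu : F → F := fun t => (1 - t * t) / (1 + t * t)
  let pv : F → F := fun t => (t + t) / (1 + t * t)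
  have hpar : ∀ t, pu t * pu t + pv t * pv t = 1 := fun t => by
    show (1 - t * t) / (1 + t * t) * ((1 - t * t) / (1 + t * t)) + (t + t) / (1 + t * t) * ((t + t) / (1 + t * t)) = 1
    rw [div_mul_div_comm, div_mul_div_comm, ← add_div, div_eq_one_iff_eq (mul_ne_zero (hden t) (hden t))]
    ring
  let f : F → C := fun t => ⟨⟨_, hdet _ _ (hpar t)⟩, (hmem _).2 (Subtype.ext (by
    show el A' _ _ * A' = A' * el A' _ _
    rw [show A' = el A' 0 1 by simp [el]] at *
    simp only [el, zero_smul, one_smul, zero_add]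
    simp only [add_mul, mul_add, smul_mul_assoc, mul_smul_comm, one_mul, mul_one]))⟩
  have hf : Function.Injective f := by
    intro s t h
    obtain ⟨e1, e2⟩ := el_inj hns hA (congrArg (fun M : C => ((M : SL2) : Matrix (Fin 2) (Fin 2) F)) h)
    have k : ∀ r : F, pu r + 1 = 2 / (1 + r * r) ∧ pv r = r * (pu r + 1) := fun r => by
      have e : pu r + 1 = 2 / (1 + r * r) := by
        show (1 - r * r) / (1 + r * r) + 1 = _
        rw [div_add_one (hden r)]; ring
      refine ⟨e, ?_⟩
      rw [e]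
      show (r + r) / (1 + r * r) = _
      ring
    rw [(k s).2, (k t).2, e1] at e2
    refine mul_right_cancel₀ ?_ e2
    rw [(k t).1]
    exact div_ne_zero h20 (hden t)
  have hcard : 4 < Nat.card C := lt_of_lt_of_le hq (by
    rw [← Nat.card_eq_fintype_card]; exact Nat.card_le_card_of_injective f hf)
  have hfour : ∀ M ∈ C, (M * M) * (M * M) = 1 → M = 1 ∨ M = -1 ∨ M = A ∨ M = -A := by
    intro M hM h4
    obtain ⟨u, v, eM, hd⟩ := mem_el hns hA ((hmem M).1 hM)
    rw [← hA'] at eM
    have e4 := (congrArg (fun K : SL2 => (K : Matrix (Fin 2) (Fin 2) F)) h4).trans one_el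
    simp only [Matrix.SpecialLinearGroup.coe_mul, eM, el_mul hAA] at e4
    obtain ⟨-, e5⟩ := el_inj hns hA e4
    have e6 : (u * u - v * v) * (u * v + v * u) = 0 :=
      mul_left_cancel₀ h20 (by linear_combination e5)
    rcases mul_eq_zero.1 e6 with h | h
    · exact absurd ⟨u + u, by linear_combination -2 * hd - 2 * h⟩ h2
    · rcases mul_eq_zero.1 (mul_left_cancel₀ h20 (show 2 * (u * v) = 2 * 0 by linear_combination h)) with rfl | rfl
      · rcases sq_eq_one_iff.1 (show v ^ 2 = 1 by linear_combination hd) with rfl | rfl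
        · exact Or.inr (Or.inr (Or.inl (Subtype.ext (by rw [eM]; simp [el, hA']))))
        · exact Or.inr (Or.inr (Or.inr (Subtype.ext (by rw [eM]; simp [el, hA']))))
      · rcases sq_eq_one_iff.1 (show u ^ 2 = 1 by linear_combination hd) with rfl | rfl
        · exact Or.inl (Subtype.ext (by rw [eM]; simp [el]))
        · exact Or.inr (Or.inl (Subtype.ext (by rw [eM]; simp [el])))
  obtain ⟨x, hxC, hx1, hxo⟩ : ∃ x ∈ C, x ≠ 1 ∧ Odd (orderOf x) := by
    by_contra hall
    push Not at hall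
    have hall' : ∀ M ∈ C, (M * M) * (M * M) = 1 := by
      intro M hM
      obtain ⟨s, hs⟩ := Cfsg.Lib.JComp.exists_odd_pow M
      have h1 : M ^ 2 ^ s = 1 := by
        by_contra hne
        exact hall _ (pow_mem hM _) hne hs
      have step : ∀ N ∈ C, (N * N) * (N * N) * ((N * N) * (N * N)) = 1 → (N * N) * (N * N) = 1 := by
        intro N hN h8
        rcases hfour _ (mul_mem hN hN) h8 with h | h | h | h
        · rw [h, one_mul]
        · rw [h, neg_mul_neg, one_mul]
        all_goals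
          exfalso
          obtain ⟨u, v, eN, hd⟩ := mem_el hns hA ((hmem N).1 hN)
          rw [← hA'] at eN
        · have e := (congrArg (fun K : SL2 => (K : Matrix (Fin 2) (Fin 2) F)) h).trans
            (show A' = el A' 0 1 by simp [el])
          simp only [Matrix.SpecialLinearGroup.coe_mul, eN, el_mul hAA] at e
          exact h2 ⟨u + u, by linear_combination -2 * hd - 2 * (el_inj hns hA e).1⟩
        · have e := (congrArg (fun K : SL2 => (K : Matrix (Fin 2) (Fin 2) F)) h).trans
            (show ((-A : SL2) : Matrix (Fin 2) (Fin 2) F) = el A' 0 (-1) by simp [el, hA'])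
          simp only [Matrix.SpecialLinearGroup.coe_mul, eN, el_mul hAA] at e
          exact h2 ⟨u + u, by linear_combination -2 * hd - 2 * (el_inj hns hA e).1⟩
      have down : ∀ k, 2 ≤ k → ∀ N ∈ C, N ^ 2 ^ k = 1 → (N * N) * (N * N) = 1 := by
        intro k hk
        induction k, hk using Nat.le_induction with
        | base => intro N _ h; simpa [pow_succ, mul_assoc] using h
        | succ k _ ih =>
          intro N hN h
          have h' := ih _ (mul_mem hN hN) (by rw [← pow_two, ← pow_mul, ← pow_succ']; exact h)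
          exact step N hN h'
      refine down (s + 2) (by omega) M hM ?_
      rw [pow_add, pow_mul, h1, one_pow]
    have hsub : (Finset.univ : Finset C).image (fun M : C => (M : SL2)) ⊆ {1, -1, A, -A} := by
      intro M hM
      obtain ⟨M', -, rfl⟩ := Finset.mem_image.1 hM
      simpa using hfour _ M'.2 (hall' _ M'.2)
    have h := Finset.card_le_card hsub
    rw [Finset.card_image_of_injective _ Subtype.coe_injective, Finset.card_univ, ← Nat.card_eq_fintype_card] at h
    have h4' : Finset.card ({1, -1, A, -A} : Finset SL2) ≤ 4 := Finset.card_le_four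
    omega
  refine ⟨QuotientGroup.mk x, fun h => hx1 ?_, hxo.of_dvd_nat (orderOf_map_dvd (QuotientGroup.mk' _) x), ?_, ?_⟩
  · exact (Cfsg.Lib.JComp.mem_of_odd_of_pow_mem (N := (⊥ : Subgroup SL2)) hxo (k := 1)
      (Subgroup.mem_bot.2 (by rw [pow_one, pow_two]; exact sl_center _ ((QuotientGroup.eq_one_iff x).1 h))))
  · rw [← QuotientGroup.mk_mul, ← QuotientGroup.mk_mul, (hmem x).1 hxC]
  · rw [← QuotientGroup.mk_inv, ← QuotientGroup.mk_mul, ← QuotientGroup.mk_mul, ← QuotientGroup.mk_inv]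
    refine congrArg QuotientGroup.mk (eq_inv_of_mul_eq_one_left (Subtype.ext ?_))
    obtain ⟨u, v, ex, hd⟩ := mem_el hns hA ((hmem x).1 hxC)
    rw [← hA'] at ex
    set B' : Matrix (Fin 2) (Fin 2) F := (B : Matrix (Fin 2) (Fin 2) F) with hB'
    have eBA : B' * A' = -(A' * B') := by
      rw [hB', hA', ← Matrix.SpecialLinearGroup.coe_mul, ← Matrix.SpecialLinearGroup.coe_mul, eAB,
        Matrix.SpecialLinearGroup.coe_neg, neg_neg]
    have hswap : B' * el A' u v = el A' u (-v) * B' := by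
      simp only [el, mul_add, add_mul, mul_smul_comm, smul_mul_assoc, mul_one, one_mul, eBA, smul_neg, neg_smul, neg_mul]
    have hBB : B' * ((B⁻¹ : SL2) : Matrix (Fin 2) (Fin 2) F) = 1 := by
      rw [hB', ← Matrix.SpecialLinearGroup.coe_mul, mul_inv_cancel, Matrix.SpecialLinearGroup.coe_one]
    rw [Matrix.SpecialLinearGroup.coe_mul, Matrix.SpecialLinearGroup.coe_mul, Matrix.SpecialLinearGroup.coe_mul,
      ex, hswap, mul_assoc (el A' u (-v)), hBB, mul_one, el_mul hAA, one_el]
    congr 1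
    · linear_combination hd
    · ring

end SL

/-! ### the two families -/

section Facts

variable {F : Type} [Field F] [Fintype F] {n : ℕ}

theorem field_facts (hF : Fintype.card F = 3 ^ (2 * n + 1)) :
    ¬ IsSquare (-1 : F) ∧ ¬ IsSquare (2 : F) ∧ Fintype.card F % 8 = 3 := by
  haveI : Fact (Nat.Prime 3) := ⟨Nat.prime_three⟩
  haveI : CharP F 3 := charP_of_card_eq_prime_pow hF
  have h8 : Fintype.card F % 8 = 3 := by
    rw [hF, pow_succ, pow_mul, Nat.mul_mod, Nat.pow_mod]
    norm_num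
  have hns : ¬ IsSquare (-1 : F) := by rw [FiniteField.isSquare_neg_one_iff]; omega
  refine ⟨hns, ?_, h8⟩
  rw [show (2 : F) = -1 by
    have : (3 : F) = 0 := by exact_mod_cast CharP.cast_eq_zero F 3
    linear_combination this]
  exact hns

theorem psl_card (hF : Fintype.card F = 3 ^ (2 * n + 1)) :
    ∃ m : ℕ, Nat.card (Matrix.ProjectiveSpecialLinearGroup (Fin 2) F) = 4 * m ∧ ¬ 2 ∣ m := by
  obtain ⟨-, -, h8⟩ := field_facts hF
  have h := Cfsg.Lib.Classical.SmallPSL.card_psl (F := F) rfl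
  generalize Nat.card (Matrix.ProjectiveSpecialLinearGroup (Fin 2) F) = N at h ⊢
  generalize Fintype.card F = q at h h8
  rw [Nat.gcd_eq_left (show 2 ∣ q - 1 by omega)] at h
  obtain ⟨j, rfl⟩ : ∃ j, q = 8 * j + 3 := ⟨q / 8, by omega⟩
  rw [show (8 * j + 3) ^ 2 = 8 * (8 * j ^ 2 + 6 * j + 1) + 1 by ring, Nat.add_sub_cancel] at h
  refine ⟨(8 * j + 3) * (8 * j ^ 2 + 6 * j + 1), Nat.eq_of_mul_eq_mul_left two_pos (h.trans (by ring)), fun hd => ?_⟩
  rcases Nat.prime_two.dvd_mul.1 hd with h' | h' <;> omega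

theorem psl_sylow_small (hF : Fintype.card F = 3 ^ (2 * n + 1))
    (P : Sylow 2 (Matrix.ProjectiveSpecialLinearGroup (Fin 2) F)) :
    Nat.card (P : Subgroup (Matrix.ProjectiveSpecialLinearGroup (Fin 2) F)) ≤ 4 := by
  obtain ⟨m, hm, hodd⟩ := psl_card hF
  have hd := (P : Subgroup (Matrix.ProjectiveSpecialLinearGroup (Fin 2) F)).card_subgroup_dvd_card
  obtain ⟨k, hk⟩ := P.2.exists_card_eq
  rw [hk, hm] at hd
  rw [hk]
  by_contra hlt
  have hk3 : 3 ≤ k := by
    by_contra hk3
    have := Nat.pow_le_pow_right two_pos (show k ≤ 2 by omega)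
    norm_num at this
    omega
  have hd' : 2 ^ 3 ∣ 4 * m := (pow_dvd_pow 2 hk3).trans hd
  rw [show (2 : ℕ) ^ 3 = 4 * 2 by norm_num] at hd'
  exact hodd (Nat.dvd_of_mul_dvd_mul_left (by norm_num) hd')

set_option maxHeartbeats 1000000 in
theorem psl_centralizer_solvable (hF : Fintype.card F = 3 ^ (2 * n + 1))
    {a : Matrix.ProjectiveSpecialLinearGroup (Fin 2) F} (ha : a ≠ 1) (ha2 : a * a = 1) :
    Group.IsSolvable (centralizer ({a} : Set (Matrix.ProjectiveSpecialLinearGroup (Fin 2) F))) := by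
  obtain ⟨hns, -, -⟩ := field_facts hF
  obtain ⟨A, rfl⟩ := QuotientGroup.mk_surjective a
  have hA := lift_sq hns ha ha2
  let π := QuotientGroup.mk' (Subgroup.center (Matrix.SpecialLinearGroup (Fin 2) F))
  set C := centralizer ({(π A)} : Set (Matrix.ProjectiveSpecialLinearGroup (Fin 2) F))
  set P := C.comap π with hP
  have hsign : ∀ M ∈ P, M * A = A * M ∨ M * A = -(A * M) := fun M hM => by
    have := mem_centralizer_singleton_iff.1 (mem_comap.1 hM)
    rw [← map_mul, ← map_mul] at this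
    exact (psl_eq_iff _ _).1 this
  have hcomm : ∀ M ∈ P, ∀ N ∈ P, ⁅M, N⁆ * A = A * ⁅M, N⁆ := by
    intro M hM N hN
    have hc : ∀ r : Matrix.SpecialLinearGroup (Fin 2) F, (r = 1 ∨ r = -1) → ∀ X, X * r = r * X := by
      rintro r (rfl | rfl) X <;> simp
    have e : ∀ X, X ∈ P → ∃ s : Matrix.SpecialLinearGroup (Fin 2) F, (s = 1 ∨ s = -1) ∧ X * A * X⁻¹ = s * A := by
      intro X hX
      rcases hsign X hX with h | h
      · exact ⟨1, Or.inl rfl, by rw [h, mul_inv_cancel_right, one_mul]⟩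
      · exact ⟨-1, Or.inr rfl, by rw [h, neg_mul, mul_inv_cancel_right, neg_mul, one_mul]⟩
    obtain ⟨s, hs, es⟩ := e M hM
    obtain ⟨t, ht, et⟩ := e N hN
    have k : ∀ X r, (r = 1 ∨ r = -1) → X * (r * A) * X⁻¹ = r * (X * A * X⁻¹) := fun X r hr => by
      rw [← mul_assoc X r, hc r hr X]; group
    have e1 : M * N * A * (M * N)⁻¹ = t * (s * A) := by
      rw [show M * N * A * (M * N)⁻¹ = M * (N * A * N⁻¹) * M⁻¹ by group, et, k M t ht, es]
    have e2 : N * M * A * (N * M)⁻¹ = t * (s * A) := by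
      rw [show N * M * A * (N * M)⁻¹ = N * (M * A * M⁻¹) * N⁻¹ by group, es, k N s hs, et, ← mul_assoc,
        ← mul_assoc, hc t ht s]
    have e3 : ⁅M, N⁆ * (t * (s * A)) = t * (s * A) * ⁅M, N⁆ := by
      calc ⁅M, N⁆ * (t * (s * A)) = M * N * A * (N * M)⁻¹ := by
            rw [← e2, commutatorElement_def]; group
        _ = t * (s * A) * ⁅M, N⁆ := by rw [← e1, commutatorElement_def]; group
    rcases hs with rfl | rfl <;> rcases ht with rfl | rfl <;> simpa using e3
  haveI hPs : Group.IsSolvable P := by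
    haveI : (((centralizer ({A} : Set (Matrix.SpecialLinearGroup (Fin 2) F))).subgroupOf P)).Normal := by
      refine ⟨fun x hx g => ?_⟩
      rw [mem_subgroupOf] at hx ⊢
      have h1 := hcomm (g : Matrix.SpecialLinearGroup (Fin 2) F) g.2 x x.2
      have e : ((g * x * g⁻¹ : P) : Matrix.SpecialLinearGroup (Fin 2) F) =
          ⁅(g : Matrix.SpecialLinearGroup (Fin 2) F), (x : Matrix.SpecialLinearGroup (Fin 2) F)⁆ * x := by
        simp only [Subgroup.coe_mul, InvMemClass.coe_inv, commutatorElement_def]; group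
      rw [e]
      exact mul_mem (mem_centralizer_singleton_iff.2 h1) hx
    set C₀ := (centralizer ({A} : Set (Matrix.SpecialLinearGroup (Fin 2) F))).subgroupOf P
    refine (Group.isSolvable_iff_subgroup_quotient C₀).2 ⟨?_, ?_⟩
    · refine Group.isSolvable_of_comm fun x y => Subtype.ext (Subtype.ext ?_)
      exact centralizer_comm hns hA (mem_centralizer_singleton_iff.1 (mem_subgroupOf.1 x.2))
        (mem_centralizer_singleton_iff.1 (mem_subgroupOf.1 y.2))
    · refine Group.isSolvable_of_comm fun x y => ?_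
      obtain ⟨x, rfl⟩ := QuotientGroup.mk'_surjective _ x
      obtain ⟨y, rfl⟩ := QuotientGroup.mk'_surjective _ y
      rw [← commutatorElement_eq_one_iff_mul_comm, ← map_commutatorElement, QuotientGroup.mk'_apply,
        QuotientGroup.eq_one_iff, mem_subgroupOf]
      refine mem_centralizer_singleton_iff.2 ?_
      rw [show ((⁅x, y⁆ : P) : Matrix.SpecialLinearGroup (Fin 2) F) =
        ⁅(x : Matrix.SpecialLinearGroup (Fin 2) F), (y : Matrix.SpecialLinearGroup (Fin 2) F)⁆ from
        map_commutatorElement P.subtype x y]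
      exact hcomm _ x.2 _ y.2
  exact Group.isSolvable_of_surjective (MonoidHom.subgroupComap_surjective_of_surjective π C
    (QuotientGroup.mk'_surjective _))

theorem normalizer_solvable_psl (hF : Fintype.card F = 3 ^ (2 * n + 1))
    (P : Sylow 2 (Matrix.ProjectiveSpecialLinearGroup (Fin 2) F)) :
    Group.IsSolvable (normalizer ((P : Subgroup (Matrix.ProjectiveSpecialLinearGroup (Fin 2) F)) :
      Set (Matrix.ProjectiveSpecialLinearGroup (Fin 2) F))) := by
  classical
  haveI : Fact (Nat.Prime 2) := ⟨Nat.prime_two⟩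
  set G := Matrix.ProjectiveSpecialLinearGroup (Fin 2) F
  set T : Subgroup G := (P : Subgroup G)
  have heven : 2 ∣ Nat.card G := by
    obtain ⟨m, hm, -⟩ := psl_card hF
    exact hm ▸ (dvd_mul_of_dvd_left (by norm_num) m)
  obtain ⟨⟨t, htT⟩, ht⟩ := exists_prime_orderOf_dvd_card' (G := T) 2 (P.dvd_card_of_dvd_card heven)
  rw [Subgroup.orderOf_mk] at ht
  haveI hC : Group.IsSolvable (centralizer (T : Set G)) := by
    haveI := psl_centralizer_solvable hF (a := t) (fun h => by rw [h, orderOf_one] at ht; omega)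
      (by rw [← pow_two]; exact (orderOf_eq_prime_iff.1 ht).1)
    exact Group.isSolvable_of_isSolvable_injective (Subgroup.inclusion_injective
      (centralizer_le (Set.singleton_subset_iff.2 htT)))
  haveI : Group.IsSolvable (MulAut T) := Cfsg.Lib.Presentations.isSolvable_of_card_lt_sixty _ _ rfl (by
    have h1 : Nat.card (MulAut T) ≤ Nat.card (Equiv.Perm T) :=
      Nat.card_le_card_of_injective (fun e => e.toEquiv) MulEquiv.toEquiv_injective
    have h2 : Nat.card (Equiv.Perm T) ≤ 24 := by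
      rw [Nat.card_perm]
      exact (Nat.factorial_le (psl_sylow_small hF P)).trans (by decide)
    omega)
  set φ := T.normalizerMonoidHom
  haveI : Group.IsSolvable φ.ker := by
    rw [Subgroup.normalizerMonoidHom_ker]
    exact Group.isSolvable_of_isSolvable_injective (f := (subgroupOfEquivOfLe
      (Cfsg.Lib.Thompson.centralizer_le_normalizer T)).toMonoidHom) (MulEquiv.injective _)
  exact Group.isSolvable_of_ker_le_range φ.ker.subtype φ (by simp)

end Facts

theorem normalizer_solvable_sz {F : Type} [Field F] [Fintype F] {m : ℕ} (Q : Cfsg.Lib.Suz.Par F m)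
    (P : Sylow 2 (Cfsg.Sz F m)) :
    Group.IsSolvable (normalizer ((P : Subgroup (Cfsg.Sz F m)) : Set (Cfsg.Sz F m))) := by
  haveI : Fact (Nat.Prime 2) := ⟨Nat.prime_two⟩
  haveI : Group.IsNilpotent (Cfsg.Lib.Suz.uSub Q) := (Cfsg.Lib.Suz.isPGroup_uSub Q).isNilpotent
  haveI : Group.IsSolvable (normalizer (Cfsg.Lib.Suz.uSub Q : Set (Cfsg.Sz F m))) := by
    have hH : Group.IsSolvable (Cfsg.Lib.Suz.hHom Q).range := Group.isSolvable_of_comm (by
      rintro ⟨_, k, rfl⟩ ⟨_, l, rfl⟩
      exact Subtype.ext (by simp only [Subgroup.coe_mul, ← map_mul, mul_comm]))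
    have hn : (Cfsg.Lib.Suz.hHom Q).range ≤ normalizer (Cfsg.Lib.Suz.uSub Q : Set (Cfsg.Sz F m)) := by
      rw [Cfsg.Lib.Suz.normalizer_uSub]
      rintro _ ⟨k, rfl⟩
      exact Cfsg.Lib.Suz.H_inf m k
    haveI := Cfsg.Lib.Signalizer.isSolvable_sup hn inferInstance hH
    refine Group.isSolvable_of_isSolvable_injective (Subgroup.inclusion_injective
      (K := Cfsg.Lib.Suz.uSub Q ⊔ (Cfsg.Lib.Suz.hHom Q).range) ?_)
    rw [Cfsg.Lib.Suz.normalizer_uSub]
    intro g hg
    obtain ⟨a, b, k, e⟩ := Cfsg.Lib.Suz.stab_inf Q g.2 hg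
    have eg : g = Cfsg.Lib.Suz.uu Q a b * Cfsg.Lib.Suz.hI Q k := Subtype.ext e
    rw [eg]
    exact mul_mem (mem_sup_left (Cfsg.Lib.Suz.uu_mem Q a b)) (mem_sup_right ⟨k, rfl⟩)
  obtain ⟨c, hc⟩ := Cfsg.Lib.Suz.exists_conj Q P
  have he : (P : Subgroup (Cfsg.Sz F m)).map (MulAut.conj c).toMonoidHom = Cfsg.Lib.Suz.uSub Q := by
    ext x
    refine ⟨?_, fun hx => ⟨c⁻¹ * x * c, (hc _).2 ?_, ?_⟩⟩
    · rintro ⟨y, hy, rfl⟩; exact (hc y).1 hy
    · rwa [show c * (c⁻¹ * x * c) * c⁻¹ = x by group]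
    · show c * (c⁻¹ * x * c) * c⁻¹ = x
      group
  refine Group.isSolvable_of_isSolvable_injective (f := ((MulAut.conj c).toMonoidHom.comp
    (normalizer ((P : Subgroup (Cfsg.Sz F m)) : Set (Cfsg.Sz F m))).subtype).codRestrict
    (normalizer (Cfsg.Lib.Suz.uSub Q : Set (Cfsg.Sz F m))) fun g => he ▸ le_normalizer_map _ (mem_map_of_mem _ g.2)) ?_
  exact fun g h e => Subtype.ext ((MulAut.conj c).injective (congrArg Subtype.val e))

theorem sz_elem_card {F : Type} [Field F] [Fintype F] {m : ℕ} (Q : Cfsg.Lib.Suz.Par F m)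
    {A : Subgroup (Cfsg.Sz F m)} (hA : Cfsg.IsElementaryAbelian 2 A) : Nat.card A ≤ 2 ^ (2 * m + 1) := by
  haveI : Fact (Nat.Prime 2) := ⟨Nat.prime_two⟩
  obtain ⟨P, hP⟩ := (IsPGroup.exists_le_sylow (p := 2) (P := A) fun a => ⟨1, by
    rw [pow_one]; exact Subtype.ext (hA.2 a a.2)⟩)
  obtain ⟨c, hc⟩ := Cfsg.Lib.Suz.exists_conj Q P
  have hb : ∀ a : A, ∃ b : F, c * a * c⁻¹ = Cfsg.Lib.Suz.uu Q 0 b := by
    intro a
    obtain ⟨x, b, hab⟩ := Cfsg.Lib.Suz.exists_uu Q ((hc a).1 (hP a.2))
    refine ⟨b, ?_⟩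
    have h2 : (c * (a : Cfsg.Sz F m) * c⁻¹) ^ 2 = 1 := by
      rw [conj_pow, hA.2 a a.2]; group
    rw [hab, Cfsg.Lib.Suz.uu_sq, ← Cfsg.Lib.Suz.uu_zero Q] at h2
    rw [hab, pow_eq_zero_iff (Nat.succ_ne_zero _) |>.1 (Cfsg.Lib.Suz.uu_inj Q h2).2]
  choose f hf using hb
  rw [← Q.hF, ← Nat.card_eq_fintype_card]
  refine Nat.card_le_card_of_injective f fun a b e => Subtype.ext ?_
  exact mul_left_cancel (mul_right_cancel ((hf a).trans (e ▸ (hf b).symm)))

/-! ### for a simple group of the family -/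

section Family

variable {X : Type u} [Group X] [Finite X]

theorem fam_cases (h : Cfsg.IsSuzukiOrPSL2OddPowerThree X) (hs : ¬ Group.IsSolvable X) :
    (∃ (F : Type) (_ : Field F) (_ : Fintype F) (m : ℕ), Cfsg.Lib.Suz.Par F m ∧ Nonempty (X ≃* Cfsg.Sz F m)) ∨
    ∃ (F : Type) (_ : Field F) (_ : Fintype F) (n : ℕ), Fintype.card F = 3 ^ (2 * n + 1) ∧ 4 < Fintype.card F ∧
      Nonempty (X ≃* Matrix.ProjectiveSpecialLinearGroup (Fin 2) F) := by
  rcases h with ⟨F, hF, hF', m, hm, hc, ⟨e⟩⟩ | ⟨F, hF, hF', n, hc, ⟨e⟩⟩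
  · exact Or.inl ⟨F, hF, hF', m, ⟨hm, hc⟩, ⟨e.trans (Cfsg.Lib.Suz.lieEquiv ⟨hm, hc⟩).symm⟩⟩
  · refine Or.inr ⟨F, hF, hF', n, hc, ?_, ⟨e⟩⟩
    by_contra hlt
    have h3 : Fintype.card F = 3 := by
      obtain ⟨-, -, h8⟩ := field_facts hc
      omega
    refine hs ?_
    haveI : Group.IsSolvable (Matrix.ProjectiveSpecialLinearGroup (Fin 2) F) :=
      Cfsg.Lib.Presentations.isSolvable_of_card_lt_sixty _ _ rfl (by
        have h := Cfsg.Lib.Classical.SmallPSL.card_psl (F := F) rfl
        rw [h3] at h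
        norm_num at h
        omega)
    exact Group.isSolvable_of_isSolvable_injective (f := e.toMonoidHom) e.injective

theorem normalizer_solvable (h : Cfsg.IsSuzukiOrPSL2OddPowerThree X) (hs : ¬ Group.IsSolvable X)
    (P : Sylow 2 X) : Group.IsSolvable (normalizer ((P : Subgroup X) : Set X)) := by
  haveI : Fact (Nat.Prime 2) := ⟨Nat.prime_two⟩
  have key : ∀ {Y : Type} [Group Y] [Finite Y] (e : X ≃* Y),
      (∀ R : Sylow 2 Y, Group.IsSolvable (normalizer ((R : Subgroup Y) : Set Y))) →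
      Group.IsSolvable (normalizer ((P : Subgroup X) : Set X)) := by
    intro Y _ _ e hY
    set R := P.mapSurjective (f := e.toMonoidHom) e.surjective with hR
    haveI := hY R
    refine Group.isSolvable_of_isSolvable_injective (f := (e.toMonoidHom.comp
      (normalizer ((P : Subgroup X) : Set X)).subtype).codRestrict
      (normalizer ((R : Subgroup Y) : Set Y)) fun g => ?_) fun g g' he => Subtype.ext (e.injective (congrArg Subtype.val he))
    show e g ∈ normalizer (((P : Subgroup X).map e.toMonoidHom : Subgroup Y) : Set Y)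
    exact le_normalizer_map _ (mem_map_of_mem e.toMonoidHom g.2)
  rcases fam_cases h hs with ⟨F, _, _, m, Q, ⟨e⟩⟩ | ⟨F, _, _, n, hc, -, ⟨e⟩⟩
  · exact key e (normalizer_solvable_sz Q)
  · exact key e (normalizer_solvable_psl hc)

/-- An elementary abelian subgroup: either small against the fixed-point bound, or a four-group with
an inverted element. -/
theorem elem_cases (h : Cfsg.IsSuzukiOrPSL2OddPowerThree X) (hs : ¬ Group.IsSolvable X) {A : Subgroup X}
    (hA : Cfsg.IsElementaryAbelian 2 A) :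
    (∃ n r : ℕ, r.Prime ∧ r ≠ 2 ∧ Nat.card A ≤ 2 ^ n ∧ (∀ i, 0 < i → i < 4 * n → ¬ r ∣ 2 ^ i - 1) ∧
      ∀ a ∈ A, a ≠ 1 → ∃ g : X, r ∣ orderOf (a * (g * a * g⁻¹))) ∨
    ∀ a ∈ A, ∀ b ∈ A, a ≠ 1 → b ≠ 1 → a ≠ b → (∀ c ∈ A, c = 1 ∨ c = a ∨ c = b ∨ c = a * b) ∧
      ∃ x : X, x ≠ 1 ∧ Odd (orderOf x) ∧ a * x = x * a ∧ b * x * b⁻¹ = x⁻¹ := by
  haveI : Fact (Nat.Prime 2) := ⟨Nat.prime_two⟩
  rcases fam_cases h hs with ⟨F, _, _, m, Q, ⟨e⟩⟩ | ⟨F, _, _, n, hc, hq, ⟨e⟩⟩
  · left
    set n := 2 * m + 1 with hn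
    obtain ⟨r, hr, hrdvd, hrprim⟩ := Cfsg.Lib.Zsigmondy.zsigmondy 2 (4 * n) one_lt_two (by omega)
      (fun h => by omega) (fun h => by omega)
    have hr2 : r ≠ 2 := by
      rintro rfl
      have h1 : (2 : ℕ) ∣ 2 ^ (4 * n) := dvd_pow_self 2 (by omega)
      have h2 := Nat.dvd_sub h1 hrdvd
      rw [Nat.sub_sub_self (Nat.one_le_pow _ _ two_pos)] at h2
      omega
    have hrq : r ∣ (2 ^ n) ^ 2 + 1 := by
      have h1 : 2 ^ (4 * n) - 1 = ((2 ^ n) ^ 2 + 1) * ((2 ^ n) ^ 2 - 1) := by
        rw [← Nat.sq_sub_sq, one_pow, ← pow_mul, ← pow_mul]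
        congr 2
        ring
      rcases hr.dvd_mul.1 (h1 ▸ hrdvd) with h | h
      · exact h
      · exact absurd (by rwa [← pow_mul] at h) (hrprim (n * 2) (by omega) (by omega))
    refine ⟨n, r, hr, hr2, ?_, fun i h0 hi => hrprim i h0 hi, fun a ha ha1 => ?_⟩
    · rw [← card_map_of_injective (f := e.toMonoidHom) e.injective (K := A)]
      exact sz_elem_card Q (Cfsg.Lib.JComp.elem_of_sq (by
        rintro _ ⟨x, hx, rfl⟩; rw [← map_mul, ← pow_two, hA.2 x hx, map_one]))
    · have ho : orderOf (e a) = 2 := by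
        rw [MulEquiv.orderOf_eq]
        exact orderOf_eq_prime (hA.2 a ha) ha1
      obtain ⟨g, hg⟩ := Cfsg.Lib.Components.IndexBoundSuz.exists_product Q hr hrq ho
      refine ⟨e.symm g, ?_⟩
      rwa [← MulEquiv.orderOf_eq e, map_mul, map_mul, map_mul, map_inv, e.apply_symm_apply]
  · right
    intro a ha b hb ha1 hb1 hab
    obtain ⟨hns, h2, -⟩ := field_facts hc
    have hsq : ∀ x ∈ A, e x * e x = 1 := fun x hx => by
      rw [← map_mul, ← pow_two, hA.2 x hx, map_one]
    have hcm : ∀ x ∈ A, ∀ y ∈ A, e x * e y = e y * e x := fun x hx y hy => by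
      rw [← map_mul, ← map_mul, Cfsg.Lib.JComp.elem_comm hA hx hy]
    have hne : ∀ x, x ≠ (1 : X) → e x ≠ 1 := fun x hx h => hx (e.injective (h.trans e.map_one.symm))
    refine ⟨fun c hc' => ?_, ?_⟩
    · by_cases hc1 : c = 1
      · exact Or.inl hc1
      rcases third_involution hns (hne a ha1) (hne b hb1) (fun h => hab (e.injective h)) (hne c hc1)
          (hsq a ha) (hsq b hb) (hsq c hc') (hcm a ha b hb) (hcm a ha c hc') (hcm b hb c hc') with h | h | h
      · exact Or.inr (Or.inl (e.injective h))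
      · exact Or.inr (Or.inr (Or.inl (e.injective h)))
      · exact Or.inr (Or.inr (Or.inr (e.injective (h.trans (map_mul e a b).symm))))
    · obtain ⟨x, hx1, hxo, hxa, hxb⟩ := exists_odd_inverted hns hq (hne a ha1) (hne b hb1)
        (fun h => hab (e.injective h)) (hsq a ha) (hsq b hb) (hcm a ha b hb) h2
      refine ⟨e.symm x, fun h => hx1 ?_, by rwa [MulEquiv.orderOf_eq], e.injective ?_, e.injective ?_⟩
      · rw [← e.apply_symm_apply x, h, map_one]
      · rw [map_mul, map_mul, e.apply_symm_apply, hxa]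
      · rw [map_mul, map_mul, map_inv, map_inv, e.apply_symm_apply, hxb]

/-- An automorphism of order two is inner, or the symmetric group of degree three is involved. -/
theorem inner_or_three (h : Cfsg.IsSuzukiOrPSL2OddPowerThree X) (hs : ¬ Group.IsSolvable X) (f : MulAut X)
    (hf : f * f = 1) :
    f ∈ Cfsg.Inn X ∨ Cfsg.Involves (Equiv.Perm (Fin 3)) ↥(Cfsg.Inn X ⊔ zpowers f) := by
  classical
  haveI : Fact (Nat.Prime 2) := ⟨Nat.prime_two⟩
  by_cases hin : f ∈ Cfsg.Inn X
  · exact Or.inl hin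
  rcases fam_cases h hs with ⟨F, _, _, m, Q, ⟨e⟩⟩ | ⟨F, _, _, n, hc, hq, ⟨e⟩⟩
  · left
    have hodd : Odd (Nat.card (Cfsg.Out (Cfsg.Sz F m))) := by
      rw [Cfsg.Lib.Suz.card_out Q]; exact ⟨m, rfl⟩
    set f' := MulAut.congr e f
    have h1 : QuotientGroup.mk' (Cfsg.Inn (Cfsg.Sz F m)) f' = 1 := by
      refine orderOf_eq_one_iff.1 (Nat.eq_one_of_dvd_coprimes hodd.coprime_two_right
        (orderOf_dvd_natCard _) (orderOf_dvd_of_pow_eq_one ?_))
      rw [← map_pow, pow_two, ← map_mul, hf, map_one, map_one]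
    obtain ⟨g, hg⟩ := (QuotientGroup.eq_one_iff f').1 h1
    refine ⟨e.symm g, MulEquiv.ext fun x => e.injective ?_⟩
    have := DFunLike.congr_fun hg (e x)
    simp [f', MulAut.congr] at this
    simp [this]
  · right
    haveI : Fact (Nat.Prime 3) := ⟨Nat.prime_three⟩
    haveI : CharP F 3 := charP_of_card_eq_prime_pow hc
    set P := Matrix.ProjectiveSpecialLinearGroup (Fin 2) F
    haveI : IsSimpleGroup P := Cfsg.Lib.Classical.isSimpleGroup_PSL_fin le_rfl
      fun _ => by rw [Nat.card_eq_fintype_card]; omega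
    have hqp : 4 ≤ 3 ^ (2 * n + 1) := hc ▸ hq.le
    have hM := Cfsg.Agent.S0813.result 3 (2 * n + 1) (by omega) hc 2 le_rfl fun _ => hqp
    rw [if_pos rfl, one_mul, Cfsg.Lib.Classical.PSLBounds.card_pgl_two,
      ← Cfsg.Lib.Classical.SmallPSL.card_psl (F := F) rfl,
      Nat.gcd_eq_left (show 2 ∣ Fintype.card F - 1 by obtain ⟨-, -, h8⟩ := field_facts hc; omega)] at hM
    have hcX : Nat.card X = Nat.card P := Nat.card_congr e.toEquiv
    have hMX : Nat.card (MulAut X) = (2 * n + 1) * (2 * Nat.card X) := by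
      rw [Nat.card_congr (MulAut.congr e).toEquiv, hM, hcX]
    have hcen : Subgroup.center X = ⊥ := by
      haveI : IsSimpleGroup X := MulEquiv.isSimpleGroup e
      rcases (inferInstance : (Subgroup.center X).Normal).eq_bot_or_eq_top with h | h
      · exact h
      · exact absurd (Group.isSolvable_of_comm fun a b => (Subgroup.mem_center_iff.1 (h ▸ mem_top b) a)) hs
    have hI : Nat.card (Cfsg.Inn X) = Nat.card X := by
      refine (Nat.card_congr (MonoidHom.ofInjective ?_).toEquiv).symm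
      rw [injective_iff_map_eq_one]
      intro g hg
      rw [← Subgroup.mem_bot, ← hcen, Subgroup.mem_center_iff]
      intro y
      have := DFunLike.congr_fun hg y
      simp at this
      exact (mul_inv_eq_iff_eq_mul.1 this).symm
    have hout : Nat.card (Cfsg.Out X) = (2 * n + 1) * 2 := by
      have := Subgroup.card_eq_card_quotient_mul_card_subgroup (Cfsg.Inn X)
      rw [hMX, hI, ← mul_assoc] at this
      exact (Nat.eq_of_mul_eq_mul_right Nat.card_pos this).symm
    set π := QuotientGroup.mk' (Cfsg.Inn X)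
    have hfo : orderOf (π f) = 2 := orderOf_eq_prime (by rw [← map_pow, pow_two, hf, map_one])
      fun h => hin ((QuotientGroup.eq_one_iff f).1 h)
    let S : Sylow 2 (Cfsg.Out X) := Sylow.ofCard (zpowers (π f)) (by
      rw [Nat.card_zpowers, hfo, hout, Nat.factorization_mul (by omega) two_ne_zero, Finsupp.add_apply,
        Nat.prime_two.factorization_self, Nat.factorization_eq_zero_of_not_dvd (by omega), zero_add, pow_one])
    -- the diagonal automorphism and the unipotent element
    let δ : MulAut (Matrix.SpecialLinearGroup (Fin 2) F) := MulEquiv.mk'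
      (Function.Involutive.toPerm (fun M => ⟨!![M 0 0, -M 0 1; -M 1 0, M 1 1], by
          have := M.2
          rw [Matrix.det_fin_two] at this
          rw [Matrix.det_fin_two_of]
          linear_combination this⟩) fun M => by
        ext i j; fin_cases i <;> fin_cases j <;> simp)
      fun M N => by
        apply Subtype.ext
        show (!![(M * N) 0 0, -(M * N) 0 1; -(M * N) 1 0, (M * N) 1 1] : Matrix (Fin 2) (Fin 2) F) =
          !![M 0 0, -M 0 1; -M 1 0, M 1 1] * !![N 0 0, -N 0 1; -N 1 0, N 1 1]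
        ext i j; fin_cases i <;> fin_cases j <;> simp [Matrix.mul_apply, Fin.sum_univ_two] <;> ring
    let δ' : MulAut P := QuotientGroup.congr _ _ δ (by
      ext M
      constructor
      · rintro ⟨N, hN, rfl⟩
        exact Subgroup.mem_center_iff.2 fun g => δ.symm.injective (by
          simpa using Subgroup.mem_center_iff.1 hN (δ.symm g))
      · intro hM
        exact ⟨δ.symm M, Subgroup.mem_center_iff.2 fun g => δ.injective (by
          simpa using Subgroup.mem_center_iff.1 hM (δ g)), δ.apply_symm_apply M⟩)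
    obtain ⟨U, hU00, hU01, hU10, hU11⟩ : ∃ U : Matrix.SpecialLinearGroup (Fin 2) F,
        U 0 0 = 1 ∧ U 0 1 = 1 ∧ U 1 0 = 0 ∧ U 1 1 = 1 :=
      ⟨⟨!![1, 1; 0, 1], by simp [Matrix.det_fin_two_of]⟩, rfl, rfl, rfl, rfl⟩
    have hU3 : U * U * U = 1 := by
      have h3 : (3 : F) = 0 := by exact_mod_cast CharP.cast_eq_zero F 3
      ext i j
      fin_cases i <;> fin_cases j <;> simp [Matrix.mul_apply, Fin.sum_univ_two, hU00, hU01, hU10, hU11]
      linear_combination h3
    set u : P := QuotientGroup.mk U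
    have hu1 : u ≠ 1 := fun h => by
      rcases (psl_eq_iff U 1).1 h with rfl | rfl <;> simp at hU01
    have hu : δ' u = u⁻¹ := by
      show QuotientGroup.mk (δ U) = (QuotientGroup.mk U : P)⁻¹
      rw [← QuotientGroup.mk_inv]
      refine congrArg QuotientGroup.mk (eq_inv_of_mul_eq_one_left ?_)
      apply Subtype.ext
      show (!![U 0 0, -U 0 1; -U 1 0, U 1 1] : Matrix (Fin 2) (Fin 2) F) * U = 1
      ext i j
      fin_cases i <;> fin_cases j <;> simp [Matrix.mul_apply, Fin.sum_univ_two, hU00, hU01, hU10, hU11]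
    have hδ2 : δ' * δ' = 1 := by
      refine MulEquiv.ext fun y => ?_
      obtain ⟨M, rfl⟩ := QuotientGroup.mk_surjective y
      show QuotientGroup.mk (δ (δ M)) = (QuotientGroup.mk M : P)
      exact congrArg QuotientGroup.mk (δ.apply_symm_apply M)
    set d : MulAut X := (MulAut.congr e).symm δ'
    set x : X := e.symm u
    have hd2 : d * d = 1 := by rw [← map_mul, hδ2, map_one]
    have hdx : d x = x⁻¹ := by
      show e.symm (δ' (e x)) = _
      rw [show e x = u from e.apply_symm_apply u, hu, map_inv]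
    obtain ⟨T, hT⟩ := (IsPGroup.exists_le_sylow (p := 2) (P := zpowers (π d)) fun z => ⟨1, by
      obtain ⟨z, hz⟩ := z
      obtain ⟨k, rfl⟩ := mem_zpowers_iff.1 hz
      refine Subtype.ext ?_
      show (π d ^ k) ^ 2 ^ 1 = 1
      rw [pow_one, ← zpow_natCast, ← zpow_mul, mul_comm, zpow_mul, zpow_natCast, ← map_pow, pow_two, hd2,
        map_one, one_zpow]⟩)
    obtain ⟨c, hc'⟩ := MulAction.exists_smul_eq (Cfsg.Out X) T S
    obtain ⟨φ, rfl⟩ := QuotientGroup.mk'_surjective (Cfsg.Inn X) c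
    set H := Cfsg.Inn X ⊔ zpowers f
    have hdH : φ * d * φ⁻¹ ∈ H := by
      have h1 : π φ * π d * (π φ)⁻¹ ∈ (S : Subgroup (Cfsg.Out X)) := by
        rw [← hc', Sylow.coe_subgroup_smul]
        exact Subgroup.smul_mem_pointwise_smul _ (MulAut.conj (π φ)) _ (hT (mem_zpowers _))
      obtain ⟨k, hk⟩ := mem_zpowers_iff.1 (show π φ * π d * (π φ)⁻¹ ∈ zpowers (π f) from h1)
      have h2 : (f ^ k)⁻¹ * (φ * d * φ⁻¹) ∈ Cfsg.Inn X := (QuotientGroup.eq_one_iff _).1 (by
        show π _ = 1
        rw [map_mul, map_inv, map_zpow, hk, map_mul, map_mul, map_inv, inv_mul_cancel])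
      have := mul_mem (mem_sup_right (zpow_mem (mem_zpowers f) k) : f ^ k ∈ H) (mem_sup_left h2)
      rwa [mul_inv_cancel_left] at this
    have hxH : φ * MulAut.conj x * φ⁻¹ ∈ H := mem_sup_left ((inferInstance : (Cfsg.Inn X).Normal).conj_mem _ (⟨x, rfl⟩ : MulAut.conj x ∈ Cfsg.Inn X) φ)
    refine Cfsg.Lib.SmallOffender.involves_perm_three (x := ⟨_, hxH⟩) (a := ⟨_, hdH⟩) ?_ ?_ ?_ ?_
    · refine Subtype.ext ?_
      show (φ * MulAut.conj x * φ⁻¹) ^ 3 = 1
      rw [conj_pow, ← map_pow, ← map_pow, pow_three', ← QuotientGroup.mk_mul, ← QuotientGroup.mk_mul, hU3]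
      simp
    · refine Subtype.ext ?_
      show φ * d * φ⁻¹ * (φ * d * φ⁻¹) = 1
      rw [show φ * d * φ⁻¹ * (φ * d * φ⁻¹) = φ * (d * d) * φ⁻¹ by group, hd2, mul_one, mul_inv_cancel]
    · refine Subtype.ext ?_
      show φ * d * φ⁻¹ * (φ * MulAut.conj x * φ⁻¹) * (φ * d * φ⁻¹)⁻¹ = (φ * MulAut.conj x * φ⁻¹)⁻¹
      have e0 : ∀ (g : MulAut X) (z : X), g * MulAut.conj z * g⁻¹ = MulAut.conj (g z) := fun g z => by
        ext y; simp
      have e1 : d * MulAut.conj x * d⁻¹ = (MulAut.conj x)⁻¹ := by rw [e0, hdx, map_inv]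
      calc _ = φ * (d * MulAut.conj x * d⁻¹) * φ⁻¹ := by group
        _ = φ * (MulAut.conj x)⁻¹ * φ⁻¹ := by rw [e1]
        _ = _ := by group
    · intro h
      have h1 : MulAut.conj x = 1 := by
        have := congrArg Subtype.val h
        simpa using this
      have hxc : x ∈ Subgroup.center X := Subgroup.mem_center_iff.2 fun y => by
        have := DFunLike.congr_fun h1 y
        simp at this
        exact (mul_inv_eq_iff_eq_mul.1 this).symm
      rw [hcen, Subgroup.mem_bot] at hxc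
      exact hu1 (by rw [← e.apply_symm_apply u, show e.symm u = 1 from hxc, map_one])

end Family

end Cfsg.Lib.SThreeFree
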