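import Cfsg.Agent.SThreeFree.Orbit
import Mathlib.LinearAlgebra.Dual.Lemmas

/-!
The squared bound for commutators, by duality, and the form for subgroups acting by conjugation.
-/

set_option autoImplicit false
set_option linter.unusedSectionVars false
set_option linter.style.haveILetI false

namespace Cfsg.Lib.SThreeFree

open Subgroup
open scoped commutatorElement

universe u v

variable {G : Type u} [Group G] [Finite G] {V : Type v} [AddCommGroup V] [Finite V]

theorem card_dual {U : Type v} [AddCommGroup U] [Finite U] (h2 : ∀ x : U, x + x = 0) :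
    Nat.card (U →+ ZMod 2) = Nat.card U := by
  classical
  letI : Module (ZMod 2) U := AddCommGroup.zmodModule fun x => by rw [two_nsmul]; exact h2 x
  haveI : Module.Finite (ZMod 2) U := Module.Finite.of_finite
  let e : (U →ₗ[ZMod 2] ZMod 2) ≃ (U →+ ZMod 2) :=
    ⟨fun f => f.toAddMonoidHom, AddMonoidHom.toZModLinearMap 2, fun f => LinearMap.ext fun _ => rfl,
      fun f => AddMonoidHom.ext fun _ => rfl⟩
  rw [← Nat.card_congr e]
  exact (Nat.card_congr (Module.Free.chooseBasis (ZMod 2) U).toDualEquiv.toEquiv).symm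

theorem exists_char {U : Type v} [AddCommGroup U] (h2 : ∀ x : U, x + x = 0) {u : U} (hu : u ≠ 0) :
    ∃ χ : U →+ ZMod 2, χ u ≠ 0 := by
  classical
  letI : Module (ZMod 2) U := AddCommGroup.zmodModule fun x => by rw [two_nsmul]; exact h2 x
  by_contra h
  push Not at h
  exact hu ((Module.forall_dual_apply_eq_zero_iff (ZMod 2) u).1 fun f => h f.toAddMonoidHom)

/-- The action on characters. -/
def dualAct (ρ : G →* AddMonoid.End V) : G →* AddMonoid.End (V →+ ZMod 2) :=
  { toFun := fun g => AddMonoidHom.mk' (fun χ : V →+ ZMod 2 => χ.comp (ρ g⁻¹ : V →+ V)) fun _ _ => rfl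
    map_one' := AddMonoidHom.ext fun χ => AddMonoidHom.ext fun x => by
      show χ (ρ (1 : G)⁻¹ x) = χ x
      rw [inv_one, act_one]
    map_mul' := fun g h => AddMonoidHom.ext fun χ => AddMonoidHom.ext fun x => by
      show χ (ρ (g * h)⁻¹ x) = χ (ρ h⁻¹ (ρ g⁻¹ x))
      rw [mul_inv_rev, act_mul] }

theorem dualAct_apply (ρ : G →* AddMonoid.End V) (g : G) (χ : V →+ ZMod 2) (x : V) :
    dualAct ρ g χ x = χ (ρ g⁻¹ x) := rfl

/-- The subgroup of commutators. -/
def commd (ρ : G →* AddMonoid.End V) (A : Subgroup G) : AddSubgroup V :=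
  AddSubgroup.closure {y | ∃ a ∈ A, ∃ x, y = ρ a x - x}

theorem bd_commd {ρ : G →* AddMonoid.End V} {A : Subgroup G} (h : Hyp ρ A) :
    Nat.card A ^ 2 ≤ Nat.card (commd ρ A) := by
  classical
  haveI : Finite (V →+ ZMod 2) := Finite.of_injective _ DFunLike.coe_injective
  have hinj : Function.Injective (dualAct ρ) := by
    refine (injective_iff_map_eq_one _).2 fun g hg => inv_eq_one.1 (act_eq_one h.inj fun x => ?_)
    by_contra hne
    obtain ⟨χ, hχ⟩ := exists_char h.two (sub_ne_zero.2 hne)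
    refine hχ ?_
    rw [map_sub, sub_eq_zero]
    exact DFunLike.congr_fun (DFunLike.congr_fun hg χ) x
  have h2 : ∀ χ : V →+ ZMod 2, χ + χ = 0 := fun χ => AddMonoidHom.ext fun x => by
    rw [AddMonoidHom.add_apply, ← map_add, h.two, map_zero]; rfl
  have hb := bd_all (⟨hinj, h.tame, h.elem, h.core, h2⟩ : Hyp (dualAct ρ) A)
  unfold Bd at hb
  set W := commd ρ A with hW
  have hfix : Nat.card (V ⧸ W) ≤ Nat.card (fixd (dualAct ρ) A) := by
    rw [← card_dual (U := V ⧸ W) fun q => by
      obtain ⟨y, rfl⟩ := QuotientAddGroup.mk_surjective q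
      rw [← QuotientAddGroup.mk_add, h.two]; rfl]
    refine Nat.card_le_card_of_injective (fun θ => (⟨θ.comp (QuotientAddGroup.mk' W), fun a ha =>
      AddMonoidHom.ext fun x => ?_⟩ : fixd (dualAct ρ) A)) fun θ η e => ?_
    · rw [dualAct_apply]
      refine congrArg θ (QuotientAddGroup.eq_iff_sub_mem.2 ?_)
      exact AddSubgroup.subset_closure ⟨a⁻¹, inv_mem ha, x, rfl⟩
    · refine AddMonoidHom.ext fun q => ?_
      obtain ⟨y, rfl⟩ := QuotientAddGroup.mk_surjective q
      exact DFunLike.congr_fun (congrArg Subtype.val e) y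
  have h3 : Nat.card A ^ 2 * Nat.card (V ⧸ W) ≤ Nat.card W * Nat.card (V ⧸ W) := by
    refine ((Nat.mul_le_mul_left _ hfix).trans hb).trans (le_of_eq ?_)
    rw [card_dual h.two, AddSubgroup.card_eq_card_quotient_mul_card_addSubgroup W, mul_comm]
  exact Nat.le_of_mul_le_mul_right h3 Nat.card_pos

/-- The squared bound for a group acting faithfully by conjugation. -/
theorem bound_conj {L : Type u} [Group L] [Finite L] (M G : Subgroup L) (hM : Cfsg.IsElementaryAbelian 2 M)
    (hGM : G ≤ Subgroup.normalizer (M : Set L)) (hf : G ⊓ Subgroup.centralizer (M : Set L) = ⊥)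
    (hT : Tame G) (A : Subgroup L) (hA : A ≤ G) (hAe : Cfsg.IsElementaryAbelian 2 A)
    (hcore : A.subgroupOf G ⊓ Cfsg.pCore 2 G = ⊥) :
    Nat.card A ^ 2 * Nat.card ↥(M ⊓ Subgroup.centralizer (A : Set L)) ≤ Nat.card M ∧
      Nat.card A ^ 2 ≤ Nat.card ↥⁅M, A⁆ := by
  classical
  letI : CommGroup M :=
    { (inferInstance : Group M) with
      mul_comm := fun a b => Subtype.ext (Cfsg.Lib.JComp.elem_comm hM a.2 b.2) }
  let φ : G → Additive M →+ Additive M := fun g =>
    { toFun := fun m => Additive.ofMul ⟨(g : L) * (Additive.toMul m : M) * (g : L)⁻¹,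
        Cfsg.Lib.JComp.conj_mem (hGM g.2) (Additive.toMul m : M).2⟩
      map_zero' := congrArg Additive.ofMul (Subtype.ext (show (g : L) * 1 * (g : L)⁻¹ = 1 by group))
      map_add' := fun m n => congrArg Additive.ofMul (Subtype.ext (conj_mul).symm) }
  let ρ : G →* AddMonoid.End (Additive M) :=
    { toFun := φ
      map_one' := AddMonoidHom.ext fun m => congrArg Additive.ofMul (Subtype.ext (by
        show (1 : L) * (Additive.toMul m : M) * (1 : L)⁻¹ = (Additive.toMul m : M)
        group))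
      map_mul' := fun g h => AddMonoidHom.ext fun m => congrArg Additive.ofMul (Subtype.ext (by
      show (g : L) * h * (Additive.toMul m : M) * ((g : L) * h)⁻¹ =
        (g : L) * ((h : L) * (Additive.toMul m : M) * (h : L)⁻¹) * (g : L)⁻¹
      group)) }
  have hρ : ∀ (g : G) (m : M), ((Additive.toMul (ρ g (Additive.ofMul m)) : M) : L) = (g : L) * m * (g : L)⁻¹ :=
    fun g m => rfl
  have h : Hyp ρ (A.subgroupOf G) := by
    refine ⟨(injective_iff_map_eq_one _).2 fun g hg => Subtype.ext ?_, hT, elem_subgroupOf hAe, hcore, fun x => ?_⟩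
    · refine mem_bot.1 (hf.le (mem_inf.2 ⟨g.2, mem_centralizer_iff.2 fun m hm => ?_⟩))
      have e := hρ g ⟨m, hm⟩
      rw [hg] at e
      exact mul_inv_eq_iff_eq_mul.1 e.symm |>.symm
    · exact congrArg Additive.ofMul (Subtype.ext (Cfsg.Lib.JComp.elem_sq hM (Additive.toMul x : M).2))
  have hb := bd_all h
  have hc := bd_commd h
  unfold Bd at hb
  rw [Nat.card_congr (subgroupOfEquivOfLe hA).toEquiv] at hb hc
  rw [Nat.card_congr (Additive.toMul (α := M))] at hb
  refine ⟨le_trans (Nat.mul_le_mul_left _ ?_) hb, hc.trans ?_⟩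
  · exact Nat.card_le_card_of_injective
      (fun x => (⟨Additive.ofMul ⟨x.1, (mem_inf.1 x.2).1⟩, fun a ha => congrArg Additive.ofMul (Subtype.ext (by
        show (a : L) * x.1 * (a : L)⁻¹ = x.1
        rw [mem_centralizer_iff.1 (mem_inf.1 x.2).2 a (mem_subgroupOf.1 ha), mul_inv_cancel_right]))⟩ :
        fixd ρ (A.subgroupOf G)))
      fun x y e => Subtype.ext (congrArg (fun z : fixd ρ (A.subgroupOf G) =>
        ((Additive.toMul (z : Additive M) : M) : L)) e)
  · let W0 : AddSubgroup (Additive M) :=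
      { carrier := {x | ((Additive.toMul x : M) : L) ∈ ⁅M, A⁆}
        zero_mem' := one_mem ⁅M, A⁆
        add_mem' := fun hx hy => (mul_mem (show _ ∈ ⁅M, A⁆ from hx) (show _ ∈ ⁅M, A⁆ from hy) :)
        neg_mem' := fun hx => (inv_mem (show _ ∈ ⁅M, A⁆ from hx) :) }
    have hle : commd ρ (A.subgroupOf G) ≤ W0 := (AddSubgroup.closure_le W0).2 (by
      rintro _ ⟨a, ha, x, rfl⟩
      show (a : L) * (Additive.toMul x : M) * (a : L)⁻¹ / (Additive.toMul x : M) ∈ ⁅M, A⁆
      rw [commutator_comm, div_eq_mul_inv, ← commutatorElement_def]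
      exact commutator_mem_commutator (mem_subgroupOf.1 ha) (Additive.toMul x : M).2)
    exact Nat.card_le_card_of_injective (fun x => (⟨((Additive.toMul (x : Additive M) : M) : L), hle x.2⟩ : ↥⁅M, A⁆))
      fun x y e => Subtype.ext (Additive.toMul.injective (Subtype.ext (congrArg (fun z : ↥⁅M, A⁆ => (z : L)) e)))

end Cfsg.Lib.SThreeFree
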