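import Cfsg.Agent.SThreeFree.Pair
import Cfsg.Agent.Thompson.Subgroup

/-!
E-groups inside an ambient group, the subgroup `Ĵ` and the three-halves bound on `Ω₁(Z(Ĵ))`.
-/

set_option autoImplicit false
set_option linter.unusedSectionVars false
set_option linter.style.haveILetI false

namespace Cfsg.Lib.SThreeFree

open Subgroup
open scoped commutatorElement
open Cfsg.Lib.JComp (elem_sq elem_comm elem_inv conj_mem cj le_normalizer_of_conj)
open Cfsg.Lib.Thompson (IsMaxElem)

universe u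

variable {G : Type u} [Group G]

/-- The two inequalities of the definition of E-groups. -/
def EIneq (V R : Subgroup G) : Prop :=
  Nat.card V ^ 2 * Nat.card ↥(R ⊓ centralizer (V : Set G)) ^ 3 >
      Nat.card R ^ 3 * Nat.card ↥(V ⊓ centralizer (R : Set G)) ^ 2 ∧
    Nat.card ↥⁅V, R⁆ * Nat.card ↥(R ⊓ centralizer (V : Set G)) > Nat.card R

/-- A subgroup that is an E-group. -/
def EG (U : Subgroup G) : Prop :=
  ∀ V : Subgroup G, V ≤ U → U ≤ normalizer (V : Set G) → Cfsg.IsElementaryAbelian 2 V →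
    (∀ R : Subgroup G, R ≤ U → ⁅R, R⁆ ≤ centralizer (V : Set G) → (∀ r ∈ R, r ^ 2 ∈ centralizer (V : Set G)) →
      ¬ R ≤ centralizer (V : Set G) → EIneq V R) →
    U ≤ centralizer (V : Set G)

theorem inf_centralizer_map {X : Type u} [Group X] {f : X →* G} (hf : Function.Injective f) (R V : Subgroup X) :
    R.map f ⊓ centralizer (V.map f : Set G) = (R ⊓ centralizer (V : Set X)).map f := by
  ext g
  constructor
  · rintro ⟨⟨r, hr, rfl⟩, hc⟩
    exact ⟨r, mem_inf.2 ⟨hr, mem_centralizer_iff.2 fun v hv => hf (by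
      rw [map_mul, map_mul]; exact mem_centralizer_iff.1 hc _ (mem_map_of_mem f hv))⟩, rfl⟩
  · rintro ⟨r, hr, rfl⟩
    refine mem_inf.2 ⟨mem_map_of_mem f (mem_inf.1 hr).1, mem_centralizer_iff.2 ?_⟩
    rintro _ ⟨v, hv, rfl⟩
    rw [← map_mul, ← map_mul, mem_centralizer_iff.1 (mem_inf.1 hr).2 v hv]

theorem eineq_map {X : Type u} [Group X] {f : X →* G} (hf : Function.Injective f) (V R : Subgroup X) :
    EIneq (V.map f) (R.map f) ↔
      (Nat.card V ^ 2 * Nat.card ↥(R ⊓ centralizer (V : Set X)) ^ 3 >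
          Nat.card R ^ 3 * Nat.card ↥(V ⊓ centralizer (R : Set X)) ^ 2 ∧
        Nat.card ↥⁅V, R⁆ * Nat.card ↥(R ⊓ centralizer (V : Set X)) > Nat.card R) := by
  unfold EIneq
  rw [inf_centralizer_map hf, inf_centralizer_map hf, ← map_commutator]
  simp only [Subgroup.card_map_of_injective hf]

variable [Finite G]

theorem eg_range_iff {X : Type u} [Group X] {f : X →* G} (hf : Function.Injective f) :
    EG f.range ↔ Cfsg.IsEGroup X := by
  have hle : ∀ {R V : Subgroup X}, R.map f ≤ centralizer (V.map f : Set G) ↔ R ≤ centralizer (V : Set X) := by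
    intro R V
    constructor
    · intro h r hr
      exact mem_centralizer_iff.2 fun v hv => hf (by
        rw [map_mul, map_mul]; exact mem_centralizer_iff.1 (h (mem_map_of_mem f hr)) _ (mem_map_of_mem f hv))
    · rintro h _ ⟨r, hr, rfl⟩
      refine mem_centralizer_iff.2 ?_
      rintro _ ⟨v, hv, rfl⟩
      rw [← map_mul, ← map_mul, mem_centralizer_iff.1 (h hr) v hv]
  have hel : ∀ {V : Subgroup X}, Cfsg.IsElementaryAbelian 2 (V.map f) ↔ Cfsg.IsElementaryAbelian 2 V :=
    fun {V} => Cfsg.Lib.Thompson.isElementaryAbelian_map_iff hf.injOn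
  constructor
  · intro h V hVn hVe hprop
    have hc := h (V.map f) (map_le_range f V) (le_normalizer_of_conj (by
        rintro _ ⟨x, rfl⟩ _ ⟨v, hv, rfl⟩
        exact ⟨x * v * x⁻¹, hVn.conj_mem v hv x, by simp⟩)) (hel.2 hVe) (by
      intro R' hR' hc hs hne
      obtain ⟨R, rfl⟩ : ∃ R : Subgroup X, R' = R.map f := ⟨R'.comap f, (map_comap_eq_self hR').symm⟩
      refine (eineq_map hf V R).2 (hprop R ?_ (fun r hr => ?_) fun h' => hne (hle.2 h'))
      · rw [← hle, map_commutator]; exact hc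
      · have := hs _ (mem_map_of_mem f hr)
        rw [← map_pow] at this
        exact mem_centralizer_iff.2 fun v hv => hf (by
          rw [map_mul, map_mul]; exact mem_centralizer_iff.1 this _ (mem_map_of_mem f hv)))
    intro v hv
    exact Subgroup.mem_center_iff.2 fun x => hf (by
      rw [map_mul, map_mul]; exact (mem_centralizer_iff.1 (hc ⟨x, rfl⟩) _ (mem_map_of_mem f hv)).symm)
  · intro h V' hV' hVn hVe hprop
    obtain ⟨V, rfl⟩ : ∃ V : Subgroup X, V' = V.map f := ⟨V'.comap f, (map_comap_eq_self hV').symm⟩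
    haveI : V.Normal := ⟨fun v hv x => by
      have := conj_mem (hVn ⟨x, rfl⟩) (mem_map_of_mem f hv)
      rw [← map_inv, ← map_mul, ← map_mul] at this
      obtain ⟨w, hw, e⟩ := this
      exact hf e ▸ hw⟩
    have hc := h V inferInstance (hel.1 hVe) (fun R hc hs hne => (eineq_map hf V R).1 (hprop (R.map f)
      (map_le_range f R) (by rw [← map_commutator]; exact hle.2 hc)
      (by
        rintro _ ⟨r, hr, rfl⟩
        rw [← map_pow]
        refine mem_centralizer_iff.2 ?_
        rintro _ ⟨v, hv, rfl⟩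
        rw [← map_mul, ← map_mul, mem_centralizer_iff.1 (hs r hr) v hv])
      fun h' => hne (hle.1 h')))
    rintro _ ⟨x, rfl⟩
    refine mem_centralizer_iff.2 ?_
    rintro _ ⟨v, hv, rfl⟩
    rw [← map_mul, ← map_mul, Subgroup.mem_center_iff.1 (hc hv) x]

theorem eg_cj (g : G) {U : Subgroup G} (h : EG U) : EG (cj g U) := by
  have h1 : Cfsg.IsEGroup U := (eg_range_iff U.subtype_injective).1 (by rwa [range_subtype])
  have h2 := (eg_range_iff (f := (MulAut.conj g).toMonoidHom.comp U.subtype)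
    ((MulEquiv.injective (MulAut.conj g)).comp U.subtype_injective)).2 h1
  rwa [MonoidHom.range_comp, range_subtype] at h2

/-- `Ĵ` of a subgroup, inside the group. -/
abbrev jHatOf (S : Subgroup G) : Subgroup G := (Cfsg.jHat S).map S.subtype

theorem jHatOf_eq (S : Subgroup G) :
    jHatOf S = sSup {U | U ≤ S ∧ EG U ∧ Cfsg.thompsonSubgroupOf 2 S ≤ U} := by
  rw [jHatOf, Cfsg.jHat, (gc_map_comap S.subtype).l_sSup]
  refine le_antisymm (iSup₂_le fun U hU => le_sSup ⟨map_subtype_le U, ?_, map_mono hU.2⟩) (sSup_le fun U hU => ?_)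
  · have h := (eg_range_iff (f := S.subtype.comp U.subtype) (S.subtype_injective.comp U.subtype_injective)).2 hU.1
    rwa [MonoidHom.range_comp, range_subtype] at h
  · refine le_trans (map_subgroupOf_eq_of_le hU.1).ge (le_iSup₂_of_le (U.subgroupOf S) ⟨?_, ?_⟩ le_rfl)
    · refine (eg_range_iff (f := S.subtype.comp (U.subgroupOf S).subtype)
        (S.subtype_injective.comp (U.subgroupOf S).subtype_injective)).1 ?_
      rw [MonoidHom.range_comp, range_subtype, map_subgroupOf_eq_of_le hU.1]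
      exact hU.2.1
    · intro x hx
      exact mem_subgroupOf.2 (hU.2.2 (mem_map_of_mem S.subtype hx))

theorem jHatOf_le (S : Subgroup G) : jHatOf S ≤ S := map_subtype_le _

theorem le_jHatOf {S U : Subgroup G} (hU : U ≤ S) (h : EG U) (hJ : Cfsg.thompsonSubgroupOf 2 S ≤ U) :
    U ≤ jHatOf S := by
  rw [jHatOf_eq]; exact le_sSup ⟨hU, h, hJ⟩

theorem map_subtype_top (S : Subgroup G) : (⊤ : Subgroup S).map S.subtype = S := by
  rw [← MonoidHom.range_eq_map, range_subtype]

theorem maxElem_le_thompson {S A : Subgroup G} (hA : IsMaxElem 2 S A) : A ≤ Cfsg.thompsonSubgroupOf 2 S := by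
  rw [Cfsg.Lib.Thompson.thompsonSubgroupOf_eq]; exact le_sSup hA

/-- A maximal elementary abelian subgroup is an offender on every elementary abelian subgroup it normalises. -/
theorem max_offender {S A X : Subgroup G} (hA : IsMaxElem 2 S A) (hX : Cfsg.IsElementaryAbelian 2 X) (hXS : X ≤ S) :
    Nat.card X * Nat.card ↥(A ⊓ centralizer (X : Set G)) ≤
      Nat.card A * Nat.card ↥(X ⊓ centralizer (A : Set G)) := by
  set C := A ⊓ centralizer (X : Set G)
  have hCX : ∀ c ∈ C, ∀ x ∈ X, c * x = x * c := fun c hc x hx => (mem_centralizer_iff.1 (mem_inf.1 hc).2 x hx).symm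
  let P : Subgroup G :=
    { carrier := {z | ∃ c ∈ C, ∃ x ∈ X, z = c * x}
      one_mem' := ⟨1, one_mem _, 1, one_mem _, (one_mul 1).symm⟩
      mul_mem' := by
        rintro _ _ ⟨c, hc, x, hx, rfl⟩ ⟨c', hc', x', hx', rfl⟩
        exact ⟨c * c', mul_mem hc hc', x * x', mul_mem hx hx', by
          rw [mul_assoc c x, ← mul_assoc x c', ← hCX c' hc' x hx]; group⟩
      inv_mem' := by
        rintro _ ⟨c, hc, x, hx, rfl⟩
        exact ⟨c⁻¹, inv_mem hc, x⁻¹, inv_mem hx, by
          rw [mul_inv_rev, hCX c⁻¹ (inv_mem hc) x⁻¹ (inv_mem hx)]⟩ }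
  have hPS : P ≤ S := by
    rintro _ ⟨c, hc, x, hx, rfl⟩
    exact mul_mem (hA.1 (mem_inf.1 hc).1) (hXS hx)
  have hPe : Cfsg.IsElementaryAbelian 2 P := Cfsg.Lib.JComp.elem_of_sq (by
    rintro _ ⟨c, hc, x, hx, rfl⟩
    rw [mul_assoc, ← mul_assoc x c, ← hCX c hc x hx, mul_assoc c x, elem_sq hX hx, mul_one,
      elem_sq hA.2.1 (mem_inf.1 hc).1])
  have hPA := hA.2.2 P hPS hPe
  -- the fibres of the product map
  let f : C × X → P := fun z => ⟨z.1.1 * z.2.1, z.1.1, z.1.2, z.2.1, z.2.2, rfl⟩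
  have hinj : ∀ p, Nat.card {z // f z = p} ≤ Nat.card ↥(X ⊓ centralizer (A : Set G)) := by
    intro p
    by_cases he : ∃ z, f z = p
    · obtain ⟨z0, hz0⟩ := he
      have hval : ∀ z : {z // f z = p}, (z.1.1 : G) * z.1.2 = z0.1 * z0.2 := fun z =>
        congrArg Subtype.val (z.2.trans hz0.symm)
      refine Nat.card_le_card_of_injective (fun z => (⟨(z.1.2 : G) * (z0.2 : G)⁻¹,
        mem_inf.2 ⟨mul_mem z.1.2.2 (inv_mem z0.2.2), ?_⟩⟩ : ↥(X ⊓ centralizer (A : Set G)))) ?_
      · rw [show (z.1.2 : G) * (z0.2 : G)⁻¹ = (z.1.1 : G)⁻¹ * z0.1 by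
          rw [eq_inv_mul_iff_mul_eq, ← mul_assoc, hval z, mul_inv_cancel_right]]
        refine mem_centralizer_iff.2 fun a ha => ?_
        exact elem_comm hA.2.1 ha (mul_mem (inv_mem (mem_inf.1 z.1.1.2).1) (mem_inf.1 z0.1.2).1)
      · intro z z' e
        have e2 : (z.1.2 : G) = z'.1.2 := mul_right_cancel (congrArg Subtype.val e)
        have e1 : (z.1.1 : G) = z'.1.1 := mul_right_cancel (b := (z.1.2 : G))
          ((hval z).trans ((hval z').symm.trans (by rw [e2])))
        exact Subtype.ext (Prod.ext (Subtype.ext e1) (Subtype.ext e2))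
    · haveI : IsEmpty {z // f z = p} := ⟨fun z => he ⟨z.1, z.2⟩⟩
      rw [Nat.card_of_isEmpty]
      exact Nat.zero_le _
  classical
  letI := Fintype.ofFinite P
  rw [mul_comm, ← Nat.card_prod, ← Nat.card_congr (Equiv.sigmaFiberEquiv f), Nat.card_sigma]
  refine (Finset.sum_le_card_nsmul _ _ _ fun p _ => hinj p).trans ?_
  rw [Finset.card_univ, Fintype.card_eq_nat_card, smul_eq_mul]
  exact Nat.mul_le_mul_right _ hPA

/-- The members of `J` centralise a module with the E-property, and contain it. -/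
theorem thompson_centralizes {S U V : Subgroup G} (hJU : Cfsg.thompsonSubgroupOf 2 S ≤ U) (hV : V ≤ S)
    (hVe : Cfsg.IsElementaryAbelian 2 V)
    (hprop : ∀ R : Subgroup G, R ≤ U → ⁅R, R⁆ ≤ centralizer (V : Set G) → (∀ r ∈ R, r ^ 2 ∈ centralizer (V : Set G)) →
      ¬ R ≤ centralizer (V : Set G) → EIneq V R) :
    Cfsg.thompsonSubgroupOf 2 S ≤ centralizer (V : Set G) ∧ ∀ A, IsMaxElem 2 S A → V ≤ A := by
  have key : ∀ A, IsMaxElem 2 S A → A ≤ centralizer (V : Set G) := by
    intro A hA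
    by_contra hne
    obtain ⟨h, -⟩ := hprop A ((maxElem_le_thompson hA).trans hJU)
      (commutator_le.2 fun a ha b hb => by
        rw [commutatorElement_eq_one_iff_mul_comm.2 (elem_comm hA.2.1 ha hb)]; exact one_mem _)
      (fun a ha => by rw [pow_two, elem_sq hA.2.1 ha]; exact one_mem _) hne
    have hm := max_offender hA hVe hV
    set c := Nat.card ↥(A ⊓ centralizer (V : Set G))
    set d := Nat.card ↥(V ⊓ centralizer (A : Set G))
    have hca : c ≤ Nat.card A := card_le_of_le inf_le_left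
    have h1 : Nat.card A ^ 2 * d ^ 2 * Nat.card A < Nat.card A ^ 2 * d ^ 2 * c :=
      calc Nat.card A ^ 2 * d ^ 2 * Nat.card A = Nat.card A ^ 3 * d ^ 2 := by ring
        _ < Nat.card V ^ 2 * c ^ 3 := h
        _ = (Nat.card V * c) ^ 2 * c := by ring
        _ ≤ (Nat.card A * d) ^ 2 * c := Nat.mul_le_mul_right _ (Nat.pow_le_pow_left hm 2)
        _ = _ := by ring
    exact absurd (Nat.lt_of_mul_lt_mul_left h1) (not_lt.2 hca)
  refine ⟨?_, fun A hA => ?_⟩
  · rw [Cfsg.Lib.Thompson.thompsonSubgroupOf_eq]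
    exact sSup_le key
  · have he : Cfsg.IsElementaryAbelian 2 (A ⊔ V) := by
      rw [show A ⊔ V = closure ((A : Set G) ∪ V) by rw [Subgroup.closure_union, closure_eq, closure_eq]]
      haveI := Subgroup.isMulCommutative_closure (k := (A : Set G) ∪ V) (fun x hx y hy => by
        rcases hx with hx | hx <;> rcases hy with hy | hy
        · exact elem_comm hA.2.1 hx hy
        · exact (mem_centralizer_iff.1 (key A hA hx) y hy).symm
        · exact mem_centralizer_iff.1 (key A hA hy) x hx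
        · exact elem_comm hVe hx hy)
      refine ⟨inferInstance, fun z hz => ?_⟩
      induction hz using Subgroup.closure_induction with
      | mem z hz =>
        rw [pow_two]
        rcases hz with hz | hz
        · exact elem_sq hA.2.1 hz
        · exact elem_sq hVe hz
      | one => exact one_pow 2
      | mul x y hx hy ihx ihy =>
        have hcm : Commute x y := congrArg Subtype.val (IsMulCommutative.is_comm.comm
          (⟨x, hx⟩ : closure ((A : Set G) ∪ V)) ⟨y, hy⟩)
        rw [hcm.mul_pow, ihx, ihy, one_mul]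
      | inv x _ ih => rw [inv_pow, ih, inv_one]
    exact le_sup_right.trans (eq_of_le_of_card_ge le_sup_left (hA.2.2 _ (sup_le hA.1 hV) he)).ge

theorem card_le_mul (P : Subgroup G) {R1 R W : Subgroup G} (hR : R1 ≤ R) (hWP : W ≤ P)
    (hW1 : W ≤ centralizer (R1 : Set G)) :
    Nat.card ↥(P ⊓ centralizer (R : Set G)) * Nat.card W ≤
      Nat.card ↥(P ⊓ centralizer (R1 : Set G)) * Nat.card ↥(W ⊓ centralizer (R : Set G)) := by
  set C := P ⊓ centralizer (R : Set G)
  set D := P ⊓ centralizer (R1 : Set G)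
  have hcard : ∀ {K L : Subgroup G}, K ≤ L → Nat.card K * K.relIndex L = Nat.card L := fun {K L} h => by
    rw [← relIndex_bot_left, ← relIndex_bot_left, relIndex_mul_relIndex _ _ _ bot_le h]
  have e1 := hcard (inf_le_inf_left P (centralizer_le hR) : C ≤ D)
  have e2 := hcard (inf_le_right : C ⊓ W ≤ W)
  rw [inf_relIndex_right] at e2
  have e3 : Nat.card ↥(C ⊓ W) ≤ Nat.card ↥(W ⊓ centralizer (R : Set G)) :=
    card_le_of_le (le_inf inf_le_right (inf_le_left.trans inf_le_right))
  have hle : C.relIndex W ≤ C.relIndex D := relIndex_le_of_le_right (le_inf hWP hW1) index_ne_zero_of_finite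
  calc Nat.card C * Nat.card W = Nat.card C * C.relIndex W * Nat.card ↥(C ⊓ W) := by rw [← e2]; ring
    _ ≤ Nat.card C * C.relIndex D * Nat.card ↥(W ⊓ centralizer (R : Set G)) :=
        Nat.mul_le_mul (Nat.mul_le_mul_left _ hle) e3
    _ = _ := by rw [e1]

/-- `Ω₁(Z(Ĵ(S)))` satisfies the strict three-halves bound. -/
theorem sqHalf_omega {S : Subgroup G} (hS : IsPGroup 2 S) :
    SqHalf S (Cfsg.omegaOne 2 (jHatOf S ⊓ centralizer (jHatOf S : Set G))) := by
  set K := jHatOf S with hKdef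
  set Z := Cfsg.omegaOne 2 (K ⊓ centralizer (K : Set G)) with hZdef
  have hZK : Z ≤ K ⊓ centralizer (K : Set G) := (closure_le _).2 fun x hx => hx.1
  have hJU : ∀ U ∈ {U | U ≤ S ∧ EG U ∧ Cfsg.thompsonSubgroupOf 2 S ≤ U}, U ≤ K := fun U hU => by
    rw [hKdef, jHatOf_eq]; exact le_sSup hU
  suffices hmain : ∀ n, ∀ R : Subgroup G, Nat.card R = n → R ≤ S → ⁅R, R⁆ ≤ centralizer (Z : Set G) →
      (∀ r ∈ R, r ^ 2 ∈ centralizer (Z : Set G)) → ¬ R ≤ centralizer (Z : Set G) →
      Nat.card R ^ 3 * Nat.card ↥(Z ⊓ centralizer (R : Set G)) ^ 2 <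
        Nat.card Z ^ 2 * Nat.card ↥(R ⊓ centralizer (Z : Set G)) ^ 3 from fun R => hmain _ R rfl
  intro n
  induction n using Nat.strong_induction_on with
  | _ n ih =>
    intro R hn hRS hc hs hne
    by_contra hbad
    set U := K ⊔ Cfsg.thompsonSubgroupOf 2 S ⊔ R
    have hUS : U ≤ S := sup_le (sup_le (jHatOf_le S) (Cfsg.Lib.Thompson.thompsonSubgroupOf_le S)) hRS
    have hJ : Cfsg.thompsonSubgroupOf 2 S ≤ U := le_sup_right.trans le_sup_left
    have hEG : EG U := by
      intro V hVU hUV hVe hprop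
      obtain ⟨hJc, hVA⟩ := thompson_centralizes hJ (hVU.trans hUS) hVe hprop
      have hVJ : V ≤ Cfsg.thompsonSubgroupOf 2 S := by
        obtain ⟨A, hA⟩ := Cfsg.Lib.Thompson.exists_isMaxElem (p := 2) S
        exact (hVA A hA).trans (maxElem_le_thompson hA)
      have hKc : K ≤ centralizer (V : Set G) := by
        rw [hKdef, jHatOf_eq]
        refine sSup_le fun T hT => ?_
        have hTU : T ≤ U := (hJU T hT).trans (le_sup_left.trans le_sup_left)
        exact hT.2.1 V (hVJ.trans hT.2.2) (hTU.trans hUV) hVe fun P hP => hprop P (hP.trans hTU)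
      refine sup_le (sup_le hKc hJc) (by_contra fun hRV => hbad ?_)
      -- `V` lies in `Z`
      have hne' : ∃ T, T ∈ {U | U ≤ S ∧ EG U ∧ Cfsg.thompsonSubgroupOf 2 S ≤ U} := by
        refine ⟨Cfsg.thompsonSubgroupOf 2 S, Cfsg.Lib.Thompson.thompsonSubgroupOf_le S, ?_, le_rfl⟩
        intro W hWU hUW hWe hp
        exact (thompson_centralizes (U := Cfsg.thompsonSubgroupOf 2 S) le_rfl
          (hWU.trans (Cfsg.Lib.Thompson.thompsonSubgroupOf_le S)) hWe hp).1
      have hJK : Cfsg.thompsonSubgroupOf 2 S ≤ K := let ⟨T, hT⟩ := hne'; hT.2.2.trans (hJU T hT)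
      have hVZ : V ≤ Z := fun v hv => subset_closure ⟨mem_inf.2 ⟨hJK (hVJ hv),
        le_centralizer_iff.1 hKc hv⟩, by rw [pow_two]; exact elem_sq hVe hv⟩
      have hcle : centralizer (Z : Set G) ≤ centralizer (V : Set G) := centralizer_le hVZ
      obtain ⟨hineq, -⟩ := hprop R le_sup_right (hc.trans hcle) (fun r hr => hcle (hs r hr)) hRV
      set R1 := R ⊓ centralizer (V : Set G)
      have hK1 : R ⊓ centralizer (Z : Set G) = R1 ⊓ centralizer (Z : Set G) :=
        le_antisymm (le_inf (inf_le_inf_left R hcle) inf_le_right) (inf_le_inf_right _ inf_le_left)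
      have h2 : Nat.card R1 ^ 3 * Nat.card ↥(Z ⊓ centralizer (R1 : Set G)) ^ 2 ≤
          Nat.card Z ^ 2 * Nat.card ↥(R ⊓ centralizer (Z : Set G)) ^ 3 := by
        rw [hK1]
        by_cases hle : R1 ≤ centralizer (Z : Set G)
        · rw [inf_eq_left.2 hle, mul_comm]
          exact Nat.mul_le_mul_right _ (Nat.pow_le_pow_left (card_le_of_le inf_le_left) 2)
        · exact (ih _ (hn ▸ lt_of_le_of_ne (card_le_of_le inf_le_left) fun e => hRV
            ((eq_of_le_of_card_ge inf_le_left e.ge).ge.trans inf_le_right)) R1 rfl (inf_le_left.trans hRS)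
            ((commutator_mono inf_le_left inf_le_left).trans hc) (fun r hr => hs r (mem_inf.1 hr).1) hle).le
      have hfix : Nat.card ↥(Z ⊓ centralizer (R : Set G)) * Nat.card V ≤
          Nat.card ↥(Z ⊓ centralizer (R1 : Set G)) * Nat.card ↥(V ⊓ centralizer (R : Set G)) :=
        card_le_mul Z inf_le_left hVZ (le_centralizer_iff.1 inf_le_right)
      have hpos : 0 < Nat.card ↥(Z ⊓ centralizer (R1 : Set G)) ^ 2 := pow_pos Nat.card_pos 2
      refine Nat.lt_of_mul_lt_mul_right (a := Nat.card V ^ 2) ?_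
      calc Nat.card R ^ 3 * Nat.card ↥(Z ⊓ centralizer (R : Set G)) ^ 2 * Nat.card V ^ 2
          = Nat.card R ^ 3 * (Nat.card ↥(Z ⊓ centralizer (R : Set G)) * Nat.card V) ^ 2 := by ring
        _ ≤ Nat.card R ^ 3 *
              (Nat.card ↥(Z ⊓ centralizer (R1 : Set G)) * Nat.card ↥(V ⊓ centralizer (R : Set G))) ^ 2 :=
            Nat.mul_le_mul_left _ (Nat.pow_le_pow_left hfix 2)
        _ = (Nat.card R ^ 3 * Nat.card ↥(V ⊓ centralizer (R : Set G)) ^ 2) *
              Nat.card ↥(Z ⊓ centralizer (R1 : Set G)) ^ 2 := by ring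
        _ < (Nat.card V ^ 2 * Nat.card R1 ^ 3) * Nat.card ↥(Z ⊓ centralizer (R1 : Set G)) ^ 2 :=
            Nat.mul_lt_mul_of_pos_right hineq hpos
        _ = Nat.card V ^ 2 * (Nat.card R1 ^ 3 * Nat.card ↥(Z ⊓ centralizer (R1 : Set G)) ^ 2) := by ring
        _ ≤ Nat.card V ^ 2 * (Nat.card Z ^ 2 * Nat.card ↥(R ⊓ centralizer (Z : Set G)) ^ 3) :=
            Nat.mul_le_mul_left _ h2
        _ = _ := by ring
    have hRK : R ≤ K := le_sup_right.trans (hJU U ⟨hUS, hEG, hJ⟩)
    exact hne (hRK.trans (le_centralizer_iff.1 (hZK.trans inf_le_right)))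

end Cfsg.Lib.SThreeFree
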