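import Cfsg.Agent.SThreeFree.Families
import Cfsg.Agent.Transfer.Basic

/-!
Sylow 2-normalisers in groups whose non-abelian composition factors are Suzuki groups or `PSL₂(3^odd)`,
and the subgroups used in Frattini arguments.
-/

set_option autoImplicit false
set_option linter.unusedSectionVars false
set_option linter.style.haveILetI false

namespace Cfsg.Lib.SThreeFree

open Subgroup

universe u

variable {G : Type u} [Group G] [Finite G]

/-- A subgroup through which `S` covers the group meets `S` in a Sylow subgroup. -/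
theorem exists_sylow_inf (S : Sylow 2 G) {N H : Subgroup G} [N.Normal] (hNH : N ≤ H)
    (hcov : (S : Subgroup G) ⊔ N = ⊤ ∨ N = H) :
    ∃ P : Sylow 2 H, (P : Subgroup H).map H.subtype = (S : Subgroup G) ⊓ H := by
  haveI : Fact (Nat.Prime 2) := ⟨Nat.prime_two⟩
  have hodd : ¬ 2 ∣ (S : Subgroup G).relIndex H := by
    intro hd
    rcases hcov with h | rfl
    · have h1 : (S : Subgroup G).relIndex N = (S : Subgroup G).index := by
        rw [Cfsg.Lib.Transfer.relIndex_eq_relIndex_sup_of_normal, h, relIndex_top_right]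
      have h2 : (S : Subgroup G).relIndex H = (S : Subgroup G).index :=
        le_antisymm ((relIndex_le_of_le_right le_top index_ne_zero_of_finite).trans
            (le_of_eq (relIndex_top_right _)))
          (h1 ▸ relIndex_le_of_le_right hNH index_ne_zero_of_finite)
      exact S.not_dvd_index (h2 ▸ hd)
    · rw [Cfsg.Lib.Transfer.relIndex_eq_relIndex_sup_of_normal] at hd
      exact S.not_dvd_index (hd.trans (relIndex_dvd_index_of_le le_sup_left))
  have hp : IsPGroup 2 ((S : Subgroup G).subgroupOf H) := S.2.comap_of_injective H.subtype H.subtype_injective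
  refine ⟨hp.toSylow hodd, ?_⟩
  show ((S : Subgroup G).subgroupOf H).map H.subtype = _
  rw [subgroupOf_map_subtype]

/-- Frattini's argument for the intersection with a normal subgroup. -/
theorem frattini_inf (S : Sylow 2 G) (N : Subgroup G) [N.Normal] (g : G) :
    ∃ n ∈ normalizer (((S : Subgroup G) ⊓ N : Subgroup G) : Set G), ∃ c ∈ N, g = n * c := by
  haveI : Fact (Nat.Prime 2) := ⟨Nat.prime_two⟩
  obtain ⟨P, hP⟩ := exists_sylow_inf S (N := N) (H := N) le_rfl (Or.inr rfl)
  have h := Sylow.normalizer_sup_eq_top P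
  rw [hP] at h
  obtain ⟨n, hn, c, hc, e⟩ := mem_sup_of_normal_right.1 (h.ge (mem_top g))
  exact ⟨n, hn, c, hc, e.symm⟩

theorem solvable_of_ker {X Y : Type*} [Group X] [Group Y] (f : X →* Y) (hY : Group.IsSolvable Y)
    (hK : Group.IsSolvable f.ker) : Group.IsSolvable X :=
  (Group.isSolvable_iff_subgroup_quotient f.ker).2
    ⟨hK, Group.isSolvable_of_isSolvable_injective (f := QuotientGroup.kerLift f) (QuotientGroup.kerLift_injective f)⟩

/-- Sylow 2-normalisers are solvable. -/
theorem sylow_normalizer_solvable : ∀ (n : ℕ) {G : Type u} [Group G] [Finite G], Nat.card G = n → Comp G →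
    ∀ P : Sylow 2 G, Group.IsSolvable (normalizer ((P : Subgroup G) : Set G)) := by
  intro n
  induction n using Nat.strong_induction_on with
  | _ n ih =>
    intro G _ _ hn hC P
    classical
    haveI : Fact (Nat.Prime 2) := ⟨Nat.prime_two⟩
    rcases subsingleton_or_nontrivial G with hG | hG
    · exact Group.isSolvable_of_comm fun a b => Subsingleton.elim _ _
    obtain ⟨M, ⟨hMn, hMne⟩, hMmax⟩ := Set.exists_max_image {M : Subgroup G | M.Normal ∧ M ≠ ⊤}
      (fun M => Nat.card M) (Set.toFinite _) ⟨⊥, inferInstance, bot_ne_top⟩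
    haveI := hMn
    set π := QuotientGroup.mk' M
    have hπ := QuotientGroup.mk'_surjective M
    haveI : Nontrivial (G ⧸ M) := QuotientGroup.nontrivial_iff.2 hMne
    haveI hs : IsSimpleGroup (G ⧸ M) := ⟨fun Y hY => by
      by_cases h : Y.comap π = ⊤
      · right; rw [← map_comap_eq_self_of_surjective hπ Y, h, map_top_of_surjective _ hπ]
      · left
        have hle : M ≤ Y.comap π := fun m hm => by
          rw [mem_comap, show π m = 1 from (QuotientGroup.eq_one_iff m).2 hm]; exact one_mem _
        have e := eq_of_le_of_card_ge hle (hMmax _ ⟨hY.comap π, h⟩)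
        rw [← map_comap_eq_self_of_surjective hπ Y, ← e, QuotientGroup.map_mk'_self]⟩
    have hlt : Nat.card M < n := hn ▸ lt_of_le_of_ne (Nat.le_of_dvd Nat.card_pos M.card_subgroup_dvd_card)
      fun e => hMne (eq_top_of_card_eq M e)
    obtain ⟨PM, hPM⟩ := exists_sylow_inf P (N := M) (H := M) le_rfl (Or.inr rfl)
    have hM := ih _ hlt rfl (comp_subnormal hC hMn.isSubnormal) PM
    set N := normalizer ((P : Subgroup G) : Set G)
    set Pb := P.mapSurjective hπ
    let f : N →* normalizer ((Pb : Subgroup (G ⧸ M)) : Set (G ⧸ M)) :=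
      (π.comp N.subtype).codRestrict _ fun x => by
        refine le_normalizer_map π ?_
        exact mem_map_of_mem π x.2
    refine solvable_of_ker f ?_ ?_
    · by_cases hsol : Group.IsSolvable (G ⧸ M)
      · infer_instance
      · refine normalizer_solvable ?_ hsol Pb
        exact comp_apply hC (H := ⊤) Subgroup.IsSubnormal.top (π.comp (⊤ : Subgroup G).subtype)
          (fun q => let ⟨g, hg⟩ := hπ q; ⟨⟨g, mem_top g⟩, hg⟩) hs
          fun h => hsol (Group.isSolvable_of_comm fun a b => h.is_comm.comm a b)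
    · haveI := hM
      have hmemM : ∀ x : f.ker, ((x : N) : G) ∈ M := fun x =>
        (QuotientGroup.eq_one_iff _).1 (congrArg Subtype.val (MonoidHom.mem_ker.1 x.2))
      let e : f.ker →* normalizer ((PM : Subgroup M) : Set M) :=
        MonoidHom.mk' (fun x => ⟨⟨((x : N) : G), hmemM x⟩, by
          refine Cfsg.Lib.JComp.le_normalizer_of_conj (K := zpowers (⟨((x : N) : G), hmemM x⟩ : M)) ?_ (mem_zpowers _)
          intro k hk y hy
          have hy' : (y : G) ∈ (P : Subgroup G) ⊓ M := hPM ▸ mem_map_of_mem M.subtype hy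
          have hk' : (k : G) ∈ N := by
            obtain ⟨i, rfl⟩ := mem_zpowers_iff.1 hk
            rw [SubgroupClass.coe_zpow]
            exact zpow_mem (x : N).2 i
          have h : ((k * y * k⁻¹ : M) : G) ∈ (PM : Subgroup M).map M.subtype := by
            rw [hPM]
            exact mem_inf.2 ⟨Cfsg.Lib.JComp.conj_mem hk' (mem_inf.1 hy').1, (k * y * k⁻¹).2⟩
          obtain ⟨z, hz, e⟩ := h
          exact Subtype.ext e ▸ hz⟩) fun x y => Subtype.ext (Subtype.ext rfl)
      exact Group.isSolvable_of_isSolvable_injective (f := e) fun x y h =>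
        Subtype.ext (Subtype.ext (congrArg (fun z : normalizer ((PM : Subgroup M) : Set M) => ((z : M) : G)) h))

/-- Adjoining a 2-group to a normal subgroup. -/
theorem comp_sup_two {H N : Subgroup G} [N.Normal] (hC : Comp G) (hNH : N ≤ H) {S : Subgroup G}
    (hS : IsPGroup 2 S) (hH : H ≤ N ⊔ S) : Comp H := by
  haveI : Fact (Nat.Prime 2) := ⟨Nat.prime_two⟩
  refine comp_ext (N.subgroupOf H) (comp_of_equiv (subgroupOfEquivOfLe hNH).symm (comp_subnormal hC
    (Subgroup.Normal.isSubnormal inferInstance))) ?_
  haveI : Group.IsSolvable (H ⧸ N.subgroupOf H) := by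
    let f : H ⧸ N.subgroupOf H →* G ⧸ N :=
      QuotientGroup.map (N.subgroupOf H) N H.subtype fun x hx => hx
    have hinj : Function.Injective f := (injective_iff_map_eq_one f).2 fun q hq => by
      obtain ⟨x, rfl⟩ := QuotientGroup.mk'_surjective _ q
      exact (QuotientGroup.eq_one_iff x).2 (mem_subgroupOf.2 ((QuotientGroup.eq_one_iff (x : G)).1 hq))
    have hr : f.range ≤ S.map (QuotientGroup.mk' N) := by
      rintro _ ⟨q, rfl⟩
      obtain ⟨x, rfl⟩ := QuotientGroup.mk'_surjective _ q
      obtain ⟨n, hn, s, hs, e⟩ := mem_sup_of_normal_left.1 (hH x.2)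
      refine ⟨s, hs, ?_⟩
      show QuotientGroup.mk' N s = QuotientGroup.mk' N (x : G)
      rw [← e, map_mul, show QuotientGroup.mk' N n = 1 from (QuotientGroup.eq_one_iff n).2 hn, one_mul]
    haveI : Group.IsSolvable f.range := by
      haveI := ((hS.map (QuotientGroup.mk' N)).to_le hr).isNilpotent
      infer_instance
    exact Group.isSolvable_of_isSolvable_injective (f := f.rangeRestrict)
      fun a b h => hinj (congrArg Subtype.val h)
  exact comp_of_solvable

/-- The normaliser of a Sylow subgroup of a normal subgroup. -/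
theorem comp_normalizer (hC : Comp G) (S : Sylow 2 G) (N : Subgroup G) [N.Normal] :
    Comp (normalizer (((S : Subgroup G) ⊓ N : Subgroup G) : Set G)) := by
  haveI : Fact (Nat.Prime 2) := ⟨Nat.prime_two⟩
  set X := normalizer (((S : Subgroup G) ⊓ N : Subgroup G) : Set G) with hX
  set φ := (QuotientGroup.mk' N).comp X.subtype
  have hφ : Function.Surjective φ := fun q => by
    obtain ⟨g, rfl⟩ := QuotientGroup.mk'_surjective N q
    obtain ⟨n, hn, c, hc, rfl⟩ := frattini_inf S N g
    refine ⟨⟨n, hn⟩, ?_⟩
    show QuotientGroup.mk' N n = QuotientGroup.mk' N (n * c)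
    rw [map_mul, show QuotientGroup.mk' N c = 1 from (QuotientGroup.eq_one_iff c).2 hc, mul_one]
  refine comp_ext φ.ker ?_ (comp_of_equiv (QuotientGroup.quotientKerEquivOfSurjective φ hφ).symm (comp_quotient hC N))
  obtain ⟨P, hP⟩ := exists_sylow_inf S (N := N) (H := N) le_rfl (Or.inr rfl)
  haveI := sylow_normalizer_solvable _ rfl (comp_subnormal hC (Subgroup.Normal.isSubnormal inferInstance)) P
  have hmem : ∀ x : φ.ker, ((x : X) : G) ∈ N := fun x => (QuotientGroup.eq_one_iff _).1 x.2
  let e : φ.ker →* normalizer ((P : Subgroup N) : Set N) :=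
    MonoidHom.mk' (fun x => ⟨⟨((x : X) : G), hmem x⟩, by
      refine Cfsg.Lib.JComp.le_normalizer_of_conj (K := zpowers (⟨((x : X) : G), hmem x⟩ : N)) ?_ (mem_zpowers _)
      intro k hk y hy
      have hy' : (y : G) ∈ (S : Subgroup G) ⊓ N := hP ▸ mem_map_of_mem N.subtype hy
      have hk' : (k : G) ∈ X := by
        obtain ⟨i, rfl⟩ := mem_zpowers_iff.1 hk
        rw [SubgroupClass.coe_zpow]
        exact zpow_mem (x : X).2 i
      have h : ((k * y * k⁻¹ : N) : G) ∈ (P : Subgroup N).map N.subtype := by
        rw [hP]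
        exact Cfsg.Lib.JComp.conj_mem hk' hy'
      obtain ⟨z, hz, e⟩ := h
      exact Subtype.ext e ▸ hz⟩) fun x y => Subtype.ext (Subtype.ext rfl)
  haveI : Group.IsSolvable φ.ker := Group.isSolvable_of_isSolvable_injective (f := e) fun x y h =>
    Subtype.ext (Subtype.ext (congrArg (fun z : normalizer ((P : Subgroup N) : Set N) => ((z : N) : G)) h))
  exact comp_of_solvable

end Cfsg.Lib.SThreeFree
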