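import Cfsg.Agent.SThreeFree.Families
import Cfsg.Agent.S3195
import Cfsg.Agent.Components.Cores
import Cfsg.Agent.Stellmacher.Step

/-!
Linear actions on elementary abelian 2-groups: fixed points, splitting over invariant subgroups,
and the reduction steps for the squared bound.
-/

set_option autoImplicit false
set_option linter.unusedSectionVars false
set_option linter.style.haveILetI false

namespace Cfsg.Lib.SThreeFree

open Subgroup
open scoped commutatorElement

universe u v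

variable {G : Type u} [Group G] {V : Type v} [AddCommGroup V]

theorem act_mul (ρ : G →* AddMonoid.End V) (g h : G) (x : V) : ρ (g * h) x = ρ g (ρ h x) := by
  rw [map_mul]; rfl

theorem act_one (ρ : G →* AddMonoid.End V) (x : V) : ρ 1 x = x := by rw [map_one]; rfl

theorem act_inv_apply (ρ : G →* AddMonoid.End V) (g : G) (x : V) : ρ g⁻¹ (ρ g x) = x := by
  rw [← act_mul, inv_mul_cancel, act_one]

theorem act_injective (ρ : G →* AddMonoid.End V) (g : G) : Function.Injective (ρ g) :=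
  fun x y h => by rw [← act_inv_apply ρ g x, h, act_inv_apply]

theorem act_eq_one {ρ : G →* AddMonoid.End V} (hρ : Function.Injective ρ) {g : G} (h : ∀ x, ρ g x = x) : g = 1 :=
  hρ (AddMonoidHom.ext fun x => (h x).trans (act_one ρ x).symm)

/-- The fixed points of a subgroup. -/
def fixd (ρ : G →* AddMonoid.End V) (A : Subgroup G) : AddSubgroup V where
  carrier := {x | ∀ a ∈ A, ρ a x = x}
  zero_mem' := fun a _ => map_zero _
  add_mem' := fun {x y} hx hy a ha => by rw [map_add, hx a ha, hy a ha]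
  neg_mem' := fun {x} hx a ha => by rw [map_neg, hx a ha]

theorem mem_fixd {ρ : G →* AddMonoid.End V} {A : Subgroup G} {x : V} : x ∈ fixd ρ A ↔ ∀ a ∈ A, ρ a x = x :=
  Iff.rfl

theorem fixd_mono (ρ : G →* AddMonoid.End V) {A B : Subgroup G} (h : A ≤ B) : fixd ρ B ≤ fixd ρ A :=
  fun _ hx a ha => hx a (h ha)

theorem fixd_invariant (ρ : G →* AddMonoid.End V) {A : Subgroup G} {g : G}
    (hg : ∀ a ∈ A, g⁻¹ * a * g ∈ A) {x : V} (hx : x ∈ fixd ρ A) : ρ g x ∈ fixd ρ A := by
  intro a ha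
  rw [← act_mul, show a * g = g * (g⁻¹ * a * g) by group, act_mul, hx _ (hg a ha)]

/-- The squared bound. -/
def Bd (ρ : G →* AddMonoid.End V) (A : Subgroup G) : Prop :=
  Nat.card A ^ 2 * Nat.card (fixd ρ A) ≤ Nat.card V

/-- The restriction to an invariant subgroup. -/
def resAct (ρ : G →* AddMonoid.End V) (W : AddSubgroup V) (hW : ∀ g, ∀ x ∈ W, ρ g x ∈ W) :
    G →* AddMonoid.End W where
  toFun g := AddMonoidHom.mk' (fun x => ⟨ρ g x, hW g x x.2⟩) fun x y => Subtype.ext (map_add (ρ g) (x : V) y)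
  map_one' := AddMonoidHom.ext fun x => Subtype.ext (act_one ρ x)
  map_mul' g h := AddMonoidHom.ext fun x => Subtype.ext (act_mul ρ g h x)

theorem resAct_apply (ρ : G →* AddMonoid.End V) (W : AddSubgroup V) (hW : ∀ g, ∀ x ∈ W, ρ g x ∈ W) (g : G)
    (x : W) : ((resAct ρ W hW g x : W) : V) = ρ g x := rfl

/-- The action on the quotient by an invariant subgroup. -/
def quoAct (ρ : G →* AddMonoid.End V) (W : AddSubgroup V) (hW : ∀ g, ∀ x ∈ W, ρ g x ∈ W) :
    G →* AddMonoid.End (V ⧸ W) where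
  toFun g := QuotientAddGroup.map W W (ρ g) fun x hx => hW g x hx
  map_one' := QuotientAddGroup.addMonoidHom_ext _ (AddMonoidHom.ext fun x =>
    congrArg (QuotientAddGroup.mk (s := W)) (act_one ρ x))
  map_mul' g h := QuotientAddGroup.addMonoidHom_ext _ (AddMonoidHom.ext fun x =>
    congrArg (QuotientAddGroup.mk (s := W)) (act_mul ρ g h x))

theorem quoAct_mk (ρ : G →* AddMonoid.End V) (W : AddSubgroup V) (hW : ∀ g, ∀ x ∈ W, ρ g x ∈ W) (g : G)
    (x : V) : quoAct ρ W hW g (QuotientAddGroup.mk x) = QuotientAddGroup.mk (ρ g x) := rfl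

theorem two_sub (h2 : ∀ x : V, x + x = 0) (W : AddSubgroup V) : ∀ x : W, x + x = 0 :=
  fun x => Subtype.ext (h2 x)

theorem two_quo (h2 : ∀ x : V, x + x = 0) (W : AddSubgroup V) : ∀ x : V ⧸ W, x + x = 0 := fun x => by
  obtain ⟨y, rfl⟩ := QuotientAddGroup.mk_surjective x
  rw [← QuotientAddGroup.mk_add, h2 y]; rfl

theorem card_split [Finite V] (f : V →+ V) : Nat.card f.ker * Nat.card f.range = Nat.card V := by
  rw [AddSubgroup.card_eq_card_quotient_mul_card_addSubgroup f.ker,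
    Nat.card_congr (QuotientAddGroup.quotientKerEquivRange f).toEquiv, mul_comm]

theorem card_fixd_le [Finite V] (ρ : G →* AddMonoid.End V) (W : AddSubgroup V) (hW : ∀ g, ∀ x ∈ W, ρ g x ∈ W)
    {A B C : Subgroup G} (hB : B ≤ A) (hC : C ≤ A) :
    Nat.card (fixd ρ A) ≤ Nat.card (fixd (resAct ρ W hW) B) * Nat.card (fixd (quoAct ρ W hW) C) := by
  let f : fixd ρ A →+ V ⧸ W := (QuotientAddGroup.mk' W).comp (fixd ρ A).subtype
  rw [AddSubgroup.card_eq_card_quotient_mul_card_addSubgroup f.ker,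
    Nat.card_congr (QuotientAddGroup.quotientKerEquivRange f).toEquiv, mul_comm]
  have hker : ∀ x : f.ker, ((x : fixd ρ A) : V) ∈ W := fun x =>
    (QuotientAddGroup.eq_zero_iff ((x : fixd ρ A) : V)).1 x.2
  refine Nat.mul_le_mul ?_ ?_
  · refine Nat.card_le_card_of_injective
      (fun x => (⟨⟨((x : fixd ρ A) : V), hker x⟩, fun b hb => Subtype.ext ((x : fixd ρ A).2 b (hB hb))⟩ :
        fixd (resAct ρ W hW) B)) ?_
    intro x y h
    exact Subtype.ext (Subtype.ext (congrArg (fun z : fixd (resAct ρ W hW) B => ((z : W) : V)) h))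
  · refine Nat.card_le_card_of_injective
      (fun y => (⟨y.1, fun c hc => ?_⟩ : fixd (quoAct ρ W hW) C)) ?_
    · obtain ⟨x, hx⟩ := y.2
      rw [← hx]
      exact congrArg (QuotientAddGroup.mk (s := W)) (x.2 c (hC hc))
    · intro x y h
      exact Subtype.ext (congrArg (fun z : fixd (quoAct ρ W hW) C => (z : V ⧸ W)) h)

theorem bd_subgroup (ρ : G →* AddMonoid.End V) {H A : Subgroup G} (hA : A ≤ H)
    (h : Bd (ρ.comp H.subtype) (A.subgroupOf H)) : Bd ρ A := by
  have e : fixd (ρ.comp H.subtype) (A.subgroupOf H) = fixd ρ A := by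
    ext x
    exact ⟨fun hx a ha => hx ⟨a, hA ha⟩ (mem_subgroupOf.2 ha), fun hx a ha => hx a (mem_subgroupOf.1 ha)⟩
  unfold Bd at h ⊢
  rwa [e, Nat.card_congr (subgroupOfEquivOfLe hA).toEquiv] at h

theorem fixd_map (ρ : G →* AddMonoid.End V) (N : Subgroup G) [N.Normal] (hN : N ≤ ρ.ker) (B : Subgroup G) :
    fixd (QuotientGroup.lift N ρ hN) (B.map (QuotientGroup.mk' N)) = fixd ρ B := by
  ext x
  constructor
  · intro hx b hb
    exact hx _ (mem_map_of_mem _ hb)
  · rintro hx _ ⟨b, hb, rfl⟩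
    exact hx b hb

theorem lift_injective (ρ : G →* AddMonoid.End V) :
    Function.Injective (QuotientGroup.lift ρ.ker ρ le_rfl) := by
  rw [← MonoidHom.ker_eq_bot_iff, QuotientGroup.ker_lift]
  rw [← le_bot_iff, map_le_iff_le_comap, MonoidHom.comap_bot, QuotientGroup.ker_mk']

theorem card_map_mk (N : Subgroup G) [N.Normal] {B : Subgroup G} (h : B ⊓ N = ⊥) :
    Nat.card (B.map (QuotientGroup.mk' N)) = Nat.card B := by
  refine (Nat.card_congr (Equiv.ofBijective ((QuotientGroup.mk' N).subgroupMap B)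
    ⟨?_, MonoidHom.subgroupMap_surjective _ B⟩)).symm
  rw [injective_iff_map_eq_one]
  intro b hb
  exact Subtype.ext (mem_bot.1 (h ▸ ⟨b.2, (QuotientGroup.eq_one_iff (b : G)).1 (congrArg Subtype.val hb)⟩))

theorem exists_complement [Finite G] {A A0 : Subgroup G} (hA : Cfsg.IsElementaryAbelian 2 A) (h0 : A0 ≤ A) :
    ∃ B : Subgroup G, B ≤ A ∧ B ⊓ A0 = ⊥ ∧ (∀ a ∈ A, ∃ c ∈ A0, ∃ b ∈ B, a = c * b) ∧
      Nat.card A ≤ Nat.card A0 * Nat.card B := by
  obtain ⟨B, ⟨hBA, hB0⟩, hmax⟩ := Set.exists_max_image {B : Subgroup G | B ≤ A ∧ B ⊓ A0 = ⊥}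
    (fun B => Nat.card B) (Set.toFinite _) ⟨⊥, bot_le, bot_inf_eq _⟩
  let P : Subgroup G :=
    { carrier := {x | ∃ c ∈ A0, ∃ b ∈ B, x = c * b}
      one_mem' := ⟨1, one_mem _, 1, one_mem _, (one_mul 1).symm⟩
      mul_mem' := by
        rintro _ _ ⟨c, hc, b, hb, rfl⟩ ⟨c', hc', b', hb', rfl⟩
        refine ⟨c * c', mul_mem hc hc', b * b', mul_mem hb hb', ?_⟩
        rw [mul_assoc c b, ← mul_assoc b c', Cfsg.Lib.JComp.elem_comm hA (hBA hb) (h0 hc'), mul_assoc c' b,
          ← mul_assoc c c']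
      inv_mem' := by
        rintro _ ⟨c, hc, b, hb, rfl⟩
        refine ⟨c⁻¹, inv_mem hc, b⁻¹, inv_mem hb, ?_⟩
        rw [mul_inv_rev, Cfsg.Lib.JComp.elem_comm hA (inv_mem (hBA hb)) (inv_mem (h0 hc))] }
  have hall : ∀ a ∈ A, a ∈ P := by
    intro a ha
    by_contra hcon
    have haB : a ∉ B := fun h => hcon ⟨1, one_mem _, a, h, (one_mul a).symm⟩
    let B' : Subgroup G :=
      { carrier := {x | x ∈ B ∨ a * x ∈ B}
        one_mem' := Or.inl (one_mem _)
        mul_mem' := by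
          rintro x y (hx | hx) (hy | hy)
          · exact Or.inl (mul_mem hx hy)
          · right
            rw [← mul_assoc, Cfsg.Lib.JComp.elem_comm hA ha (hBA hx), mul_assoc]
            exact mul_mem hx hy
          · right
            rw [← mul_assoc]
            exact mul_mem hx hy
          · left
            have hxA : x ∈ A := by simpa using mul_mem (inv_mem ha) (hBA hx)
            have := mul_mem hx hy
            rwa [Cfsg.Lib.JComp.elem_comm hA ha hxA, mul_assoc x a, ← mul_assoc a a, Cfsg.Lib.JComp.elem_sq hA ha,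
              one_mul] at this
        inv_mem' := by
          rintro x (hx | hx)
          · exact Or.inl (inv_mem hx)
          · right
            have hxA : x ∈ A := by simpa using mul_mem (inv_mem ha) (hBA hx)
            rwa [inv_eq_of_mul_eq_one_right (Cfsg.Lib.JComp.elem_sq hA hxA)] }
    have hlt : B < B' := lt_of_le_of_ne (fun x hx => Or.inl hx) fun e => haB (e ▸
      (Or.inr (by rw [Cfsg.Lib.JComp.elem_sq hA ha]; exact one_mem _) : a ∈ B'))
    have hB'A : B' ≤ A := by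
      rintro x (hx | hx)
      · exact hBA hx
      · simpa using mul_mem (inv_mem ha) (hBA hx)
    have hB'0 : B' ⊓ A0 = ⊥ := by
      rw [Subgroup.eq_bot_iff_forall]
      rintro x ⟨hx | hx, hx0⟩
      · exact mem_bot.1 (hB0 ▸ ⟨hx, hx0⟩)
      · exfalso
        refine hcon ⟨x, hx0, a * x, hx, ?_⟩
        rw [← mul_assoc, Cfsg.Lib.JComp.elem_comm hA (h0 hx0) ha, mul_assoc,
          Cfsg.Lib.JComp.elem_sq hA (h0 hx0), mul_one]
    exact hlt.ne (eq_of_le_of_card_ge hlt.le (hmax B' ⟨hB'A, hB'0⟩))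
  refine ⟨B, hBA, hB0, hall, ?_⟩
  rw [← Nat.card_prod]
  refine Nat.card_le_card_of_surjective (fun z : A0 × B => (⟨z.1 * z.2, mul_mem (h0 z.1.2) (hBA z.2.2)⟩ : A)) ?_
  rintro ⟨a, ha⟩
  obtain ⟨c, hc, b, hb, rfl⟩ := hall a ha
  exact ⟨(⟨c, hc⟩, ⟨b, hb⟩), rfl⟩

theorem fixd_card_of_bot (ρ : G →* AddMonoid.End V) : Nat.card (fixd ρ ⊥) = Nat.card V := by
  rw [show fixd ρ ⊥ = ⊤ from eq_top_iff.2 fun x _ a ha => by rw [mem_bot.1 ha]; exact act_one ρ x,
    AddSubgroup.card_top]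

variable [Finite G] [Finite V]

theorem fixd_ne_bot (ρ : G →* AddMonoid.End V) {P : Subgroup G} (hP : IsPGroup 2 P) (U : AddSubgroup V)
    (hU : ∀ g ∈ P, ∀ x ∈ U, ρ g x ∈ U) (hU0 : U ≠ ⊥) (h2 : ∀ x : V, x + x = 0) :
    ∃ x ∈ U, x ≠ 0 ∧ x ∈ fixd ρ P := by
  haveI : Fact (Nat.Prime 2) := ⟨Nat.prime_two⟩
  letI : MulAction P U :=
    { smul := fun g x => ⟨ρ g x, hU g g.2 x x.2⟩
      one_smul := fun x => Subtype.ext (act_one ρ x)
      mul_smul := fun g h x => Subtype.ext (act_mul ρ g h x) }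
  obtain ⟨⟨u, hu⟩, hu0⟩ : ∃ u : U, u ≠ 0 := by
    by_contra hall
    push Not at hall
    exact hU0 ((AddSubgroup.eq_bot_iff_forall _).2 fun x hx => congrArg Subtype.val (hall ⟨x, hx⟩))
  have hdvd : 2 ∣ Nat.card U := by
    have := addOrderOf_dvd_natCard (⟨u, hu⟩ : U)
    rwa [addOrderOf_eq_prime (x := (⟨u, hu⟩ : U)) (p := 2) (by rw [two_nsmul]; exact Subtype.ext (h2 u))
      hu0] at this
  obtain ⟨y, hy, hy0⟩ := hP.exists_fixed_point_of_prime_dvd_card_of_fixed_point U hdvd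
    (a := (0 : U)) (fun g => Subtype.ext (map_zero (ρ g)))
  exact ⟨y, y.2, fun h => hy0 (Subtype.ext h).symm, fun g hg => congrArg Subtype.val (hy ⟨g, hg⟩)⟩

/-- An element of odd order commuting with a 2-group and fixing its fixed points acts trivially. -/
theorem act_trivial_of_fixd (ρ : G →* AddMonoid.End V) (h2 : ∀ x : V, x + x = 0) {P : Subgroup G}
    (hP : IsPGroup 2 P) {r : G} (ho : Odd (orderOf r)) (hc : ∀ g ∈ P, g * r = r * g)
    (hfix : ∀ x ∈ fixd ρ P, ρ r x = x) (x : V) : ρ r x = x := by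
  classical
  set n := orderOf r
  let pr : V →+ V := ∑ i ∈ Finset.range n, (ρ (r ^ i) : V →+ V)
  have hpr : ∀ x, pr x = ∑ i ∈ Finset.range n, ρ (r ^ i) x := fun x =>
    map_sum (AddMonoidHom.eval x : (V →+ V) →+ V) _ _
  have hr : ∀ x, pr (ρ r x) = pr x := by
    intro x
    rw [hpr, hpr]
    have h : ∀ i, ρ (r ^ i) (ρ r x) = ρ (r ^ (i + 1)) x := fun i => by rw [← act_mul, ← pow_succ]
    simp only [h]
    have h1 := Finset.sum_range_succ' (fun i => ρ (r ^ i) x) n
    rw [Finset.sum_range_succ, pow_orderOf_eq_one, pow_zero] at h1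
    exact (add_right_cancel h1).symm
  by_contra hne
  have hU0 : pr.ker ≠ ⊥ := by
    intro e
    refine hne (sub_eq_zero.1 ((AddSubgroup.eq_bot_iff_forall _).1 e _ ?_))
    rw [AddMonoidHom.mem_ker, map_sub, hr, sub_self]
  obtain ⟨y, hy, hy0, hyP⟩ := fixd_ne_bot ρ hP pr.ker (fun g hg z hz => by
    rw [AddMonoidHom.mem_ker, hpr] at hz ⊢
    have h : ∀ i, ρ (r ^ i) (ρ g z) = ρ g (ρ (r ^ i) z) := fun i => by
      rw [← act_mul, ← act_mul, ((show Commute g r from hc g hg).pow_right i).eq]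
    simp only [h]
    rw [← map_sum, hz, map_zero]) hU0 h2
  have hfy : ∀ i : ℕ, ρ (r ^ i) y = y := by
    intro i
    induction i with
    | zero => rw [pow_zero, act_one]
    | succ i ih => rw [pow_succ, act_mul, hfix y hyP, ih]
  refine hy0 ?_
  rw [AddMonoidHom.mem_ker, hpr, Finset.sum_congr rfl fun i _ => hfy i, Finset.sum_const, Finset.card_range] at hy
  obtain ⟨k, hk⟩ := ho
  rwa [hk, add_smul, one_smul, mul_smul, two_nsmul, h2, zero_add] at hy

/-- A normal subgroup acting trivially on a series is a 2-group. -/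
theorem isPGroup_stab {ρ : G →* AddMonoid.End V} (hρ : Function.Injective ρ) (h2 : ∀ x : V, x + x = 0)
    (W : AddSubgroup V) (hW : ∀ g, ∀ x ∈ W, ρ g x ∈ W) {g : G} (h1 : g ∈ (resAct ρ W hW).ker)
    (h3 : g ∈ (quoAct ρ W hW).ker) : g * g = 1 := by
  refine act_eq_one hρ fun x => ?_
  have hd : -x + ρ g x ∈ W := by
    rw [← QuotientAddGroup.eq]
    exact ((DFunLike.congr_fun (MonoidHom.mem_ker.1 h3) (QuotientAddGroup.mk x))).symm
  have hgd : ρ g (-x + ρ g x) = -x + ρ g x :=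
    congrArg Subtype.val (DFunLike.congr_fun (MonoidHom.mem_ker.1 h1) (⟨_, hd⟩ : W))
  rw [map_add, map_neg, ← act_mul] at hgd
  have e := congrArg (ρ g x + ·) hgd
  simp only [← add_assoc, add_neg_cancel, zero_add] at e
  rw [e, add_right_comm, h2, zero_add, neg_eq_of_add_eq_zero_right (h2 x)]

end Cfsg.Lib.SThreeFree
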