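import Mathlib
import Cfsg.Prelude.Def_Local
import Cfsg.Prelude.Def_LocalEven
import Cfsg.Agent.Components.Qd.Free

/-!
Closure properties of the condition on composition factors for the family of Suzuki groups and
`PSL₂(3^odd)`.
-/

set_option autoImplicit false
set_option linter.unusedSectionVars false
set_option linter.style.haveILetI false

namespace Cfsg.Lib.SThreeFree

open Subgroup

universe u

/-- All composition factors are cyclic, Suzuki groups or `PSL₂(3^odd)`. -/
abbrev Comp (G : Type u) [Group G] : Prop :=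
  Cfsg.IsCompositionKGroupWith Cfsg.IsSuzukiOrPSL2OddPowerThree G

theorem fam_of_equiv {X Y : Type u} [Group X] [Group Y] (e : X ≃* Y)
    (h : Cfsg.IsSuzukiOrPSL2OddPowerThree X) : Cfsg.IsSuzukiOrPSL2OddPowerThree Y := by
  rcases h with ⟨F, hF, hF', m, hm, hc, ⟨f⟩⟩ | ⟨F, hF, hF', n, hc, ⟨f⟩⟩
  · exact Or.inl ⟨F, hF, hF', m, hm, hc, ⟨e.symm.trans f⟩⟩
  · exact Or.inr ⟨F, hF, hF', n, hc, ⟨e.symm.trans f⟩⟩

theorem not_comm_congr {X Y : Type u} [Group X] [Group Y] (e : X ≃* Y) (h : ¬ IsMulCommutative Y) :
    ¬ IsMulCommutative X := fun hc => h ⟨⟨fun a b => by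
  have := congrArg e (hc.is_comm.comm (e.symm a) (e.symm b))
  simpa only [map_mul, MulEquiv.apply_symm_apply] using this⟩⟩

/-- The form with surjections onto simple groups. -/
theorem comp_apply {G : Type u} [Group G] (hG : Comp G) {H : Subgroup G} (hH : H.IsSubnormal)
    {X : Type u} [Group X] (f : H →* X) (hf : Function.Surjective f) (hs : IsSimpleGroup X)
    (hn : ¬ IsMulCommutative X) : Cfsg.IsSuzukiOrPSL2OddPowerThree X := by
  set e := QuotientGroup.quotientKerEquivOfSurjective f hf
  exact fam_of_equiv e (hG H hH f.ker (MulEquiv.isSimpleGroup e) (not_comm_congr e hn))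

theorem comp_of_equiv {G G' : Type u} [Group G] [Group G'] (e : G ≃* G') (hG : Comp G) : Comp G' := by
  intro H hH N _ hs hn
  have hH' : (H.comap e.toMonoidHom).IsSubnormal := hH.comap e.toMonoidHom
  refine comp_apply hG hH' ((QuotientGroup.mk' N).comp (e.toMonoidHom.subgroupComap H))
    ((QuotientGroup.mk'_surjective N).comp (MonoidHom.subgroupComap_surjective_of_surjective _ _ e.surjective)) hs hn

theorem comp_of_surjective {G G' : Type u} [Group G] [Group G'] (f : G →* G') (hf : Function.Surjective f)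
    (hG : Comp G) : Comp G' := by
  intro H hH N _ hs hn
  refine comp_apply hG (hH.comap f) ((QuotientGroup.mk' N).comp (f.subgroupComap H))
    ((QuotientGroup.mk'_surjective N).comp (MonoidHom.subgroupComap_surjective_of_surjective f H hf)) hs hn

theorem comp_quotient {G : Type u} [Group G] (hG : Comp G) (N : Subgroup G) [N.Normal] : Comp (G ⧸ N) :=
  comp_of_surjective _ (QuotientGroup.mk'_surjective N) hG

theorem comp_subnormal {G : Type u} [Group G] (hG : Comp G) {K : Subgroup G} (hK : K.IsSubnormal) : Comp K := by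
  intro H hH N _ hs hn
  set e := H.equivMapOfInjective K.subtype K.subtype_injective
  exact comp_apply hG (hH.trans' hK) ((QuotientGroup.mk' N).comp e.symm.toMonoidHom)
    ((QuotientGroup.mk'_surjective N).comp e.symm.surjective) hs hn

theorem comp_ext {G : Type u} [Group G] (N : Subgroup G) [N.Normal] (hN : Comp N) (hQ : Comp (G ⧸ N)) :
    Comp G := by
  intro H hH N₀ _ hs hn
  set π := QuotientGroup.mk' N₀
  set H' := N.subgroupOf H
  have hnorm : (H'.map π).Normal := Subgroup.Normal.map inferInstance π (QuotientGroup.mk'_surjective N₀)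
  rcases hnorm.eq_bot_or_eq_top with h | h
  · set ψ := (QuotientGroup.mk' N).subgroupMap H with hψ
    have hψs : Function.Surjective ψ := MonoidHom.subgroupMap_surjective _ H
    have hker : ψ.ker ≤ π.ker := fun x hx => by
      have hx' : (x : G) ∈ N := (QuotientGroup.eq_one_iff (x : G)).1 (congrArg Subtype.val (MonoidHom.mem_ker.1 hx))
      exact MonoidHom.mem_ker.2 (mem_bot.1 (h ▸ mem_map_of_mem π (mem_subgroupOf.2 hx')))
    set g := ψ.liftOfSurjective hψs ⟨π, hker⟩ with hg
    have hgs : Function.Surjective g := fun y => by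
      obtain ⟨x, rfl⟩ := QuotientGroup.mk'_surjective N₀ y
      exact ⟨ψ x, MonoidHom.liftOfRightInverse_comp_apply _ _ _ ⟨π, hker⟩ x⟩
    exact comp_apply hQ hH.quotient g hgs hs hn
  · have hsub : (H.subgroupOf N).IsSubnormal := hH.comap N.subtype
    let i : H.subgroupOf N →* H :=
      { toFun := fun x => ⟨((x : N) : G), mem_subgroupOf.1 x.2⟩
        map_one' := rfl
        map_mul' := fun _ _ => rfl }
    refine comp_apply hN hsub (π.comp i) (fun y => ?_) hs hn
    obtain ⟨x, hx, rfl⟩ := (h ▸ mem_top y : y ∈ H'.map π)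
    exact ⟨⟨⟨(x : G), mem_subgroupOf.1 hx⟩, mem_subgroupOf.2 x.2⟩, rfl⟩

theorem comp_of_solvable {G : Type u} [Group G] [Group.IsSolvable G] : Comp G := by
  intro H _ N _ hs hn
  exfalso
  exact hn ⟨⟨IsSimpleGroup.comm_iff_isSolvable.2 inferInstance⟩⟩

/-- No section `S₃` and the condition on composition factors. -/
structure Tame (G : Type u) [Group G] : Prop where
  free : ¬ Cfsg.Involves (Equiv.Perm (Fin 3)) G
  comp : Comp G

theorem Tame.of_surjective {G G' : Type u} [Group G] [Group G'] (h : Tame G) (f : G →* G')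
    (hf : Function.Surjective f) : Tame G' :=
  ⟨fun hi => h.free (Cfsg.Lib.QuadPair.involves_of_surjective hf hi), comp_of_surjective f hf h.comp⟩

theorem Tame.quotient {G : Type u} [Group G] (h : Tame G) (N : Subgroup G) [N.Normal] : Tame (G ⧸ N) :=
  h.of_surjective _ (QuotientGroup.mk'_surjective N)

theorem free_subgroup {Y : Type*} [Group Y] {G : Type u} [Group G] (h : ¬ Cfsg.Involves Y G) (K : Subgroup G) :
    ¬ Cfsg.Involves Y K := fun hi => h (Cfsg.Lib.QdFree.involves_of_injective K.subtype_injective hi)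

/-- A subgroup containing a normal subgroup with solvable quotient. -/
theorem Tame.subgroup {G : Type u} [Group G] (h : Tame G) {K N : Subgroup G} [hN : N.Normal] (hNK : N ≤ K)
    (hs : Group.IsSolvable (K ⧸ N.subgroupOf K)) : Tame K := by
  refine ⟨free_subgroup h.free K, comp_ext (N.subgroupOf K) ?_ (@comp_of_solvable _ _ hs)⟩
  exact comp_of_equiv (subgroupOfEquivOfLe hNK).symm (comp_subnormal h.comp hN.isSubnormal)

theorem Tame.of_solvable {G : Type u} [Group G] (hf : ¬ Cfsg.Involves (Equiv.Perm (Fin 3)) G) (K : Subgroup G)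
    [Group.IsSolvable K] : Tame K :=
  ⟨free_subgroup hf K, comp_of_solvable⟩

end Cfsg.Lib.SThreeFree
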