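import Cfsg.Agent.SThreeFree.Normalizers
import Cfsg.Agent.SThreeFree.Dual
import Cfsg.Agent.Transfer.Basic

/-!
Auxiliary facts on actions for the centralisation of the span of a module by offending subgroups.
-/

set_option autoImplicit false
set_option linter.unusedSectionVars false
set_option linter.style.haveILetI false

namespace Cfsg.Lib.SThreeFree

open Subgroup
open Cfsg.Lib.JComp (elem_sq elem_comm elem_inv conj_mem cj)

universe u v

variable {G : Type u} [Group G] {V : Type v} [AddCommGroup V]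

/-- The pointwise stabiliser. -/
def pstab (σ : G →* AddMonoid.End V) (X : AddSubgroup V) : Subgroup G where
  carrier := {g | ∀ x ∈ X, σ g x = x}
  one_mem' := fun x _ => act_one σ x
  mul_mem' := fun {g h} hg hh x hx => by
    show σ (g * h) x = x
    rw [act_mul, hh x hx, hg x hx]
  inv_mem' := fun {g} hg x hx => by
    show σ g⁻¹ x = x
    conv_lhs => rw [← hg x hx]
    exact act_inv_apply σ g x

theorem mem_pstab {σ : G →* AddMonoid.End V} {X : AddSubgroup V} {g : G} :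
    g ∈ pstab σ X ↔ ∀ x ∈ X, σ g x = x := Iff.rfl

theorem le_fixd_iff {σ : G →* AddMonoid.End V} {X : AddSubgroup V} {A : Subgroup G} :
    X ≤ fixd σ A ↔ A ≤ pstab σ X :=
  ⟨fun h a ha _ hx => h hx a ha, fun h _ hx a ha => h ha _ hx⟩

theorem mem_ker_iff {σ : G →* AddMonoid.End V} {g : G} : g ∈ σ.ker ↔ ∀ x, σ g x = x := by
  rw [MonoidHom.mem_ker]
  exact ⟨fun h x => by rw [h]; rfl, fun h => AddMonoidHom.ext fun x => h x⟩

theorem pstab_top (σ : G →* AddMonoid.End V) : pstab σ ⊤ = σ.ker := by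
  ext g
  rw [mem_ker_iff]
  exact ⟨fun h x => h x (AddSubgroup.mem_top x), fun h x _ => h x⟩

/-- An element of odd order trivial on `X` and moving `v` into `v + X` fixes `v`. -/
theorem fix_of_stab (σ : G →* AddMonoid.End V) (h2 : ∀ x : V, x + x = 0) {g : G} (hg : Odd (orderOf g)) {v : V}
    (hfix : σ g (σ g v - v) = σ g v - v) : σ g v = v := by
  set δ := σ g v - v with hδ
  have hgv : σ g v = v + δ := by rw [hδ, add_sub_cancel]
  have hpow : ∀ i : ℕ, σ (g ^ i) v = v + i • δ := by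
    intro i
    induction i with
    | zero => rw [pow_zero, act_one, zero_smul, add_zero]
    | succ i ih =>
      rw [pow_succ', act_mul, ih, map_add, map_nsmul, hfix, hgv, succ_nsmul]
      abel
  have h0 : orderOf g • δ = 0 := by
    have := hpow (orderOf g)
    rw [pow_orderOf_eq_one, act_one] at this
    exact add_left_cancel (this.symm.trans (add_zero v).symm)
  obtain ⟨c, hc⟩ := hg
  rw [hc, add_smul, one_smul, mul_smul, two_nsmul, h2, zero_add] at h0
  rw [hgv, h0, add_zero]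

/-- `x ↦ g x - x`. -/
def dsub (σ : G →* AddMonoid.End V) (g : G) : V →+ V :=
  AddMonoidHom.mk' (fun x => σ g x - x) fun x y => by rw [map_add]; abel

/-- The span of the moves of a subgroup. -/
def moves (σ : G →* AddMonoid.End V) (L : Subgroup G) (X : AddSubgroup V) : AddSubgroup V :=
  AddSubgroup.closure {y | ∃ l ∈ L, ∃ x ∈ X, y = σ l x - x}

theorem moves_mem {σ : G →* AddMonoid.End V} {L : Subgroup G} {X : AddSubgroup V} {l : G} (hl : l ∈ L) {x : V}
    (hx : x ∈ X) : σ l x - x ∈ moves σ L X := AddSubgroup.subset_closure ⟨l, hl, x, hx, rfl⟩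

theorem moves_le {σ : G →* AddMonoid.End V} {L : Subgroup G} {X Y : AddSubgroup V}
    (h : ∀ l ∈ L, ∀ x ∈ X, σ l x - x ∈ Y) : moves σ L X ≤ Y :=
  (AddSubgroup.closure_le Y).2 (by rintro _ ⟨l, hl, x, hx, rfl⟩; exact h l hl x hx)

theorem moves_invariant (σ : G →* AddMonoid.End V) (L : Subgroup G) [L.Normal] {X : AddSubgroup V}
    (hX : ∀ g, ∀ x ∈ X, σ g x ∈ X) (g : G) : ∀ y ∈ moves σ L X, σ g y ∈ moves σ L X := by
  have : moves σ L X ≤ (moves σ L X).comap (σ g) := moves_le fun l hl x hx => by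
    show σ g (σ l x - x) ∈ moves σ L X
    have e : σ g (σ l x - x) = σ (g * l * g⁻¹) (σ g x) - σ g x := by
      rw [map_sub, ← act_mul, ← act_mul, inv_mul_cancel_right]
    rw [e]
    exact moves_mem ((inferInstance : L.Normal).conj_mem l hl g) (hX g x hx)
  exact fun y hy => this hy

theorem fix_inf_invariant (σ : G →* AddMonoid.End V) (L : Subgroup G) [L.Normal] {X : AddSubgroup V}
    (hX : ∀ g, ∀ x ∈ X, σ g x ∈ X) (g : G) : ∀ y ∈ X ⊓ fixd σ L, σ g y ∈ X ⊓ fixd σ L :=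
  fun y hy => ⟨hX g y hy.1, fixd_invariant σ (fun l hl => by
    simpa using (inferInstance : L.Normal).conj_mem l hl g⁻¹) hy.2⟩

variable [Finite G] [Finite V]

/-- A bound through an invariant subgroup. -/
theorem card_fixd_sub_le (σ : G →* AddMonoid.End V) (X : AddSubgroup V) (hX : ∀ g, ∀ x ∈ X, σ g x ∈ X)
    (A : Subgroup G) :
    Nat.card (fixd σ A) * Nat.card X ≤ Nat.card (fixd (resAct σ X hX) A) * Nat.card V := by
  refine (Nat.mul_le_mul_right _ (card_fixd_le σ X hX (le_refl A) (bot_le : ⊥ ≤ A))).trans (le_of_eq ?_)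
  rw [fixd_card_of_bot, AddSubgroup.card_eq_card_quotient_mul_card_addSubgroup X, mul_assoc]

/-- The inequality for an action, from its failure on translates of a generating subgroup. -/
theorem sq_span (σ : G →* AddMonoid.End V) {ι : Type*} (Wf : ι → AddSubgroup V)
    (hgen : (⨆ i, Wf i) = ⊤) (P : Subgroup G)
    (hsq : ∀ i, ∀ R ≤ P, (∀ r ∈ R, ∀ s ∈ R, ∀ w ∈ Wf i, σ (r * s) w = σ (s * r) w) →
      (∀ r ∈ R, ∀ w ∈ Wf i, σ (r * r) w = w) → ¬ R ≤ pstab σ (Wf i) →
      Nat.card R ^ 3 * Nat.card ↥(Wf i ⊓ fixd σ R) ^ 2 <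
        Nat.card (Wf i) ^ 2 * Nat.card ↥(R ⊓ pstab σ (Wf i)) ^ 3) :
    ∀ R ≤ P, (∀ r ∈ R, ∀ s ∈ R, ∀ x, σ (r * s) x = σ (s * r) x) → (∀ r ∈ R, ∀ x, σ (r * r) x = x) →
      ¬ R ≤ σ.ker → Nat.card R ^ 3 * Nat.card (fixd σ R) ^ 2 < Nat.card V ^ 2 * Nat.card ↥(R ⊓ σ.ker) ^ 3 := by
  suffices hmain : ∀ n, ∀ R : Subgroup G, Nat.card R = n → R ≤ P →
      (∀ r ∈ R, ∀ s ∈ R, ∀ x, σ (r * s) x = σ (s * r) x) → (∀ r ∈ R, ∀ x, σ (r * r) x = x) →
      ¬ R ≤ σ.ker → Nat.card R ^ 3 * Nat.card (fixd σ R) ^ 2 < Nat.card V ^ 2 * Nat.card ↥(R ⊓ σ.ker) ^ 3 from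
    fun R => hmain _ R rfl
  intro n
  induction n using Nat.strong_induction_on with
  | _ n ih =>
    intro R hn hRP hc hs hne
    obtain ⟨i, hi⟩ : ∃ i, ¬ R ≤ pstab σ (Wf i) := by
      by_contra hall
      push Not at hall
      refine hne fun r hr => mem_ker_iff.2 fun x => ?_
      have hle : (⊤ : AddSubgroup V) ≤ fixd σ R := hgen ▸ iSup_le fun i => le_fixd_iff.2 (hall i)
      exact hle (AddSubgroup.mem_top x) r hr
    set R1 := R ⊓ pstab σ (Wf i)
    have h1 := hsq i R hRP (fun r hr s hs' w _ => hc r hr s hs' w) (fun r hr w _ => hs r hr w) hi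
    have hK : R1 ⊓ σ.ker = R ⊓ σ.ker := by
      refine le_antisymm (inf_le_inf_right _ inf_le_left) (le_inf (le_inf inf_le_left ?_) inf_le_right)
      exact inf_le_right.trans fun g hg x _ => mem_ker_iff.1 hg x
    have h2 : Nat.card R1 ^ 3 * Nat.card (fixd σ R1) ^ 2 ≤ Nat.card V ^ 2 * Nat.card ↥(R ⊓ σ.ker) ^ 3 := by
      by_cases hle : R1 ≤ σ.ker
      · rw [← hK, inf_eq_left.2 hle, mul_comm]
        exact Nat.mul_le_mul_right _ (Nat.pow_le_pow_left (Nat.le_of_dvd Nat.card_pos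
          (AddSubgroup.card_addSubgroup_dvd_card _)) 2)
      · rw [← hK]
        refine (ih _ (hn ▸ lt_of_le_of_ne (card_le_of_le inf_le_left) fun e => hi ?_) R1 rfl
          (inf_le_left.trans hRP) (fun r hr s hs' => hc r hr.1 s hs'.1) (fun r hr => hs r hr.1) hle).le
        exact (eq_of_le_of_card_ge inf_le_left e.ge).ge.trans inf_le_right
    have hfix : Nat.card (fixd σ R) * Nat.card (Wf i) ≤
        Nat.card (fixd σ R1) * Nat.card ↥(Wf i ⊓ fixd σ R) := by
      let f : (fixd σ R) × (Wf i) → fixd σ R1 := fun z => ⟨z.1.1 + z.2.1, AddSubgroup.add_mem _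
        (fixd_mono σ inf_le_left z.1.2) (le_fixd_iff.2 inf_le_right z.2.2)⟩
      have hf : ∀ y, Nat.card {z // f z = y} ≤ Nat.card ↥(Wf i ⊓ fixd σ R) := by
        intro y
        by_cases he : ∃ z, f z = y
        · obtain ⟨z0, hz0⟩ := he
          have hval : ∀ z : {z // f z = y}, (z.1.1 : V) + z.1.2 = z0.1 + z0.2 := fun z =>
            congrArg Subtype.val (z.2.trans hz0.symm)
          refine Nat.card_le_card_of_injective (fun z => (⟨(z.1.2 : V) - z0.2,
            AddSubgroup.mem_inf.2 ⟨AddSubgroup.sub_mem _ z.1.2.2 z0.2.2, ?_⟩⟩ : ↥(Wf i ⊓ fixd σ R))) ?_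
          · rw [show (z.1.2 : V) - z0.2 = z0.1 - z.1.1 by
              rw [sub_eq_sub_iff_add_eq_add, add_comm, hval z]]
            exact AddSubgroup.sub_mem _ z0.1.2 z.1.1.2
          · intro z z' e
            have e2 : (z.1.2 : V) = z'.1.2 := sub_left_inj.1 (congrArg Subtype.val e)
            have e1 : (z.1.1 : V) = z'.1.1 := add_right_cancel (((hval z).trans (hval z').symm).trans (by rw [e2]))
            exact Subtype.ext (Prod.ext (Subtype.ext e1) (Subtype.ext e2))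
        · haveI : IsEmpty {z // f z = y} := ⟨fun z => he ⟨z.1, z.2⟩⟩
          rw [Nat.card_of_isEmpty]
          exact Nat.zero_le _
      rw [← Nat.card_prod]
      classical
      letI := Fintype.ofFinite (fixd σ R1)
      rw [← Nat.card_congr (Equiv.sigmaFiberEquiv f), Nat.card_sigma]
      refine (Finset.sum_le_card_nsmul _ _ _ fun y _ => hf y).trans (le_of_eq ?_)
      rw [Finset.card_univ, Fintype.card_eq_nat_card, smul_eq_mul]
    have hpos : 0 < Nat.card (Wf i) ^ 2 := pow_pos Nat.card_pos 2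
    refine Nat.lt_of_mul_lt_mul_right (a := Nat.card (Wf i) ^ 2) ?_
    have hpos2 : 0 < Nat.card (fixd σ R1) ^ 2 := pow_pos Nat.card_pos 2
    calc Nat.card R ^ 3 * Nat.card (fixd σ R) ^ 2 * Nat.card (Wf i) ^ 2
        = Nat.card R ^ 3 * (Nat.card (fixd σ R) * Nat.card (Wf i)) ^ 2 := by ring
      _ ≤ Nat.card R ^ 3 * (Nat.card (fixd σ R1) * Nat.card ↥(Wf i ⊓ fixd σ R)) ^ 2 :=
          Nat.mul_le_mul_left _ (Nat.pow_le_pow_left hfix 2)
      _ = (Nat.card R ^ 3 * Nat.card ↥(Wf i ⊓ fixd σ R) ^ 2) * Nat.card (fixd σ R1) ^ 2 := by ring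
      _ < (Nat.card (Wf i) ^ 2 * Nat.card R1 ^ 3) * Nat.card (fixd σ R1) ^ 2 :=
          Nat.mul_lt_mul_of_pos_right h1 hpos2
      _ = Nat.card (Wf i) ^ 2 * (Nat.card R1 ^ 3 * Nat.card (fixd σ R1) ^ 2) := by ring
      _ ≤ Nat.card (Wf i) ^ 2 * (Nat.card V ^ 2 * Nat.card ↥(R ⊓ σ.ker) ^ 3) := Nat.mul_le_mul_left _ h2
      _ = _ := by ring

/-- The squared bounds through a quotient acting faithfully. -/
theorem bd_of_quotient (τ : G →* AddMonoid.End V) (h2 : ∀ x : V, x + x = 0) (hT : Tame (G ⧸ τ.ker))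
    {B : Subgroup G} (hB : Cfsg.IsElementaryAbelian 2 B)
    (hcore : ∀ b ∈ B, QuotientGroup.mk' τ.ker b ∈ Cfsg.pCore 2 (G ⧸ τ.ker) → b = 1) :
    Nat.card B ^ 2 * Nat.card (fixd τ B) ≤ Nat.card V ∧ Nat.card B ^ 2 ≤ Nat.card (commd τ B) := by
  have hyp : Hyp (QuotientGroup.lift τ.ker τ le_rfl) (B.map (QuotientGroup.mk' τ.ker)) := by
    refine ⟨lift_injective τ, hT, elem_map _ hB, ?_, h2⟩
    rw [Subgroup.eq_bot_iff_forall]
    rintro _ ⟨⟨b, hb, rfl⟩, hbc⟩
    rw [hcore b hb hbc, map_one]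
  have hcard : Nat.card (B.map (QuotientGroup.mk' τ.ker)) = Nat.card B := by
    refine card_map_mk _ ((Subgroup.eq_bot_iff_forall _).2 fun b hb => hcore b hb.1 ?_)
    rw [show QuotientGroup.mk' τ.ker b = 1 from (QuotientGroup.eq_one_iff b).2 hb.2]
    exact one_mem _
  have e : commd (QuotientGroup.lift τ.ker τ le_rfl) (B.map (QuotientGroup.mk' τ.ker)) = commd τ B := by
    refine le_antisymm ((AddSubgroup.closure_le _).2 ?_) ((AddSubgroup.closure_le _).2 ?_)
    · rintro _ ⟨_, ⟨b, hb, rfl⟩, x, rfl⟩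
      exact AddSubgroup.subset_closure ⟨b, hb, x, rfl⟩
    · rintro _ ⟨b, hb, x, rfl⟩
      exact AddSubgroup.subset_closure ⟨_, mem_map_of_mem _ hb, x, rfl⟩
  have hb := bd_all hyp
  unfold Bd at hb
  rw [fixd_map τ τ.ker le_rfl, hcard] at hb
  have hc := bd_commd hyp
  rw [e, hcard] at hc
  exact ⟨hb, hc⟩

end Cfsg.Lib.SThreeFree
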