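import Cfsg.Agent.SThreeFree.Squared

/-!
The orbit of a component under the elementary abelian subgroup, and the squared bound.
-/

set_option autoImplicit false
set_option linter.unusedSectionVars false
set_option linter.style.haveILetI false

namespace Cfsg.Lib.SThreeFree

open Subgroup
open scoped commutatorElement
open Cfsg.Lib.JComp (cj_eq_self isPGroup_pCoreOf conj_mem cj le_normalizer_of_conj elem_sq elem_comm elem_inv)

universe u v

variable {G : Type u} [Group G] [Finite G]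

theorem centralizer_normal (K : Subgroup G) [K.Normal] : (centralizer (K : Set G)).Normal :=
  normalizer_eq_top_iff.1 (top_le_iff.1
    ((normalizer_eq_top (H := K)).ge.trans (Cfsg.Lib.Thompson.normalizer_le_normalizer_centralizer K)))

/-- A non-trivial perfect subgroup is not solvable. -/
theorem not_solvable_of_perfect {X : Subgroup G} (hX : ⁅X, X⁆ = X) (hne : X ≠ ⊥) : ¬ Group.IsSolvable X := by
  intro h
  haveI : Nontrivial X := (Subgroup.nontrivial_iff_ne_bot X).2 hne
  have hlt := Group.IsSolvable.commutator_lt_top_of_nontrivial (G := X)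
  refine hlt.ne (Subgroup.map_injective X.subtype_injective ?_)
  rw [map_subtype_commutator, hX, ← MonoidHom.range_eq_map, range_subtype]

theorem solvable_of_two {X : Subgroup G} (h : IsPGroup 2 X) : Group.IsSolvable X := by
  haveI : Fact (Nat.Prime 2) := ⟨Nat.prime_two⟩
  haveI := h.isNilpotent
  infer_instance

theorem solvable_of_hom {X Y : Type*} [Group X] [Group Y] [Group.IsSolvable Y] (f : X →* Y)
    (h : ∀ a b, f a = 1 → f b = 1 → a * b = b * a) : Group.IsSolvable X :=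
  (Group.isSolvable_iff_subgroup_quotient f.ker).2
    ⟨Group.isSolvable_of_comm fun a b => Subtype.ext (h a b (MonoidHom.mem_ker.1 a.2) (MonoidHom.mem_ker.1 b.2)),
      Group.isSolvable_of_isSolvable_injective (f := QuotientGroup.kerLift f) (QuotientGroup.kerLift_injective f)⟩

/-- A perfect subgroup that is not central has a non-central element of odd order. -/
theorem exists_odd_noncentral {X : Subgroup G} (hX : ⁅X, X⁆ = X) (hne : ¬ X ≤ Subgroup.center G) :
    ∃ x ∈ X, Odd (orderOf x) ∧ x ∉ Subgroup.center G := by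
  by_contra hall
  push Not at hall
  have hne' : X ≠ ⊥ := fun e => hne (e ▸ bot_le)
  refine not_solvable_of_perfect hX hne' ?_
  set Z := Subgroup.center G
  have h2 : IsPGroup 2 (X.map (QuotientGroup.mk' Z)) := by
    rintro ⟨q, x, hx, rfl⟩
    obtain ⟨s, hs⟩ := Cfsg.Lib.JComp.exists_odd_pow x
    refine ⟨s, Subtype.ext ?_⟩
    show QuotientGroup.mk' Z x ^ 2 ^ s = 1
    rw [← map_pow]
    exact (QuotientGroup.eq_one_iff _).2 (hall _ (pow_mem hx _) hs)
  haveI := solvable_of_two h2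
  set f := (QuotientGroup.mk' Z).subgroupMap X
  refine (Group.isSolvable_iff_subgroup_quotient f.ker).2 ⟨Group.isSolvable_of_comm fun a b => ?_, ?_⟩
  · refine Subtype.ext (Subtype.ext ?_)
    show ((a : X) : G) * (b : X) = ((b : X) : G) * (a : X)
    exact (Subgroup.mem_center_iff.1 ((QuotientGroup.eq_one_iff _).1
      (congrArg Subtype.val (MonoidHom.mem_ker.1 a.2))) _).symm
  · exact Group.isSolvable_of_isSolvable_injective (f := QuotientGroup.kerLift f) (QuotientGroup.kerLift_injective f)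

/-- A subgroup generated by commuting elements of odd order has odd order. -/
theorem odd_closure {s : Set G} (hs : ∀ x ∈ s, Odd (orderOf x)) (hc : ∀ x ∈ s, ∀ y ∈ s, x * y = y * x) :
    Odd (Nat.card (closure s)) := by
  haveI : Fact (Nat.Prime 2) := ⟨Nat.prime_two⟩
  have key : ∀ x ∈ closure s, Odd (orderOf x) := by
    intro x hx
    induction hx using Subgroup.closure_induction with
    | mem x hx => exact hs x hx
    | one => rw [orderOf_one]; exact odd_one
    | mul x y hx hy ihx ihy =>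
      have hcm : Commute x y := by
        have := (Subgroup.isMulCommutative_closure hc).is_comm.comm ⟨x, hx⟩ ⟨y, hy⟩
        exact congrArg Subtype.val this
      exact Odd.of_dvd_nat (ihx.mul ihy) (hcm.orderOf_mul_dvd_mul_orderOf)
    | inv x _ ih => rwa [orderOf_inv]
  refine Nat.not_even_iff_odd.1 fun h => ?_
  obtain ⟨z, hz⟩ := exists_prime_orderOf_dvd_card' 2 (even_iff_two_dvd.1 h)
  have h2 := key z z.2
  rw [orderOf_coe, hz] at h2
  exact Nat.not_odd_iff_even.2 even_two h2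

variable {A : Subgroup G}

/-- No element of `A` fixes the component. -/
theorem Red.regular_case (C : Red A) (hns : ¬ Group.IsSolvable G) (L : Subgroup G)
    (hperf : ⁅L, L⁆ = L) (hnc : ¬ L ≤ Subgroup.center G)
    (hreg : ∀ a ∈ A, a ∈ normalizer (L : Set G) → a = 1)
    (hcomm : ∀ a ∈ A, a ∉ normalizer (L : Set G) → ∀ x ∈ L, ∀ y ∈ L, Commute x (a * y * a⁻¹))
    (hcent : ∀ x ∈ L, x ∈ centralizer (L : Set G) → x ∈ Subgroup.center G) : False := by
  classical
  obtain ⟨x, hx, hxo, hxc⟩ := exists_odd_noncentral hperf hnc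
  set s : Set G := {y | ∃ a ∈ A, y = a * x * a⁻¹}
  set O := closure s with hO
  have hsc : ∀ y ∈ s, ∀ z ∈ s, y * z = z * y := by
    rintro _ ⟨a, ha, rfl⟩ _ ⟨b, hb', rfl⟩
    by_cases e : a = b
    · rw [e]
    have hn : a⁻¹ * b ∉ normalizer (L : Set G) := fun h =>
      e (inv_mul_eq_one.1 (hreg _ (mul_mem (inv_mem ha) hb') h))
    have h : Commute (a * x * a⁻¹) (a * (a⁻¹ * b * x * (a⁻¹ * b)⁻¹) * a⁻¹) :=
      Commute.map (hcomm _ (mul_mem (inv_mem ha) hb') hn x hx x hx) (MulAut.conj a).toMonoidHom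
    rw [show a * (a⁻¹ * b * x * (a⁻¹ * b)⁻¹) * a⁻¹ = b * x * b⁻¹ by group] at h
    exact h
  have hodd : Odd (Nat.card O) := odd_closure (by
    rintro _ ⟨a, -, rfl⟩
    rwa [← MulAut.conj_apply, MulEquiv.orderOf_eq]) hsc
  have hAO : A ≤ normalizer (O : Set G) := le_normalizer_of_conj (by
    intro b hb' y hy
    induction hy using Subgroup.closure_induction with
    | mem y hy =>
      obtain ⟨a, ha, rfl⟩ := hy
      exact subset_closure ⟨b * a, mul_mem hb' ha, by group⟩
    | one => simp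
    | mul y z _ _ ihy ihz => rw [← conj_mul]; exact mul_mem ihy ihz
    | inv y _ ih => rw [← conj_inv]; exact inv_mem ih)
  haveI hsol : Group.IsSolvable ↥(A ⊔ O) := sup_comm O A ▸ Cfsg.Lib.Signalizer.isSolvable_sup hAO
    (Group.isSolvable_of_comm fun p q => (Subgroup.isMulCommutative_closure hsc).is_comm.comm p q)
    (Group.isSolvable_of_comm fun p q => Subtype.ext (elem_comm C.elem p.2 q.2))
  refine C.proper (H := A ⊔ O) le_sup_left (fun e => hns ?_) (Tame.of_solvable C.tame.free _) (fun a ha hc => ?_)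
    ⟨O, rfl, hAO, odd_inf_pCoreOf hodd⟩
  · rw [e] at hsol
    exact Group.isSolvable_of_isSolvable_injective (f := (Subgroup.topEquiv (G := G)).symm.toMonoidHom)
      (MulEquiv.injective _)
  · by_contra ha1
    have hcx := key_of_odd (le_sup_right : O ≤ A ⊔ O) hodd (mem_sup_left ha) (hAO ha) hc
      (subset_closure ⟨1, one_mem _, by group⟩ : x ∈ O)
    refine hxc (hcent x hx (mem_centralizer_iff.2 fun y hy => ?_))
    have h := hcomm a ha (fun h => ha1 (hreg a ha h)) y hy x hx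
    rw [hcx, mul_inv_cancel_right] at h
    exact h

theorem tame_sup (hT : Tame G) (hA : Cfsg.IsElementaryAbelian 2 A) {X : Subgroup G} (hX : Comp X)
    (hAX : A ≤ normalizer (X : Set G)) : Tame ↥(A ⊔ X) := by
  set H := A ⊔ X with hH
  have hn : H ≤ normalizer (X : Set G) := sup_le hAX le_normalizer
  haveI : (X.subgroupOf H).Normal := (normal_subgroupOf_iff_le_normalizer le_sup_right).2 hn
  refine ⟨free_subgroup hT.free H, comp_ext (X.subgroupOf H)
    (comp_of_equiv (subgroupOfEquivOfLe le_sup_right).symm hX) ?_⟩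
  haveI : Group.IsSolvable (H ⧸ X.subgroupOf H) := by
    set f := (QuotientGroup.mk' (X.subgroupOf H)).comp (inclusion (le_sup_left : A ≤ H))
    refine Group.isSolvable_of_comm fun p q => ?_
    have hsurj : ∀ z : H ⧸ X.subgroupOf H, ∃ a : A, f a = z := by
      intro z
      obtain ⟨⟨w, hw⟩, rfl⟩ := QuotientGroup.mk'_surjective _ z
      obtain ⟨a, ha, y, hy, rfl⟩ : ∃ a ∈ A, ∃ y ∈ X, w = a * y := by
        have h := Subgroup.coe_mul_of_left_le_normalizer_right A X hAX
        have hw' : w ∈ ((A ⊔ X : Subgroup G) : Set G) := hw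
        rw [h] at hw'
        obtain ⟨a, ha, y, hy, rfl⟩ := Set.mem_mul.1 hw'
        exact ⟨a, ha, y, hy, rfl⟩
      refine ⟨⟨a, ha⟩, QuotientGroup.eq.2 (mem_subgroupOf.2 ?_)⟩
      show a⁻¹ * (a * y) ∈ X
      rwa [inv_mul_cancel_left]
    obtain ⟨a, rfl⟩ := hsurj p
    obtain ⟨b, rfl⟩ := hsurj q
    rw [← map_mul, ← map_mul]
    exact congrArg _ (Subtype.ext (elem_comm hA a.2 b.2))
  exact comp_of_solvable

/-- A proper non-trivial part of `A` fixes the component. -/
theorem Red.split_case (C : Red A) (hZodd : Odd (Nat.card (Subgroup.center G))) (L : Subgroup G) (hsub : L.IsSubnormal)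
    (hperf : ⁅L, L⁆ = L)
    (h0 : A ⊓ normalizer (L : Set G) ≠ ⊥) (h1 : ¬ A ≤ normalizer (L : Set G))
    (hcomm : ∀ a ∈ A, a ∉ normalizer (L : Set G) → ∀ x ∈ L, ∀ y ∈ L, Commute x (a * y * a⁻¹))
    (hcent : ∀ x ∈ L, x ∈ centralizer (L : Set G) → x ∈ Subgroup.center G)
    (hsolv : ∀ P : Subgroup G, P ≤ L → L ≤ normalizer (P : Set G) → Group.IsSolvable P → P ≤ Subgroup.center G)
    (hfaith : ∀ g ∈ A, (∀ a ∈ A, ∀ l ∈ L, Commute g (a * l * a⁻¹)) → g = 1) : False := by
  classical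
  haveI : Fact (Nat.Prime 2) := ⟨Nat.prime_two⟩
  set A0 := A ⊓ normalizer (L : Set G)
  obtain ⟨B, hBA, hB0, hdec, -⟩ := exists_complement C.elem (inf_le_left : A0 ≤ A)
  letI : Fintype B := Fintype.ofFinite B
  let ϕ : B → (L →* G) := fun b => (MulAut.conj (b : G)).toMonoidHom.comp L.subtype
  have hϕ : ∀ (b : B) (l : L), ϕ b l = (b : G) * l * (b : G)⁻¹ := fun b l => rfl
  have hnB : ∀ i j : B, i ≠ j → (i : G)⁻¹ * j ∉ normalizer (L : Set G) := by
    intro i j hij h
    have h' : (i : G)⁻¹ * j ∈ B ⊓ A0 :=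
      mem_inf.2 ⟨mul_mem (inv_mem i.2) j.2, mem_inf.2 ⟨mul_mem (inv_mem (hBA i.2)) (hBA j.2), h⟩⟩
    rw [hB0, mem_bot] at h'
    exact hij (Subtype.ext (inv_mul_eq_one.1 h'))
  have hc : Pairwise fun i j : B => ∀ x y, Commute (ϕ i x) (ϕ j y) := by
    intro i j hij x y
    have h : Commute ((i : G) * x * (i : G)⁻¹) ((i : G) * ((i : G)⁻¹ * j * y * ((i : G)⁻¹ * j)⁻¹) * (i : G)⁻¹) :=
      Commute.map (hcomm _ (mul_mem (inv_mem (hBA i.2)) (hBA j.2)) (hnB i j hij) x x.2 y y.2)
        (MulAut.conj (i : G)).toMonoidHom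
    rw [hϕ, hϕ, show (j : G) * y * (j : G)⁻¹ =
      (i : G) * ((i : G)⁻¹ * j * y * ((i : G)⁻¹ * j)⁻¹) * (i : G)⁻¹ by group]
    exact h
  set π := MonoidHom.noncommPiCoprod ϕ hc with hπ
  set diag : L →* G := π.comp (MonoidHom.pi fun _ => MonoidHom.id L) with hdiag
  have hd : ∀ l, diag l = π fun _ => l := fun l => rfl
  have hequiv : ∀ (g : G) (σ : B ≃ B) (τ : L →* L), (∀ b l, g * ϕ b l * g⁻¹ = ϕ (σ b) (τ l)) →
      ∀ l, g * diag l * g⁻¹ = diag (τ l) := by
    intro g σ τ h l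
    let R : (B → L) →* (B → L) := MonoidHom.pi fun b => τ.comp (Pi.evalMonoidHom (fun _ : B => ↥L) (σ.symm b))
    have hloc : (fun _ : B => l) ∈ ((MulAut.conj g).toMonoidHom.comp π).eqLocus (π.comp R) := by
      refine Subgroup.pi_mem_of_mulSingle_mem _ fun i => ?_
      show g * π (Pi.mulSingle i l) * g⁻¹ = π (R (Pi.mulSingle i l))
      have hR : R (Pi.mulSingle i l) = Pi.mulSingle (σ i) (τ l) := by
        funext b
        show τ ((Pi.mulSingle i l : B → L) (σ.symm b)) = _
        by_cases e : b = σ i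
        · subst e; rw [Equiv.symm_apply_apply, Pi.mulSingle_eq_same, Pi.mulSingle_eq_same]
        · rw [Pi.mulSingle_eq_of_ne e, Pi.mulSingle_eq_of_ne (fun h' => e (by rw [← h', Equiv.apply_symm_apply])),
            map_one]
      rw [hR, hπ, MonoidHom.noncommPiCoprod_mulSingle, MonoidHom.noncommPiCoprod_mulSingle, h]
    exact hloc
  have hBd : ∀ b ∈ B, ∀ l, b * diag l = diag l * b := fun b hb' l => by
    have h : b * diag l * b⁻¹ = diag (MonoidHom.id L l) := hequiv b (Equiv.mulLeft ⟨b, hb'⟩) (MonoidHom.id L)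
      (fun i m => by rw [hϕ, hϕ]; show _ = b * (i : G) * (m : G) * (b * (i : G))⁻¹; group) l
    exact mul_inv_eq_iff_eq_mul.1 h
  have hA0d : ∀ c, c ∈ A0 → ∀ l : L, ∃ l' : L, (l' : G) = c * l * c⁻¹ ∧ c * diag l * c⁻¹ = diag l' := by
    intro c hc' l
    let τ : L →* L := ((MulAut.conj c).toMonoidHom.comp L.subtype).codRestrict L fun m => conj_mem hc'.2 m.2
    refine ⟨τ l, rfl, hequiv c (Equiv.refl B) τ (fun i m => ?_) l⟩
    have e : c * (i : G) = i * c := elem_comm C.elem hc'.1 (hBA i.2)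
    rw [hϕ, hϕ]
    show c * ((i : G) * m * (i : G)⁻¹) * c⁻¹ = (i : G) * (c * m * c⁻¹) * (i : G)⁻¹
    rw [show c * ((i : G) * m * (i : G)⁻¹) * c⁻¹ = (c * i) * m * (c * i)⁻¹ by group, e]
    group
  clear_value diag π
  set X := diag.range with hX
  have hAX : A ≤ normalizer (X : Set G) := le_normalizer_of_conj (by
    rintro a ha _ ⟨l, rfl⟩
    obtain ⟨c, hc', b, hb', rfl⟩ := hdec a ha
    obtain ⟨l', -, hl'⟩ := hA0d c hc' l
    refine ⟨l', ?_⟩
    rw [← hl', show c * b * diag l * (c * b)⁻¹ = c * (b * diag l * b⁻¹) * c⁻¹ by group, hBd b hb' l,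
      mul_inv_cancel_right])
  have hT : Tame ↥(A ⊔ X) := tame_sup C.tame C.elem
    (comp_of_surjective diag.rangeRestrict diag.rangeRestrict_surjective (comp_subnormal C.tame.comp hsub)) hAX
  have hBH : A ⊔ X ≤ centralizer (B : Set G) := sup_le
    (le_centralizer_iff.1 fun b hb' => mem_centralizer_iff.2 fun a ha => elem_comm C.elem ha (hBA hb'))
    (by rintro _ ⟨l, rfl⟩; exact mem_centralizer_iff.2 fun b hb' => hBd b hb' l)
  set H := A ⊔ X with hH
  set Q := Cfsg.pCoreOf 2 H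
  have hnQ : ∀ l : L, diag l ∈ normalizer (Q : Set G) := fun l =>
    Cfsg.Lib.Stellmacher.le_normalizer_core H (mem_sup_right ⟨l, rfl⟩)
  set P := Q.comap diag with hP
  haveI : P.Normal := ⟨fun m hm l => by
    rw [hP, mem_comap, map_mul, map_mul, map_inv]
    exact conj_mem (hnQ l) (mem_comap.1 hm)⟩
  have hker : ∀ l : L, diag l = 1 → (l : G) ∈ Subgroup.center G := by
    intro l hl
    refine hcent l l.2 ?_
    let one : B := ⟨1, one_mem _⟩
    set f : B → L := (Pi.mulSingle one l)⁻¹ * fun _ => l with hf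
    have hg : f ∈ (centralizer (L : Set G)).comap π := by
      refine Subgroup.pi_mem_of_mulSingle_mem _ fun i => mem_comap.2 ?_
      rw [hπ, MonoidHom.noncommPiCoprod_mulSingle]
      by_cases e : i = one
      · rw [hf, e, Pi.mul_apply, Pi.inv_apply, Pi.mulSingle_eq_same, inv_mul_cancel, map_one]
        exact one_mem _
      · refine mem_centralizer_iff.2 fun y hy => ?_
        refine (hcomm _ (hBA i.2) (fun h => hnB one i (Ne.symm e) ?_) y hy _ (f i).2).eq
        simpa [one] using h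
    have e1 : (l : G) * π f = 1 := by
      have : π (Pi.mulSingle one l) = (l : G) := by
        rw [hπ, MonoidHom.noncommPiCoprod_mulSingle, hϕ]; simp [one]
      rw [← this, ← map_mul, hf, mul_inv_cancel_left, ← hd, hl]
    rw [eq_inv_of_mul_eq_one_left e1]
    exact inv_mem hg
  have hPs : Group.IsSolvable P := by
    haveI : Group.IsSolvable Q := solvable_of_two (isPGroup_pCoreOf H)
    refine solvable_of_hom ((diag.comp P.subtype).codRestrict Q fun p => mem_comap.1 p.2) fun p q hp _ => ?_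
    refine Subtype.ext (Subtype.ext ?_)
    exact (Subgroup.mem_center_iff.1 (hker _ (congrArg (fun z : Q => (z : G)) hp)) _).symm
  have hPc : P.map L.subtype ≤ Subgroup.center G := by
    refine hsolv _ (map_subtype_le _) (le_normalizer_of_conj ?_) ?_
    · rintro l hl _ ⟨p, hp, rfl⟩
      exact ⟨⟨l, hl⟩ * p * ⟨l, hl⟩⁻¹, (inferInstance : P.Normal).conj_mem p hp _, rfl⟩
    · exact Group.isSolvable_of_isSolvable_injective
        (f := (P.equivMapOfInjective L.subtype L.subtype_injective).symm.toMonoidHom) (MulEquiv.injective _)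
  have hXQ : X ⊓ Q = ⊥ := by
    rw [Subgroup.eq_bot_iff_forall]
    rintro _ ⟨⟨l, rfl⟩, hl⟩
    have hlz : (l : G) ∈ Subgroup.center G := hPc (mem_map_of_mem L.subtype (mem_comap.2 hl))
    refine Cfsg.Lib.JComp.eq_one_of_odd (isPGroup_pCoreOf H) hl (Odd.of_dvd_nat ?_ (orderOf_map_dvd diag l))
    rw [← orderOf_coe]
    exact Odd.of_dvd_nat hZodd (Subgroup.orderOf_dvd_natCard _ hlz)
  refine C.split hBA (fun e => h1 fun a ha => ?_) (fun e => h0 ?_) le_sup_left hBH hT (fun a ha hac => ?_)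
    ⟨X, rfl, hAX, hXQ⟩
  · obtain ⟨c, hc', b, hb', rfl⟩ := hdec a ha
    rw [e, mem_bot] at hb'
    rw [hb', mul_one]
    exact hc'.2
  · rw [← le_bot_iff, ← hB0]
    exact le_inf (inf_le_left.trans e.ge) le_rfl
  obtain ⟨c, hc', b, hb', rfl⟩ := hdec a ha
  have hbQ : b ∈ Q := by
    haveI : (B.subgroupOf H).Normal := ⟨fun x hx h => mem_subgroupOf.2 (by
      show (h : G) * (x : G) * (h : G)⁻¹ ∈ B
      rw [← mem_centralizer_iff.1 (hBH h.2) x (mem_subgroupOf.1 hx), mul_inv_cancel_right]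
      exact mem_subgroupOf.1 hx)⟩
    exact mem_map.2 ⟨⟨b, mem_sup_left (hBA hb')⟩, Cfsg.Lib.Components.le_pCore
      (Cfsg.Lib.JComp.elem_isPGroup (elem_subgroupOf (elem_le C.elem hBA))) (mem_subgroupOf.2 hb'), rfl⟩
  have hcQ : c ∈ Q := by
    have h : c * b ∈ Q := mem_map.2 ⟨_, hac, rfl⟩
    simpa using mul_mem h (inv_mem hbQ)
  have hz : ∀ l ∈ L, ⁅c, l⁆ ∈ Subgroup.center G := by
    intro l hl
    obtain ⟨l', hl', hdl⟩ := hA0d c hc' ⟨l, hl⟩
    have hm : l' * (⟨l, hl⟩ : L)⁻¹ ∈ P := by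
      rw [hP, mem_comap, map_mul, map_inv, ← hdl, mul_assoc, mul_assoc, ← mul_assoc (diag ⟨l, hl⟩) c⁻¹]
      exact mul_mem hcQ (conj_mem (hnQ _) (inv_mem hcQ))
    have := hPc (mem_map_of_mem L.subtype hm)
    rw [commutatorElement_def]
    simpa [hl'] using this
  have hcl := commute_of_perfect hperf hz
  have hc1 : c = 1 := hfaith c hc'.1 fun a' ha' l hl => by
    have h : Commute c a' := elem_comm C.elem hc'.1 ha'
    exact (h.mul_right (show Commute c l from hcl l hl)).mul_right h.inv_right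
  rw [hc1, one_mul]
  exact hb'

/-- There is no minimal failure. -/
theorem Red.false (C : Red A) : False := by
  classical
  haveI : Fact (Nat.Prime 2) := ⟨Nat.prime_two⟩
  have hcore := C.hcore
  have hA3 := C.big
  have hns : ¬ Group.IsSolvable G := fun h => haveI := h; C.solvable_case
  have hZodd : Odd (Nat.card (Subgroup.center G)) := by
    refine Nat.not_even_iff_odd.1 fun h => ?_
    obtain ⟨z, hz⟩ := exists_prime_orderOf_dvd_card' 2 (even_iff_two_dvd.1 h)
    haveI : (zpowers (z : G)).Normal := ⟨fun x hx g => by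
      rwa [Subgroup.mem_center_iff.1 (zpowers_le.2 z.2 hx) g, mul_inv_cancel_right]⟩
    have hle : zpowers (z : G) ≤ Cfsg.pCore 2 G := Cfsg.Lib.Components.le_pCore
      (IsPGroup.of_card (n := 1) (by rw [Nat.card_zpowers, orderOf_coe, hz, pow_one]))
    rw [hcore, le_bot_iff, zpowers_eq_bot] at hle
    rw [← orderOf_coe, hle, orderOf_one] at hz
    omega
  have hAne : A ≠ ⊥ := fun e => by rw [e, Subgroup.card_bot] at hA3; omega
  have hgen : normalClosure (A : Set G) = ⊤ := by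
    set M := normalClosure (A : Set G)
    by_cases hM : A ≤ centralizer (M : Set G)
    · exfalso
      haveI := centralizer_normal M
      have hMM : M ≤ centralizer (M : Set G) := normalClosure_le_normal hM
      have hM2 : IsPGroup 2 M := Cfsg.Lib.JComp.elem_isPGroup (Cfsg.Lib.JComp.elem_of_sq fun x hx => by
        refine (Subgroup.closure_induction (p := fun y _ => y ∈ M ∧ y * y = 1) (fun y hy => ?_)
          ⟨one_mem _, one_mul 1⟩ (fun y z _ _ hy hz => ⟨mul_mem hy.1 hz.1, ?_⟩)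
          (fun y _ hy => ⟨inv_mem hy.1, ?_⟩) hx).2
        · obtain ⟨b, hb', hbc⟩ := Group.mem_conjugatesOfSet_iff.1 hy
          refine ⟨subset_closure hy, ?_⟩
          obtain ⟨c, rfl⟩ := isConj_iff.1 hbc
          rw [conj_mul, elem_sq C.elem hb', mul_one, mul_inv_cancel]
        · have hyz := mem_centralizer_iff.1 (hMM hz.1) y hy.1
          rw [show y * z * (y * z) = y * (z * y) * z by group, ← hyz,
            show y * (y * z) * z = y * y * (z * z) by group, hy.2, hz.2, one_mul]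
        · rw [← mul_inv_rev, hy.2, inv_one])
      have hle : A ≤ Cfsg.pCore 2 G := le_normalClosure.trans (Cfsg.Lib.Components.le_pCore hM2)
      rw [hcore] at hle
      exact hAne (le_bot_iff.1 hle)
    · have h := (C.normal_step M hM).1
      rwa [sup_eq_right.2 le_normalClosure] at h
  have hcz : ∀ N : Subgroup G, N.Normal → A ≤ centralizer (N : Set G) → N ≤ Subgroup.center G := by
    intro N hN hAN
    haveI := centralizer_normal N
    have hle := hgen.ge.trans (normalClosure_le_normal hAN)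
    exact fun n hn => Subgroup.mem_center_iff.2 fun g => (mem_centralizer_iff.1 (hle (mem_top g)) n hn).symm
  obtain ⟨K, ⟨hKn, hKA⟩, hKmin⟩ : ∃ K : Subgroup G, (K.Normal ∧ ¬ A ≤ centralizer (K : Set G)) ∧
      ∀ N : Subgroup G, N.Normal ∧ ¬ A ≤ centralizer (N : Set G) → N ≤ K → N = K := by
    obtain ⟨K, hK, hmin⟩ := Set.exists_min_image {N : Subgroup G | N.Normal ∧ ¬ A ≤ centralizer (N : Set G)}
      (fun N => Nat.card N) (Set.toFinite _) ⟨⊤, inferInstance, fun h => hAne (le_bot_iff.1 (hcore ▸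
        Cfsg.Lib.Components.le_pCore (hn := ⟨fun a ha g => by
          rwa [mem_centralizer_iff.1 (h ha) g (mem_top g), mul_inv_cancel_right]⟩)
          (Cfsg.Lib.JComp.elem_isPGroup C.elem)))⟩
    exact ⟨K, hK, fun N hN hle => eq_of_le_of_card_ge hle (hmin N hN)⟩
  obtain ⟨htop, hAK⟩ := C.normal_step K hKA
  have hlow : ∀ N : Subgroup G, N.Normal → N ≤ K → N ≠ K → N ≤ Subgroup.center G := fun N hN hle hne =>
    hcz N hN (by_contra fun h => hne (hKmin N ⟨hN, h⟩ hle))
  have hKns : ¬ Group.IsSolvable K := fun h => hns ((Group.isSolvable_iff_subgroup_quotient K).2 ⟨h, by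
    refine Group.isSolvable_of_comm fun p q => ?_
    have hd : ∀ z : G ⧸ K, ∃ a ∈ A, z = QuotientGroup.mk' K a := by
      intro z
      obtain ⟨w, rfl⟩ := QuotientGroup.mk'_surjective K z
      obtain ⟨a, ha, k, hk, rfl⟩ := mem_sup_of_normal_right.1 (htop.ge (mem_top w))
      exact ⟨a, ha, by rw [map_mul, show QuotientGroup.mk' K k = 1 from (QuotientGroup.eq_one_iff k).2 hk, mul_one]⟩
    obtain ⟨a, ha, rfl⟩ := hd p
    obtain ⟨b, hb', rfl⟩ := hd q
    rw [← map_mul, ← map_mul, elem_comm C.elem ha hb']⟩)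
  set Z := Subgroup.center G with hZ
  have hKperf : ⁅K, K⁆ = K := by
    by_contra hne
    have h := hlow ⁅K, K⁆ inferInstance (commutator_le_left K K) hne
    exact hKns (solvable_of_commutator_le (Y := Z)
      (Group.isSolvable_of_comm fun p q => Subtype.ext ((Subgroup.mem_center_iff.1 p.2 _).symm)) h)
  set Z0 := K ⊓ Z with hZ0
  have hKZ : K ≠ Z0 := fun e => hKns (Group.isSolvable_of_comm fun p q => Subtype.ext
    ((Subgroup.mem_center_iff.1 (mem_inf.1 (e.le p.2)).2 _).symm))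
  obtain ⟨L, ⟨hZL, hLK, hKL, hLne⟩, hLmin⟩ := Set.exists_min_image
    {Y : Subgroup G | Z0 ≤ Y ∧ Y ≤ K ∧ K ≤ normalizer (Y : Set G) ∧ Y ≠ Z0}
    (fun Y => Nat.card Y) (Set.toFinite _) ⟨K, inf_le_left, le_rfl, le_normalizer, hKZ⟩
  have hcjm : ∀ (g : G) (Y : Subgroup G) (y : G), y ∈ cj g Y ↔ g⁻¹ * y * g ∈ Y := by
    intro g Y y
    constructor
    · rintro ⟨z, hz, rfl⟩
      show g⁻¹ * (g * z * g⁻¹) * g ∈ Y
      rwa [show g⁻¹ * (g * z * g⁻¹) * g = z by group]
    · intro h
      exact ⟨_, h, show g * (g⁻¹ * y * g) * g⁻¹ = y by group⟩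
  have hcjcard : ∀ g : G, Nat.card (cj g L) = Nat.card L := fun g =>
    (Nat.card_congr (L.equivMapOfInjective _ (MulEquiv.injective (MulAut.conj g))).toEquiv).symm
  have hmin : ∀ Y : Subgroup G, Z0 ≤ Y → Y ≤ K → K ≤ normalizer (Y : Set G) → Nat.card Y ≤ Nat.card L →
      Y = Z0 ∨ Nat.card Y = Nat.card L := fun Y h1 h2 h3 h4 => (eq_or_ne Y Z0).imp_right fun h =>
    le_antisymm h4 (hLmin Y ⟨h1, h2, h3, h⟩)
  have hZcj : ∀ g, Z0 ≤ cj g L := fun g z hz => (hcjm g L z).2 (by
    rw [mul_assoc, ← Subgroup.mem_center_iff.1 hz.2 g, inv_mul_cancel_left]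
    exact hZL hz)
  have hKcj : ∀ g, cj g L ≤ K := by
    rintro g _ ⟨z, hz, rfl⟩
    exact hKn.conj_mem z (hLK hz) g
  have hNcj : ∀ g, K ≤ normalizer (cj g L : Set G) := fun g => le_normalizer_of_conj fun k hk y hy => by
    rw [hcjm] at hy ⊢
    rw [show g⁻¹ * (k * y * k⁻¹) * g = (g⁻¹ * k * g) * (g⁻¹ * y * g) * (g⁻¹ * k * g)⁻¹ by group]
    exact conj_mem (hKL (by simpa using hKn.conj_mem k hk g⁻¹)) hy
  have hdist : ∀ g h : G, cj g L ≠ cj h L → ∀ x ∈ cj g L, ∀ y ∈ cj h L, ⁅x, y⁆ ∈ Z0 := by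
    intro g h hne x hx y hy
    rcases hmin (cj g L ⊓ cj h L) (le_inf (hZcj g) (hZcj h)) (inf_le_left.trans (hKcj g))
      (Cfsg.Lib.Coprime.le_normalizer_inf (hNcj g) (hNcj h))
      ((card_le_of_le inf_le_left).trans (hcjcard g).le) with e | e
    · rw [← e]
      refine mem_inf.2 ⟨?_, ?_⟩
      · rw [commutatorElement_def, show x * y * x⁻¹ * y⁻¹ = x * (y * x⁻¹ * y⁻¹) by group]
        exact mul_mem hx (conj_mem (hNcj g (hKcj h hy)) (inv_mem hx))
      · rw [commutatorElement_def]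
        exact mul_mem (conj_mem (hNcj h (hKcj g hx)) hy) (inv_mem hy)
    · exfalso
      refine hne ((eq_of_le_of_card_ge inf_le_left ((hcjcard g).le.trans e.ge)).symm.trans
        (eq_of_le_of_card_ge inf_le_right ((hcjcard h).le.trans e.ge)))
  -- the normal subgroup generated by the conjugates
  have hsupN : ∀ Y : Subgroup G, Y ≤ K → K ≤ normalizer (Y : Set G) → (⨆ a : A, cj (a : G) Y).Normal := by
    intro Y hYK hKY
    set M := ⨆ a : A, cj (a : G) Y
    refine normalizer_eq_top_iff.1 (top_le_iff.1 (htop.ge.trans (sup_le ?_ ?_)))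
    · intro b hb'
      refine Cfsg.Lib.JComp.mem_normalizer_of_cj_le ?_
      rw [cj, Subgroup.map_iSup]
      refine iSup_le fun a => le_trans (le_of_eq ?_) (le_iSup (fun a : A => cj (a : G) Y) ⟨b * a, mul_mem hb' a.2⟩)
      show cj b (cj (a : G) Y) = cj (b * (a : G)) Y
      ext y
      constructor
      · rintro ⟨_, ⟨z, hz, rfl⟩, rfl⟩
        exact ⟨z, hz, show b * (a : G) * z * (b * (a : G))⁻¹ = b * ((a : G) * z * (a : G)⁻¹) * b⁻¹ by group⟩
      · rintro ⟨z, hz, rfl⟩
        exact ⟨_, ⟨z, hz, rfl⟩, show b * ((a : G) * z * (a : G)⁻¹) * b⁻¹ = b * (a : G) * z * (b * (a : G))⁻¹ by group⟩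
    · intro k hk
      refine Cfsg.Lib.JComp.mem_normalizer_of_cj_le ?_
      rw [cj, Subgroup.map_iSup]
      refine iSup_le fun a => le_trans ?_ (le_iSup (fun a : A => cj (a : G) Y) a)
      rintro _ ⟨_, ⟨z, hz, rfl⟩, rfl⟩
      refine ⟨((a : G)⁻¹ * k * a) * z * ((a : G)⁻¹ * k * a)⁻¹,
        conj_mem (hKY (by simpa using hKn.conj_mem k hk (a : G)⁻¹)) hz, ?_⟩
      show (a : G) * (((a : G)⁻¹ * k * a) * z * ((a : G)⁻¹ * k * a)⁻¹) * (a : G)⁻¹ = k * ((a : G) * z * (a : G)⁻¹) * k⁻¹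
      group
  have hsupK : ∀ Y : Subgroup G, Y ≤ K → (⨆ a : A, cj (a : G) Y) ≤ K := fun Y hY => iSup_le fun a => by
    rintro _ ⟨z, hz, rfl⟩
    exact hKn.conj_mem z (hY hz) (a : G)
  have hle_sup : ∀ Y : Subgroup G, Y ≤ ⨆ a : A, cj (a : G) Y := fun Y y hy =>
    le_iSup (fun a : A => cj (a : G) Y) 1 ⟨y, hy, by show (1 : G) * y * 1⁻¹ = y; group⟩
  have hnotZ : ∀ Y : Subgroup G, Y ≤ K → K ≤ normalizer (Y : Set G) → ¬ Y ≤ Z →
      (⨆ a : A, cj (a : G) Y) = K := fun Y h1 h2 h3 => by_contra fun h =>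
    h3 ((hle_sup Y).trans (hlow _ (hsupN Y h1 h2) (hsupK Y h1) h))
  have hLnZ : ¬ L ≤ Z := fun h => hLne (le_antisymm (le_inf hLK h) hZL)
  set L1 := ⁅L, L⁆ with hL1
  have hL1L : L1 ≤ L := commutator_le.2 fun x hx y hy => by
    rw [commutatorElement_def]; exact mul_mem (mul_mem (mul_mem hx hy) (inv_mem hx)) (inv_mem hy)
  have hKL1 : K ≤ normalizer (L1 : Set G) := fun k hk => Cfsg.Lib.JComp.mem_normalizer_of_cj_le (by
    rw [hL1, cj, map_commutator]
    exact commutator_mono (cj_eq_self ((hKL hk))).le (cj_eq_self ((hKL hk))).le)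
  have hL1nZ : ¬ L1 ≤ Z := by
    intro hle
    have hM := hnotZ L hLK hKL hLnZ
    refine hKns (solvable_of_commutator_le (Y := Z)
      (Group.isSolvable_of_comm fun p q => Subtype.ext ((Subgroup.mem_center_iff.1 p.2 _).symm)) ?_)
    have gens : ∀ g h : G, ∀ x ∈ cj g L, ∀ y ∈ cj h L, ⁅x, y⁆ ∈ Z := by
      intro g h x hx y hy
      by_cases e : cj g L = cj h L
      · rw [← e] at hy
        obtain ⟨x, hx', rfl⟩ := hx
        obtain ⟨y, hy', rfl⟩ := hy
        rw [← map_commutatorElement]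
        exact (inferInstance : Z.Normal).conj_mem _ (hle (commutator_mem_commutator hx' hy')) g
      · exact (mem_inf.1 (hdist g h e x hx y hy)).2
    rw [← hM]
    refine commutator_le.2 fun x hx y hy => ?_
    have hy' : ∀ h : A, ∀ z ∈ cj (h : G) L, ⁅x, z⁆ ∈ Z := by
      intro h z hz
      refine Subgroup.iSup_induction (fun a : A => cj (a : G) L) (C := fun x => ⁅x, z⁆ ∈ Z) hx
        (fun a w hw => gens _ _ w hw z hz) ?_ fun v w hv hw => ?_
      · rw [commutatorElement_one_left]; exact one_mem _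
      · rw [show ⁅v * w, z⁆ = v * ⁅w, z⁆ * v⁻¹ * ⁅v, z⁆ by simp only [commutatorElement_def]; group]
        exact mul_mem ((inferInstance : Z.Normal).conj_mem _ hw v) hv
    refine Subgroup.iSup_induction (fun a : A => cj (a : G) L) (C := fun y => ⁅x, y⁆ ∈ Z) hy hy' ?_
      fun v w hv hw => ?_
    · rw [commutatorElement_one_right]; exact one_mem _
    · rw [show ⁅x, v * w⁆ = ⁅x, v⁆ * (v * ⁅x, w⁆ * v⁻¹) by simp only [commutatorElement_def]; group]
      exact mul_mem hv ((inferInstance : Z.Normal).conj_mem _ hw v)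
  have hLeq : L1 ⊔ Z0 = L := by
    have hNsup : K ≤ normalizer ((L1 ⊔ Z0 : Subgroup G) : Set G) := fun k hk =>
      Cfsg.Lib.JComp.mem_normalizer_of_cj_le (by
        rw [cj, Subgroup.map_sup]
        refine sup_le_sup (cj_eq_self ((hKL1 hk))).le ?_
        rintro _ ⟨z, hz, rfl⟩
        show k * z * k⁻¹ ∈ Z0
        rw [Subgroup.mem_center_iff.1 hz.2 k, mul_inv_cancel_right]
        exact hz)
    rcases hmin (L1 ⊔ Z0) le_sup_right (sup_le (hL1L.trans hLK) inf_le_left) hNsup
      (card_le_of_le (sup_le hL1L hZL)) with e | e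
    · exact absurd ((le_sup_left.trans e.le).trans inf_le_right) hL1nZ
    · exact eq_of_le_of_card_ge (sup_le hL1L hZL) e.ge
  have hL1perf : ⁅L1, L1⁆ = L1 := by
    refine le_antisymm (commutator_le.2 fun x hx y hy => commutator_mem_commutator (hL1L hx) (hL1L hy)) ?_
    conv_lhs => rw [hL1]
    refine commutator_le.2 fun x hx y hy => ?_
    rw [← hLeq] at hx hy
    haveI : Z0.Normal := inferInstance
    obtain ⟨x, hx', z, hz, rfl⟩ := mem_sup_of_normal_right.1 hx
    obtain ⟨y, hy', w, hw, rfl⟩ := mem_sup_of_normal_right.1 hy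
    have hz' := Subgroup.mem_center_iff.1 hz.2
    have hw' := Subgroup.mem_center_iff.1 hw.2
    rw [show ⁅x * z, y * w⁆ = ⁅x, y⁆ by
      simp only [commutatorElement_def, mul_inv_rev]
      calc x * z * (y * w) * (z⁻¹ * x⁻¹) * (w⁻¹ * y⁻¹)
          = x * (z * (y * w)) * z⁻¹ * x⁻¹ * w⁻¹ * y⁻¹ := by group
        _ = x * (y * w) * x⁻¹ * w⁻¹ * y⁻¹ := by rw [← hz' (y * w)]; group
        _ = x * y * (w * x⁻¹) * w⁻¹ * y⁻¹ := by group
        _ = x * y * x⁻¹ * y⁻¹ := by rw [← hw' x⁻¹]; group]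
    exact commutator_mem_commutator hx' hy'
  have hLL1 : ∀ a ∈ A, a ∈ normalizer (L1 : Set G) → a ∈ normalizer (L : Set G) := fun a ha h =>
    Cfsg.Lib.JComp.mem_normalizer_of_cj_le (by
      rw [← hLeq, cj, Subgroup.map_sup]
      refine sup_le_sup (cj_eq_self (h)).le ?_
      rintro _ ⟨z, hz, rfl⟩
      show a * z * a⁻¹ ∈ Z0
      rw [Subgroup.mem_center_iff.1 hz.2 a, mul_inv_cancel_right]
      exact hz)
  have hcomm : ∀ a ∈ A, a ∉ normalizer (L1 : Set G) → ∀ x ∈ L1, ∀ y ∈ L1, Commute x (a * y * a⁻¹) := by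
    intro a ha hna x hx y hy
    have hne : cj 1 L ≠ cj a L := fun e => hna (Cfsg.Lib.JComp.mem_normalizer_of_cj_le (by
      have e' : cj a L = L := e.symm.trans (by ext g; rw [hcjm]; simp)
      rw [hL1, cj, map_commutator]
      exact commutator_mono e'.le e'.le))
    refine ((commute_of_perfect hL1perf (g := a * y * a⁻¹) (fun k hk => ?_) x hx)).symm
    have h := (mem_inf.1 (hdist 1 a hne k ((hcjm 1 L k).2 (by simpa using hL1L hk)) (a * y * a⁻¹)
      ⟨y, hL1L hy, rfl⟩)).2
    rw [← commutatorElement_inv]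
    exact inv_mem h
  have hgenK : ∀ g : G, (∀ a ∈ A, ∀ l ∈ L1, Commute g (a * l * a⁻¹)) → g ∈ centralizer (K : Set G) := by
    intro g hg
    have hK1 := hnotZ L1 (hL1L.trans hLK) hKL1 hL1nZ
    have hle : (⨆ a : A, cj (a : G) L1) ≤ centralizer ({g} : Set G) := iSup_le fun a => by
      rintro _ ⟨l, hl, rfl⟩
      exact mem_centralizer_singleton_iff.2 (hg a a.2 l hl).symm.eq
    rw [hK1] at hle
    exact mem_centralizer_iff.2 fun k hk => mem_centralizer_singleton_iff.1 (hle hk)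
  have hcent : ∀ x ∈ L1, x ∈ centralizer (L1 : Set G) → x ∈ Z := by
    intro x hx hxc
    haveI := centralizer_normal K
    have hxK : x ∈ centralizer (K : Set G) := hgenK x fun a ha l hl => by
      by_cases hn : a ∈ normalizer (L1 : Set G)
      · exact (mem_centralizer_iff.1 hxc _ (conj_mem hn hl)).symm
      · exact hcomm a ha hn x hx l hl
    refine hlow (K ⊓ centralizer (K : Set G)) inferInstance inf_le_left (fun e => hKns
      (Group.isSolvable_of_comm fun p q => Subtype.ext ?_)) ⟨hLK (hL1L hx), hxK⟩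
    exact (mem_centralizer_iff.1 (mem_inf.1 (e.ge p.2)).2 q q.2).symm
  by_cases h1 : A ≤ normalizer (L1 : Set G)
  · have hLn : L.Normal := normalizer_eq_top_iff.1 (top_le_iff.1 (htop.ge.trans
      (sup_le (fun a ha => hLL1 a ha (h1 ha)) hKL)))
    have hLeqK : L = K := by_contra fun h => hLnZ (hlow L hLn hLK h)
    refine C.simple_case hZodd K hKperf hKns fun Y h2 h3 h4 => ?_
    refine (eq_or_ne Y Z0).imp_right fun h => ?_
    exact eq_of_le_of_card_ge h3 ((congrArg (fun T : Subgroup G => Nat.card T) hLeqK).ge.trans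
      (hLmin Y ⟨h2, h3, h4, h⟩))
  by_cases h0 : A ⊓ normalizer (L1 : Set G) = ⊥
  · exact C.regular_case hns L1 hL1perf hL1nZ (fun a ha hn => mem_bot.1 (h0 ▸ ⟨ha, hn⟩)) hcomm hcent
  have hsub : L1.IsSubnormal := by
    haveI := (normal_subgroupOf_iff_le_normalizer (hL1L.trans hLK)).2 hKL1
    have h := (inferInstance : (L1.subgroupOf K).Normal).isSubnormal.trans' hKn.isSubnormal
    rwa [subgroupOf_map_subtype, inf_eq_left.2 (hL1L.trans hLK)] at h
  refine C.split_case hZodd L1 hsub hL1perf h0 h1 hcomm hcent (fun P hP hPn hPs => ?_) fun g hg h =>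
    mem_bot.1 (hAK ▸ ⟨hg, hgenK g h⟩)
  by_contra hPZ
  have hKP : K ≤ normalizer (P : Set G) := by
    rw [← hnotZ L1 (hL1L.trans hLK) hKL1 hL1nZ]
    refine iSup_le fun a => ?_
    by_cases hn : (a : G) ∈ normalizer (L1 : Set G)
    · exact (cj_eq_self (hn)).le.trans hPn
    · rintro _ ⟨l, hl, rfl⟩
      refine le_normalizer_of_conj (K := zpowers ((a : G) * l * (a : G)⁻¹)) ?_ (mem_zpowers _)
      intro k hk p hp
      obtain ⟨i, rfl⟩ := mem_zpowers_iff.1 hk
      rwa [← ((hcomm a a.2 hn p (hP hp) l hl).zpow_right i).eq, mul_inv_cancel_right]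
  have hNsup : K ≤ normalizer ((P ⊔ Z0 : Subgroup G) : Set G) := fun k hk =>
    Cfsg.Lib.JComp.mem_normalizer_of_cj_le (by
      rw [cj, Subgroup.map_sup]
      refine sup_le_sup (cj_eq_self ((hKP hk))).le ?_
      rintro _ ⟨z, hz, rfl⟩
      show k * z * k⁻¹ ∈ Z0
      rw [Subgroup.mem_center_iff.1 hz.2 k, mul_inv_cancel_right]
      exact hz)
  rcases hmin (P ⊔ Z0) le_sup_right (sup_le (hP.trans (hL1L.trans hLK)) inf_le_left) hNsup
    (card_le_of_le (sup_le (hP.trans hL1L) hZL)) with e | e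
  · exact hPZ ((le_sup_left.trans e.le).trans inf_le_right)
  · have hPL : P ⊔ Z0 = L := eq_of_le_of_card_ge (sup_le (hP.trans hL1L) hZL) e.ge
    refine not_solvable_of_perfect hL1perf (fun e => hL1nZ (e ▸ bot_le)) (solvable_of_commutator_le hPs ?_)
    rw [hL1perf]
    haveI : Z0.Normal := inferInstance
    conv_lhs => rw [hL1, ← hPL]
    refine commutator_le.2 fun x hx y hy => ?_
    obtain ⟨x, hx', z, hz, rfl⟩ := mem_sup_of_normal_right.1 hx
    obtain ⟨y, hy', w, hw, rfl⟩ := mem_sup_of_normal_right.1 hy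
    have hz' := Subgroup.mem_center_iff.1 hz.2
    have hw' := Subgroup.mem_center_iff.1 hw.2
    rw [show ⁅x * z, y * w⁆ = ⁅x, y⁆ by
      simp only [commutatorElement_def, mul_inv_rev]
      calc x * z * (y * w) * (z⁻¹ * x⁻¹) * (w⁻¹ * y⁻¹)
          = x * (z * (y * w)) * z⁻¹ * x⁻¹ * w⁻¹ * y⁻¹ := by group
        _ = x * (y * w) * x⁻¹ * w⁻¹ * y⁻¹ := by rw [← hz' (y * w)]; group
        _ = x * y * (w * x⁻¹) * w⁻¹ * y⁻¹ := by group
        _ = x * y * x⁻¹ * y⁻¹ := by rw [← hw' x⁻¹]; group]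
    exact mul_mem (mul_mem (mul_mem hx' hy') (inv_mem hx')) (inv_mem hy')

/-- A configuration with all smaller ones satisfying the bound satisfies the bound. -/
theorem Ctx.bound {V : Type v} [AddCommGroup V] [Finite V] {ρ : G →* AddMonoid.End V} (C : Ctx ρ A) : Bd ρ A := by
  by_contra hb
  refine Red.false (A := A) ⟨C.tame, C.elem, by_contra fun h => hb (C.split h),
    not_le.1 fun h => hb (C.small h), fun hDA hD hne hAH hHD hT hkey _ => hb (C.rec_step hDA hD hne hAH hHD hT hkey),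
    fun hAH hH hT hkey _ => hb (C.proper hAH hH hT hkey), fun {a g x r n} ha hr hr2 hx hxm hprim hcard => hb ?_⟩
  refine bd_of_index (k := 2 ^ n) hcard ha ((Nat.pow_le_pow_iff_left (by norm_num : 2 ≠ 0)).1
    (le_trans (le_of_eq ?_) (index_sq_ge C.two ρ C.inj hr hr2 hx hxm hprim)))
  rw [← pow_mul, ← pow_mul]; ring_nf

/-- The squared bound. -/
theorem bd_all {G : Type u} [Group G] [Finite G] {V : Type v} [AddCommGroup V] [Finite V]
    {ρ : G →* AddMonoid.End V} {A : Subgroup G} (h : Hyp ρ A) : Bd ρ A := by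
  suffices hmain : ∀ n m k : ℕ, ∀ {G : Type u} [Group G] [Finite G] {V : Type v} [AddCommGroup V] [Finite V]
      (ρ : G →* AddMonoid.End V) (A : Subgroup G), Nat.card V = n → Nat.card G = m → Nat.card A = k →
      Hyp ρ A → Bd ρ A from hmain _ _ _ ρ A rfl rfl rfl h
  intro n
  induction n using Nat.strong_induction_on with
  | _ n ihn =>
    intro m
    induction m using Nat.strong_induction_on with
    | _ m ihm =>
      intro k
      induction k using Nat.strong_induction_on with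
      | _ k ihk =>
        intro G _ _ V _ _ ρ A hn hm hk hyp
        refine Ctx.bound ⟨hyp, ?_, ?_, ?_⟩
        · intro G' _ _ V' _ _ ρ' A' h' hlt
          exact ihn _ (hn ▸ hlt) _ _ ρ' A' rfl rfl rfl h'
        · intro G' _ _ ρ' A' h' hlt
          exact ihm _ (hm ▸ hlt) _ ρ' A' hn rfl rfl h'
        · intro A' h' hlt
          exact ihk _ (hk ▸ hlt) ρ A' hn hm rfl h'

end Cfsg.Lib.SThreeFree
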