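import Cfsg.Agent.SThreeFree.Wit
import Cfsg.Agent.PGroups.Basic
import Cfsg.Agent.Coprime.Sylow

/-!
An elementary abelian subgroup normal in a 2-subgroup containing the core of a constrained group, whose
centraliser indices exceed the three-halves bound, lies in the core.
-/

set_option autoImplicit false
set_option linter.unusedSectionVars false
set_option linter.style.haveILetI false

namespace Cfsg.Lib.SThreeFree

open Subgroup
open scoped commutatorElement
open Cfsg.Lib.JComp (elem_sq elem_comm elem_inv conj_mem cj)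

universe u v

variable {G : Type u} [Group G]

/-- `|W : C_W(R)|² > |R : C_R(W)|³` whenever `R` acts non-trivially on `W` as an elementary abelian group. -/
def SqHalf (S W : Subgroup G) : Prop :=
  ∀ R : Subgroup G, R ≤ S → ⁅R, R⁆ ≤ centralizer (W : Set G) → (∀ r ∈ R, r ^ 2 ∈ centralizer (W : Set G)) →
    ¬ R ≤ centralizer (W : Set G) →
    Nat.card R ^ 3 * Nat.card ↥(W ⊓ centralizer (R : Set G)) ^ 2 <
      Nat.card W ^ 2 * Nat.card ↥(R ⊓ centralizer (W : Set G)) ^ 3

variable [Finite G] {V : Type v} [AddCommGroup V] [Finite V]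

/-- `x ↦ x + a x`. -/
def delta (σ : G →* AddMonoid.End V) (a : G) : V →+ V :=
  AddMonoidHom.mk' (fun x => σ a x + x) fun x y => by rw [map_add]; abel

theorem delta_apply (σ : G →* AddMonoid.End V) (a : G) (x : V) : delta σ a x = σ a x + x := rfl

theorem mem_fixd_zpowers (σ : G →* AddMonoid.End V) {a : G} {x : V} :
    x ∈ fixd σ (zpowers a) ↔ σ a x = x := by
  refine ⟨fun h => h a (mem_zpowers a), fun h => ?_⟩
  intro c hc
  let F : Subgroup G :=
    { carrier := {g | σ g x = x}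
      one_mem' := act_one σ x
      mul_mem' := fun {g k} hg hk => by
        show σ (g * k) x = x
        rw [act_mul, show σ k x = x from hk, show σ g x = x from hg]
      inv_mem' := fun {g} hg => by
        show σ g⁻¹ x = x
        conv_lhs => rw [← (show σ g x = x from hg)]
        exact act_inv_apply σ g x }
  exact (zpowers_le.2 (show a ∈ F from h)) hc

theorem card_split_on (f : V →+ V) (U : AddSubgroup V) :
    Nat.card ↥(U ⊓ f.ker) * Nat.card ↥(U.map f) = Nat.card U := by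
  have e : (f.comp U.subtype).range = U.map f := by
    ext y
    constructor
    · rintro ⟨u, rfl⟩; exact ⟨u, u.2, rfl⟩
    · rintro ⟨u, hu, rfl⟩; exact ⟨⟨u, hu⟩, rfl⟩
  have h := AddSubgroup.card_eq_card_quotient_mul_card_addSubgroup (f.comp U.subtype).ker
  rw [Nat.card_congr (QuotientAddGroup.quotientKerEquivRange (f.comp U.subtype)).toEquiv, e, mul_comm] at h
  rw [h]
  congr 1
  exact Nat.card_congr
    { toFun := fun x => ⟨⟨x.1, x.2.1⟩, x.2.2⟩
      invFun := fun x => ⟨x.1.1, x.1.2, x.2⟩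
      left_inv := fun x => rfl
      right_inv := fun x => rfl }

theorem card_split_fix (σ : G →* AddMonoid.End V) (h2 : ∀ x : V, x + x = 0) {a : G} :
    ∀ U : AddSubgroup V, Nat.card ↥(U ⊓ fixd σ (zpowers a)) *
      Nat.card ↥(U.map (delta σ a)) = Nat.card U := by
  intro U
  have e : (delta σ a).ker = fixd σ (zpowers a) := by
    ext x
    rw [AddMonoidHom.mem_ker, delta_apply, mem_fixd_zpowers, add_eq_zero_iff_eq_neg,
      show -x = x from neg_eq_of_add_eq_zero_left (h2 x)]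
  rw [← e]
  exact card_split_on _ U

/-- Two involutions with a product of odd prime order acting non-trivially have commutator spaces with large
images modulo each other's fixed points. -/
theorem pair_ranges (σ : G →* AddMonoid.End V) (h2 : ∀ x : V, x + x = 0) {a b y : G} {r N : ℕ} (hr : r.Prime)
    (hr2 : r ≠ 2) (hy : orderOf y = r) (ha : a * a = 1) (hb : b * b = 1) (hym : y ∈ zpowers (a * b))
    (hnt : ∃ x, σ y x ≠ x) (hprim : ∀ i, 0 < i → i < N → ¬ r ∣ 2 ^ i - 1) :
    ∃ j, 0 < j ∧ N ≤ j ∧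
      2 ^ j * (Nat.card ↥((delta σ a).range ⊓ fixd σ (zpowers b)) *
          Nat.card ↥((delta σ b).range ⊓ fixd σ (zpowers a))) ≤
        Nat.card ↥(delta σ a).range *
          Nat.card ↥(delta σ b).range := by
  classical
  letI : Fintype (zpowers y) := Fintype.ofFinite _
  set Fy := fixd σ (zpowers y)
  set F := fixd σ (zpowers a)
  set F' := fixd σ (zpowers b)
  let e : V →+ V := AddMonoidHom.mk' (fun x => ∑ g : zpowers y, σ (g : G) x) fun x z => by
    simp [Finset.sum_add_distrib]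
  have he : ∀ x, e x = ∑ g : zpowers y, σ (g : G) x := fun x => rfl
  have hefix : ∀ x, e x ∈ Fy := by
    intro x h hh
    rw [he, map_sum]
    refine Fintype.sum_equiv (Equiv.mulLeft (⟨h, hh⟩ : zpowers y)) _ _ fun g => ?_
    rw [← act_mul]; rfl
  have heid : ∀ x ∈ Fy, e x = x := by
    intro x hx
    rw [he, Finset.sum_congr rfl fun (g : zpowers y) _ => hx (g : G) g.2, Finset.sum_const, Finset.card_univ, Fintype.card_eq_nat_card,
      Nat.card_zpowers, hy]
    obtain ⟨c, hc⟩ := hr.odd_of_ne_two hr2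
    rw [hc, add_smul, one_smul, mul_smul, two_nsmul, h2, zero_add]
  have hinv : ∀ c : G, c * c = 1 → c * (a * b) * c⁻¹ = (a * b)⁻¹ → ∀ x, e (σ c x) = σ c (e x) := by
    intro c hc hcw x
    have hyc : ∀ g ∈ zpowers y, c * g * c⁻¹ = g⁻¹ := by
      intro g hg
      obtain ⟨i, rfl⟩ := mem_zpowers_iff.1 (zpowers_le.2 hym hg)
      rw [← conj_zpow, hcw, inv_zpow]
    rw [he, he, map_sum]
    refine Fintype.sum_equiv (Equiv.inv (zpowers y)) _ _ fun g => ?_
    show σ (g : G) (σ c x) = σ c (σ ((g : G)⁻¹) x)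
    rw [← act_mul, ← act_mul]
    congr 2
    rw [← hyc g g.2, inv_eq_of_mul_eq_one_right hc, ← mul_assoc, ← mul_assoc, hc, one_mul]
  have hai := inv_eq_of_mul_eq_one_right ha
  have hbi := inv_eq_of_mul_eq_one_right hb
  have hea := hinv a ha (by rw [mul_inv_rev, hai, hbi, ← mul_assoc, ha, one_mul])
  have heb := hinv b hb (by rw [mul_inv_rev, hai, hbi, mul_assoc b, mul_assoc a, hb, mul_one])
  have hFF : F ⊓ F' ≤ Fy := by
    intro x hx
    refine fixd_mono σ (zpowers_le.2 hym) ((mem_fixd_zpowers σ).2 ?_)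
    rw [act_mul, hx.2 b (mem_zpowers b), hx.1 a (mem_zpowers a)]
  -- splitting along `e`
  have hrange : (⊤ : AddSubgroup V).map e = Fy := le_antisymm (by rintro _ ⟨x, -, rfl⟩; exact hefix x)
    fun x hx => ⟨x, AddSubgroup.mem_top x, heid x hx⟩
  have hVsplit : Nat.card e.ker * Nat.card Fy = Nat.card V := by
    have h := card_split_on e ⊤
    rwa [hrange, top_inf_eq, AddSubgroup.card_top] at h
  have hsplit : ∀ c : G, (∀ x, e (σ c x) = σ c (e x)) →
      Nat.card ↥(fixd σ (zpowers c) ⊓ e.ker) * Nat.card ↥(Fy ⊓ fixd σ (zpowers c)) = Nat.card (fixd σ (zpowers c)) := by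
    intro c hc
    have h := card_split_on e (fixd σ (zpowers c))
    rwa [show (fixd σ (zpowers c)).map e = Fy ⊓ fixd σ (zpowers c) from le_antisymm ?_
      (fun x hx => ⟨x, hx.2, heid x hx.1⟩)] at h
    rintro _ ⟨x, hx, rfl⟩
    exact ⟨hefix x, (mem_fixd_zpowers σ).2 (by rw [← hc, hx c (mem_zpowers c)])⟩
  -- fixed parts away from `Fy`
  have hker : Nat.card ↥(F ⊓ e.ker) * Nat.card ↥(F' ⊓ e.ker) ≤ Nat.card e.ker := by
    rw [← Nat.card_prod]
    refine Nat.card_le_card_of_injective (fun z => (⟨z.1.1 + z.2.1, add_mem z.1.2.2 z.2.2.2⟩ : e.ker)) ?_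
    rintro ⟨x, x'⟩ ⟨z, z'⟩ h
    have h' : (x : V) + x' = z + z' := congrArg Subtype.val h
    have h1 : (x : V) - z = z' - x' := by rw [sub_eq_sub_iff_add_eq_add, h', add_comm]
    have hm : (x : V) - z ∈ F ⊓ F' :=
      AddSubgroup.mem_inf.2 ⟨AddSubgroup.sub_mem F x.2.1 z.2.1, h1 ▸ AddSubgroup.sub_mem F' z'.2.1 x'.2.1⟩
    have h0 : (x : V) - z = 0 := by rw [← heid _ (hFF hm)]; exact AddSubgroup.sub_mem e.ker x.2.2 z.2.2
    rw [h0, eq_comm, sub_eq_zero] at h1
    exact Prod.ext (Subtype.ext (sub_eq_zero.1 h0)) (Subtype.ext h1.symm)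
  have hM : ∀ c d : G, c * c = 1 → (∀ x, e (σ c x) = σ c (e x)) →
      fixd σ (zpowers c) ⊓ fixd σ (zpowers d) ≤ Fy →
      Nat.card ↥((delta σ c).range ⊓ fixd σ (zpowers d)) *
        Nat.card ↥(Fy ⊓ fixd σ (zpowers c)) ≤ Nat.card Fy := by
    intro c d hc hec hle
    rw [mul_comm, ← card_split_fix σ h2 (a := c) Fy]
    refine Nat.mul_le_mul_left _ (Nat.le_of_dvd Nat.card_pos (AddSubgroup.card_dvd_of_le ?_))
    rintro _ ⟨⟨x, rfl⟩, hd⟩
    have hmF : (σ c x + x) ∈ fixd σ (zpowers c) :=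
      (mem_fixd_zpowers σ).2 (by rw [map_add, ← act_mul, hc, act_one, add_comm])
    have hfy := heid _ (hle ⟨hmF, hd⟩)
    refine ⟨e x, hefix x, ?_⟩
    show σ c (e x) + e x = σ c x + x
    rw [← hfy, map_add, hec]
  obtain ⟨hd, j, hj⟩ := modEq_fix h2 hr hr2 hy σ
  have hjk : 2 ^ j = Nat.card e.ker := by
    have h := AddSubgroup.index_mul_card Fy
    rw [hj, ← hVsplit] at h
    exact Nat.eq_of_mul_eq_mul_right Nat.card_pos h
  have hj0 : 0 < j := by
    refine Nat.pos_of_ne_zero fun h0 => ?_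
    obtain ⟨x, hx⟩ := hnt
    have htop : Fy = ⊤ := AddSubgroup.index_eq_one.1 (by rw [hj, h0, pow_zero])
    exact hx ((htop.ge (AddSubgroup.mem_top x)) y (mem_zpowers y))
  refine ⟨j, hj0, not_lt.1 fun h => hprim j hj0 h (hj ▸ hd), ?_⟩
  have hFa : Nat.card F * Nat.card ↥(delta σ a).range = Nat.card V := by
    have h := card_split_fix σ h2 (a := a) ⊤
    rwa [top_inf_eq, AddSubgroup.card_top, ← AddMonoidHom.range_eq_map] at h
  have hFb : Nat.card F' * Nat.card ↥(delta σ b).range = Nat.card V := by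
    have h := card_split_fix σ h2 (a := b) ⊤
    rwa [top_inf_eq, AddSubgroup.card_top, ← AddMonoidHom.range_eq_map] at h
  have hX := hM a b ha hea hFF
  have hX' := hM b a hb heb (by rw [inf_comm]; exact hFF)
  have hsa := hsplit a hea
  have hsb := hsplit b heb
  rw [hjk]
  refine Nat.le_of_mul_le_mul_right ?_ (Nat.mul_pos (Nat.card_pos (α := F)) (Nat.card_pos (α := F')))
  calc _ = Nat.card e.ker * ((Nat.card ↥(F ⊓ e.ker) * Nat.card ↥(F' ⊓ e.ker)) *
        ((Nat.card ↥((delta σ a).range ⊓ F') * Nat.card ↥(Fy ⊓ F)) *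
          (Nat.card ↥((delta σ b).range ⊓ F) * Nat.card ↥(Fy ⊓ F')))) := by
        rw [← hsa, ← hsb]; ring
    _ ≤ Nat.card e.ker * (Nat.card e.ker * (Nat.card Fy * Nat.card Fy)) :=
        Nat.mul_le_mul_left _ (Nat.mul_le_mul hker (Nat.mul_le_mul hX hX'))
    _ = (Nat.card e.ker * Nat.card Fy) * (Nat.card e.ker * Nat.card Fy) := by ring
    _ = _ := by
        rw [hVsplit]
        conv_lhs => arg 1; rw [← hFa]
        rw [← hFb]; ring

/-- The subgroup lies in the core. -/
theorem le_core_of_sq (hchar : centralizer (Cfsg.pCore 2 G : Set G) ≤ Cfsg.pCore 2 G)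
    (hT : Tame (G ⧸ Cfsg.pCore 2 G)) (S A : Subgroup G) (hQS : Cfsg.pCore 2 G ≤ S)
    (hAS : A ≤ S) (hSA : S ≤ normalizer (A : Set G)) (hA : Cfsg.IsElementaryAbelian 2 A) (hsq : SqHalf S A) :
    A ≤ Cfsg.pCore 2 G := by
  classical
  haveI : Fact (Nat.Prime 2) := ⟨Nat.prime_two⟩
  set Q := Cfsg.pCore 2 G with hQ
  haveI : Q.Normal := Cfsg.Lib.Components.pCore_normal' 2
  have hQ2 : IsPGroup 2 Q := Cfsg.Lib.Components.isPGroup_pCore 2
  by_contra hAQ
  set π := QuotientGroup.mk' Q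
  have hA1 : A.map π ≠ ⊥ := fun e => hAQ fun a ha => (QuotientGroup.eq_one_iff a).1
    (mem_bot.1 (e ▸ mem_map_of_mem π ha))
  obtain ⟨B', g', a', x', r, n, N, hBA, hgB, ha', hr, hr2, hx, hxm, hprim, hcard, hnum⟩ :=
    wit_exists hT (elem_map π hA) Cfsg.Lib.HallHigman.pCore_quotient_pCore hA1
  obtain ⟨a, ha, rfl⟩ := ha'
  obtain ⟨g, rfl⟩ := QuotientGroup.mk'_surjective Q g'
  set b := g * a * g⁻¹ with hbdef
  have ha2 := elem_sq hA ha
  have hb2 : b * b = 1 := by rw [hbdef, conj_mul, ha2, mul_one, mul_inv_cancel]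
  set w0 := a * b with hw0
  have hrw : r ∣ orderOf w0 := by
    refine dvd_trans ?_ (orderOf_map_dvd π w0)
    rw [← hx, ← Nat.card_zpowers, ← Nat.card_zpowers]
    refine Subgroup.card_dvd_of_le (zpowers_le.2 ?_)
    rwa [hw0, hbdef, map_mul, map_mul, map_mul, map_inv]
  set y := w0 ^ (orderOf w0 / r)
  have hy : orderOf y = r := by
    rw [orderOf_pow_of_dvd (Nat.div_pos (Nat.le_of_dvd (orderOf_pos w0) hrw) hr.pos).ne'
      (Nat.div_dvd_of_dvd hrw), Nat.div_div_self hrw (orderOf_pos w0).ne']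
  -- the module
  letI : CommGroup (Q ⧸ frattini Q) :=
    { (inferInstance : Group (Q ⧸ frattini Q)) with
      mul_comm := (Cfsg.Lib.PGroups.isMulCommutative_quotient_frattini hQ2).is_comm.comm }
  set ν := QuotientGroup.mk' (frattini Q) with hν
  let φ : G → Q ⧸ frattini Q ≃* Q ⧸ frattini Q := fun h => QuotientGroup.congr (frattini Q) (frattini Q)
    (MulAut.conjNormal h) (Subgroup.characteristic_iff_map_eq.1 frattini_characteristic _)
  have hφ : ∀ (h : G) (q : Q), φ h (ν q) = ν (MulAut.conjNormal h q) := fun h q => rfl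
  let σ : G →* AddMonoid.End (Additive (Q ⧸ frattini Q)) :=
    { toFun := fun h => MonoidHom.toAdditive (φ h).toMonoidHom
      map_one' := AddMonoidHom.ext fun v => by
        obtain ⟨q, hq⟩ := QuotientGroup.mk'_surjective (frattini Q) (Additive.toMul v)
        show Additive.ofMul (φ 1 (Additive.toMul v)) = v
        rw [← hq, hφ, map_one]
        exact congrArg Additive.ofMul hq
      map_mul' := fun h k => AddMonoidHom.ext fun v => by
        obtain ⟨q, hq⟩ := QuotientGroup.mk'_surjective (frattini Q) (Additive.toMul v)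
        show Additive.ofMul (φ (h * k) (Additive.toMul v)) = Additive.ofMul (φ h (φ k (Additive.toMul v)))
        rw [← hq, hφ, hφ, hφ, map_mul]
        rfl }
  have hσ : ∀ (h : G) (q : Q), σ h (Additive.ofMul (ν q)) = Additive.ofMul (ν (MulAut.conjNormal h q)) :=
    fun h q => rfl
  have hV2 : ∀ v : Additive (Q ⧸ frattini Q), v + v = 0 := fun v => by
    refine congrArg Additive.ofMul ?_
    rw [← pow_two]
    exact Cfsg.Lib.PGroups.pow_prime_quotient_frattini hQ2 (Additive.toMul v)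
  have hnt : ∃ v, σ y v ≠ v := by
    by_contra hall
    push Not at hall
    have hc : zpowers y ≤ centralizer (Q : Set G) := by
      refine Cfsg.Lib.Coprime.le_centralizer_of_frattini (le_top.trans (normalizer_eq_top (H := Q)).ge) ?_ ?_
      · obtain ⟨i, hi⟩ := IsPGroup.iff_card.1 (hQ2.to_subgroup (frattini Q))
        rw [Nat.card_zpowers, hy, hi]
        exact ((Nat.coprime_primes hr Nat.prime_two).2 hr2).pow_right i
      · intro h hh k hk
        obtain ⟨i, rfl⟩ := mem_powers_iff_mem_zpowers.2 hh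
        have hfix : ∀ i : ℕ, ∀ v, σ (y ^ i) v = v := by
          intro i
          induction i with
          | zero => intro v; rw [pow_zero, act_one]
          | succ i ih => intro v; rw [pow_succ, act_mul, hall, ih]
        have h1 := hfix i (Additive.ofMul (ν ⟨k, hk⟩))
        rw [hσ] at h1
        have h2 := QuotientGroup.eq.1 (Additive.ofMul.injective h1).symm
        refine ⟨_, (inferInstance : (frattini Q).Normal).mem_comm_iff.1 h2, ?_⟩
        show (MulAut.conjNormal (y ^ i) ⟨k, hk⟩ : G) * k⁻¹ = y ^ i * k * (y ^ i)⁻¹ * k⁻¹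
        rw [MulAut.conjNormal_apply]
    have hyQ : y ∈ Q := hchar (hc (mem_zpowers y))
    obtain ⟨i, hi⟩ := IsPGroup.iff_orderOf.1 hQ2 ⟨y, hyQ⟩
    rw [← orderOf_coe, hy] at hi
    exact hr2 ((Nat.prime_dvd_prime_iff_eq hr Nat.prime_two).1 (hr.dvd_of_dvd_pow (dvd_of_eq hi)))
  obtain ⟨j, hj0, hjN, hj⟩ := pair_ranges σ hV2 hr hr2 hy ha2 hb2 (npow_mem_zpowers w0 _) hnt hprim
  -- the part of `A`
  set W := A ⊓ B'.comap π with hW
  have hQA : ∀ q ∈ Q, ∀ c ∈ A, ⁅q, c⁆ ∈ W := by
    intro q hq c hc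
    refine mem_inf.2 ⟨?_, mem_comap.2 ?_⟩
    · rw [commutatorElement_def]; exact mul_mem (conj_mem (hSA (hQS hq)) hc) (inv_mem hc)
    · rw [show π ⁅q, c⁆ = 1 by
        rw [map_commutatorElement, show π q = 1 from (QuotientGroup.eq_one_iff q).2 hq, commutatorElement_one_left]]
      exact one_mem _
  have hPmem : ∀ h : G, (∀ c ∈ B', π h * c = c * π h) → ∀ c ∈ W, h * c * h⁻¹ ∈ Q ⊔ W := by
    intro h hh c hc
    have h1 : h * c * h⁻¹ * c⁻¹ ∈ Q := by
      refine (QuotientGroup.eq_one_iff _).1 ?_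
      show π (h * c * h⁻¹ * c⁻¹) = 1
      rw [map_mul, map_mul, map_mul, hh _ (mem_comap.1 (mem_inf.1 hc).2), map_inv, map_inv, mul_inv_cancel_right,
        mul_inv_cancel]
    simpa using mul_mem (mem_sup_left (T := W) h1) (mem_sup_right (S := Q) hc)
  have hgi : ∀ c ∈ B', π g⁻¹ * c = c * π g⁻¹ := fun c hc => by
    rw [map_inv]; exact ((show Commute (π g) c from hgB c hc).inv_left).eq
  set R := cj g W with hR
  set R' := cj g⁻¹ W with hR'
  have hPS : Q ⊔ W ≤ S := sup_le hQS (inf_le_left.trans hAS)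
  have hRS : R ≤ S := by rintro _ ⟨c, hc, rfl⟩; exact hPS (hPmem g hgB c hc)
  have hR'S : R' ≤ S := by rintro _ ⟨c, hc, rfl⟩; exact hPS (hPmem g⁻¹ hgi c hc)
  have hcR : ∀ h : G, Nat.card (cj h W) = Nat.card W := fun h =>
    (Nat.card_congr (W.equivMapOfInjective _ (MulEquiv.injective (MulAut.conj h))).toEquiv).symm
  have hsqR : ∀ h : G, cj h W ≤ S → ¬ cj h W ≤ centralizer (A : Set G) →
      Nat.card W ^ 3 * Nat.card ↥(A ⊓ centralizer (cj h W : Set G)) ^ 2 <
        Nat.card A ^ 2 * Nat.card ↥(cj h W ⊓ centralizer (A : Set G)) ^ 3 := by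
    intro h hle hne
    rw [← hcR h]
    have hel : Cfsg.IsElementaryAbelian 2 (cj h W) := elem_map _ (elem_le hA inf_le_left)
    refine hsq _ hle (commutator_le.2 fun p hp q hq => ?_) (fun p hp => ?_) hne
    · rw [commutatorElement_eq_one_iff_mul_comm.2 (elem_comm hel hp hq)]; exact one_mem _
    · rw [pow_two, elem_sq hel hp]; exact one_mem _
  -- comparison of centralisers under conjugation
  have hKJ : ∀ h : G, Nat.card ↥(cj h⁻¹ W ⊓ centralizer (A : Set G)) ≤
      Nat.card ↥(W ⊓ centralizer (cj h W : Set G)) := by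
    intro h
    refine Nat.card_le_card_of_injective (fun z => (⟨h * z.1 * h⁻¹, ?_⟩ : ↥(W ⊓ centralizer (cj h W : Set G))))
      fun z z' e => Subtype.ext (conj_injective (congrArg Subtype.val e))
    obtain ⟨⟨c, hc, hcz⟩, hzA⟩ := mem_inf.1 z.2
    refine mem_inf.2 ⟨?_, mem_centralizer_iff.2 ?_⟩
    · rw [← hcz, show h * (MulAut.conj h⁻¹).toMonoidHom c * h⁻¹ = c by
        show h * (h⁻¹ * c * h⁻¹⁻¹) * h⁻¹ = c
        group]
      exact hc
    · rintro _ ⟨d, hd, rfl⟩
      show h * d * h⁻¹ * (h * z.1 * h⁻¹) = h * z.1 * h⁻¹ * (h * d * h⁻¹)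
      rw [conj_mul, conj_mul, mem_centralizer_iff.1 hzA d (mem_inf.1 hd).1]
  -- images in the module
  have himg : ∀ (h : G) (c d : G), c ∈ A → d ∈ A →
      Nat.card ↥(cj h W ⊓ centralizer (A : Set G)) *
        Nat.card ↥(delta σ (h * c * h⁻¹)).range ≤
      Nat.card W * Nat.card ↥((delta σ (h * c * h⁻¹)).range ⊓
        fixd σ (zpowers d)) := by
    intro h c d hc hd
    set M' := (delta σ (h * c * h⁻¹)).range with hM'
    set X : Subgroup G := cj h W with hX
    let f : Q → Additive (Q ⧸ frattini Q) := fun q => Additive.ofMul (ν q)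
    have hsurj : ∀ m ∈ M', ∃ q : Q, (q : G) ∈ X ∧ f q = m := by
      rintro m ⟨v, rfl⟩
      obtain ⟨q, hq⟩ := QuotientGroup.mk'_surjective (frattini Q) (Additive.toMul v)
      refine ⟨MulAut.conjNormal (h * c * h⁻¹) q * q⁻¹, ?_, ?_⟩
      · have hq' : h⁻¹ * (q : G) * h ∈ Q := by simpa using (inferInstance : Q.Normal).conj_mem _ q.2 h⁻¹
        refine ⟨⁅h⁻¹ * (q : G) * h, c⁆⁻¹, inv_mem (hQA _ hq' c hc), ?_⟩
        show h * ⁅h⁻¹ * (q : G) * h, c⁆⁻¹ * h⁻¹ = ((MulAut.conjNormal (h * c * h⁻¹) q * q⁻¹ : Q) : G)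
        rw [Subgroup.coe_mul, InvMemClass.coe_inv, MulAut.conjNormal_apply, commutatorElement_def]
        group
      · show Additive.ofMul (ν (_ * q⁻¹)) = σ (h * c * h⁻¹) v + v
        have hv : v = f q := congrArg Additive.ofMul hq.symm
        rw [map_mul, map_inv, ofMul_mul, ofMul_inv, ← hσ, hv, neg_eq_of_add_eq_zero_left (hV2 (f q))]
    let ψ : ↥(X.subgroupOf Q) →* Q ⧸ frattini Q := ν.comp (X.subgroupOf Q).subtype
    set T : Subgroup Q := X.subgroupOf Q ⊓ (AddSubgroup.toSubgroup' M').comap ν with hT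
    let ω : T →* Q ⧸ frattini Q := ν.comp T.subtype
    have hωr : Nat.card ω.range = Nat.card M' := by
      refine Nat.card_congr
        { toFun := fun z => ⟨Additive.ofMul z.1, ?_⟩
          invFun := fun m => ⟨Additive.toMul m.1, ?_⟩
          left_inv := fun z => rfl
          right_inv := fun m => rfl }
      · obtain ⟨t, ht⟩ := z.2
        rw [← ht]
        exact (mem_inf.1 t.2).2
      · obtain ⟨q, hq, hqm⟩ := hsurj _ m.2
        refine ⟨⟨q, mem_inf.2 ⟨mem_subgroupOf.2 hq, mem_comap.2 ?_⟩⟩, ?_⟩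
        · show f q ∈ M'
          rw [hqm]; exact m.2
        · exact congrArg Additive.toMul hqm
    set T0 : Subgroup Q := T ⊓ (centralizer (A : Set G)).subgroupOf Q with hT0
    let ω0 : T0 →* Q ⧸ frattini Q := ν.comp T0.subtype
    have hω0 : Nat.card ω0.range ≤ Nat.card ↥(M' ⊓ fixd σ (zpowers d)) := by
      refine Nat.card_le_card_of_injective (fun z => (⟨Additive.ofMul z.1, ?_⟩ : ↥(M' ⊓ fixd σ (zpowers d))))
        fun z z' e => Subtype.ext (Additive.ofMul.injective (congrArg (fun u : ↥(M' ⊓ fixd σ (zpowers d)) => (u : Additive (Q ⧸ frattini Q))) e))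
      obtain ⟨t, ht⟩ := z.2
      rw [← ht]
      refine ⟨(mem_inf.1 (mem_inf.1 t.2).1).2, fun k hk => ?_⟩
      show σ k (Additive.ofMul (ν (t : Q))) = Additive.ofMul (ν (t : Q))
      rw [hσ]
      refine congrArg (fun z => Additive.ofMul (ν z)) (Subtype.ext ?_)
      rw [MulAut.conjNormal_apply]
      obtain ⟨i, rfl⟩ := mem_zpowers_iff.1 hk
      have h := mem_centralizer_iff.1 (mem_subgroupOf.1 (mem_inf.1 (t : T0).2).2) (d ^ i) (zpow_mem hd i)
      rw [h, mul_inv_cancel_right]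
    have hs1 : Nat.card T = Nat.card ω.ker * Nat.card ω.range := by
      rw [Subgroup.card_eq_card_quotient_mul_card_subgroup ω.ker,
        Nat.card_congr (QuotientGroup.quotientKerEquivRange ω).toEquiv, mul_comm]
    have hs0 : Nat.card T0 = Nat.card ω0.ker * Nat.card ω0.range := by
      rw [Subgroup.card_eq_card_quotient_mul_card_subgroup ω0.ker,
        Nat.card_congr (QuotientGroup.quotientKerEquivRange ω0).toEquiv, mul_comm]
    have hk0 : Nat.card ω0.ker ≤ Nat.card ω.ker :=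
      Nat.card_le_card_of_injective (fun t => (⟨⟨(t : T0), (mem_inf.1 (t : T0).2).1⟩, t.2⟩ : ω.ker))
        fun t t' e => Subtype.ext (Subtype.ext (congrArg (fun z : ω.ker => ((z : T) : Q)) e))
    have hprod : Nat.card T * Nat.card ↥(X ⊓ centralizer (A : Set G)) ≤ Nat.card W * Nat.card T0 := by
      set U : Subgroup G := T.map Q.subtype
      have hUX : U ≤ X := by rintro _ ⟨t, ht, rfl⟩; exact mem_subgroupOf.1 (mem_inf.1 ht).1
      have hU : Nat.card U = Nat.card T := Subgroup.card_map_of_injective Q.subtype_injective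
      have hU0 : Nat.card ↥(U ⊓ (X ⊓ centralizer (A : Set G))) ≤ Nat.card T0 := by
        refine le_trans (card_le_of_le (K := T0.map Q.subtype) ?_)
          (le_of_eq (Subgroup.card_map_of_injective Q.subtype_injective))
        rintro _ ⟨⟨t, ht, rfl⟩, hc⟩
        exact ⟨t, mem_inf.2 ⟨ht, mem_subgroupOf.2 (mem_inf.1 hc).2⟩, rfl⟩
      rw [← hU]
      have h1 : Nat.card U * Nat.card ↥(X ⊓ centralizer (A : Set G)) ≤
          Nat.card X * Nat.card ↥(U ⊓ (X ⊓ centralizer (A : Set G))) := by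
        set C' := X ⊓ centralizer (A : Set G)
        have hCX : C' ≤ X := inf_le_left
        have hcard : ∀ {P L : Subgroup G}, P ≤ L → Nat.card P * P.relIndex L = Nat.card L := fun {P L} h => by
          rw [← relIndex_bot_left, ← relIndex_bot_left, relIndex_mul_relIndex _ _ _ bot_le h]
        have e1 := hcard hUX
        have e2 := hcard (inf_le_right : U ⊓ C' ≤ C')
        rw [inf_relIndex_right] at e2
        have hle : U.relIndex C' ≤ U.relIndex X := relIndex_le_of_le_right hCX index_ne_zero_of_finite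
        calc Nat.card U * Nat.card C' = Nat.card U * U.relIndex C' * Nat.card ↥(U ⊓ C') := by rw [← e2]; ring
          _ ≤ Nat.card U * U.relIndex X * Nat.card ↥(U ⊓ C') :=
              Nat.mul_le_mul_right _ (Nat.mul_le_mul_left _ hle)
          _ = _ := by rw [e1]
      exact h1.trans (Nat.mul_le_mul (hcR h).le hU0)
    rw [← hωr]
    refine le_trans ?_ (Nat.mul_le_mul_left _ hω0)
    refine Nat.le_of_mul_le_mul_right ?_ (Nat.card_pos (α := ω.ker))
    calc Nat.card ↥(X ⊓ centralizer (A : Set G)) * Nat.card ω.range * Nat.card ω.ker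
        = Nat.card T * Nat.card ↥(X ⊓ centralizer (A : Set G)) := by rw [hs1]; ring
      _ ≤ Nat.card W * Nat.card T0 := hprod
      _ ≤ Nat.card W * (Nat.card ω.ker * Nat.card ω0.range) := by
          rw [hs0]; exact Nat.mul_le_mul_left _ (Nat.mul_le_mul_right _ hk0)
      _ = _ := by ring
  -- numerology
  set M1 := (delta σ a).range
  set M2 := (delta σ b).range
  have hpow : ∀ (M F : AddSubgroup (Additive (Q ⧸ frattini Q))),
      ∃ p, Nat.card M = Nat.card ↥(M ⊓ F) * 2 ^ p := by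
    intro M F
    obtain ⟨k, hk⟩ := exists_card_pow hV2
    obtain ⟨l, -, hl⟩ := (Nat.dvd_prime_pow Nat.prime_two).1 (hk ▸ M.card_addSubgroup_dvd_card)
    obtain ⟨c, hc⟩ := AddSubgroup.card_dvd_of_le (inf_le_left : M ⊓ F ≤ M)
    obtain ⟨p, -, hp⟩ := (Nat.dvd_prime_pow Nat.prime_two).1 (hl ▸ (hc ▸ dvd_mul_left c _) : c ∣ 2 ^ l)
    exact ⟨p, hp ▸ hc⟩
  obtain ⟨p, hp⟩ := hpow M1 (fixd σ (zpowers b))
  obtain ⟨p', hp'⟩ := hpow M2 (fixd σ (zpowers a))
  have hpj : j ≤ p + p' := by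
    rw [hp, hp', show Nat.card ↥(M1 ⊓ fixd σ (zpowers b)) * 2 ^ p * (Nat.card ↥(M2 ⊓ fixd σ (zpowers a)) * 2 ^ p') =
      2 ^ (p + p') * (Nat.card ↥(M1 ⊓ fixd σ (zpowers b)) * Nat.card ↥(M2 ⊓ fixd σ (zpowers a))) by ring] at hj
    exact (Nat.pow_le_pow_iff_right one_lt_two).1
      (Nat.le_of_mul_le_mul_right hj (Nat.mul_pos Nat.card_pos Nat.card_pos))
  set K := Nat.card ↥(R ⊓ centralizer (A : Set G))
  set K' := Nat.card ↥(R' ⊓ centralizer (A : Set G))
  have hKb : K * 2 ^ p' ≤ Nat.card W := by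
    have h := himg g a a ha ha
    rw [← hbdef, hp', mul_comm (Nat.card ↥(M2 ⊓ _)), ← mul_assoc] at h
    exact Nat.le_of_mul_le_mul_right h Nat.card_pos
  have hKa : K' * 2 ^ p ≤ Nat.card W := by
    -- conjugate by `g`
    have h := himg g⁻¹ a a ha ha
    have e1 : Nat.card ↥(delta σ (g⁻¹ * a * g⁻¹⁻¹)).range =
        Nat.card M1 ∧ Nat.card ↥((delta σ (g⁻¹ * a * g⁻¹⁻¹)).range ⊓ fixd σ (zpowers a)) =
        Nat.card ↥(M1 ⊓ fixd σ (zpowers b)) := by
      let τ : Additive (Q ⧸ frattini Q) ≃ Additive (Q ⧸ frattini Q) :=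
        ⟨σ g, σ g⁻¹, act_inv_apply σ g, fun v => by simpa using act_inv_apply σ g⁻¹ v⟩
      have key : ∀ v, σ g v ∈ M1 ↔
          v ∈ (delta σ (g⁻¹ * a * g⁻¹⁻¹)).range := by
        intro v
        constructor
        · rintro ⟨u, hu⟩
          refine ⟨σ g⁻¹ u, ?_⟩
          show σ (g⁻¹ * a * g⁻¹⁻¹) (σ g⁻¹ u) + σ g⁻¹ u = v
          rw [← act_inv_apply σ g v, ← hu, ← act_mul]
          show _ = σ g⁻¹ (σ a u + u)
          rw [map_add, ← act_mul]; group
        · rintro ⟨u, rfl⟩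
          refine ⟨σ g u, ?_⟩
          show σ a (σ g u) + σ g u = σ g (σ (g⁻¹ * a * g⁻¹⁻¹) u + u)
          rw [map_add, ← act_mul, ← act_mul]; group
      have keyF : ∀ v, σ g v ∈ fixd σ (zpowers b) ↔ v ∈ fixd σ (zpowers a) := by
        intro v
        constructor
        · intro hv c hc
          obtain ⟨i, rfl⟩ := mem_zpowers_iff.1 hc
          have := hv (b ^ i) (zpow_mem (mem_zpowers b) i)
          rw [hbdef, conj_zpow, ← act_mul, inv_mul_cancel_right, act_mul] at this
          exact act_injective σ g this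
        · intro hv c hc
          obtain ⟨i, rfl⟩ := mem_zpowers_iff.1 hc
          rw [hbdef, conj_zpow, ← act_mul, inv_mul_cancel_right, act_mul, hv (a ^ i) (zpow_mem (mem_zpowers a) i)]
      exact ⟨Nat.card_congr (Equiv.subtypeEquiv τ fun v => (key v).symm),
        Nat.card_congr (Equiv.subtypeEquiv τ fun v => and_congr (key v).symm (keyF v).symm)⟩
    rw [e1.1, e1.2, hp, mul_comm (Nat.card ↥(M1 ⊓ _)), ← mul_assoc] at h
    exact Nat.le_of_mul_le_mul_right h Nat.card_pos
  have hAW : Nat.card A ≤ 2 ^ n * Nat.card W := by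
    have hker : ∀ c ∈ A, c ∈ Q → c ∈ W := fun c hc hcQ => mem_inf.2 ⟨hc, mem_comap.2 (by
      rw [show π c = 1 from (QuotientGroup.eq_one_iff c).2 hcQ]; exact one_mem _)⟩
    have hA' : Nat.card A = Nat.card ↥(A ⊓ Q) * Nat.card (A.map π) := by
      rw [Subgroup.card_eq_card_quotient_mul_card_subgroup (π.comp A.subtype).ker,
        Nat.card_congr (QuotientGroup.quotientKerEquivRange (π.comp A.subtype)).toEquiv, mul_comm,
        MonoidHom.range_comp, range_subtype]
      congr 1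
      refine Nat.card_congr
        { toFun := fun z => ⟨z.1.1, mem_inf.2 ⟨z.1.2, (QuotientGroup.eq_one_iff _).1 z.2⟩⟩
          invFun := fun z => ⟨⟨z.1, (mem_inf.1 z.2).1⟩, (QuotientGroup.eq_one_iff _).2 (mem_inf.1 z.2).2⟩
          left_inv := fun z => rfl
          right_inv := fun z => rfl }
    have hW' : Nat.card ↥(A ⊓ Q) * Nat.card B' ≤ Nat.card W := by
      rw [Subgroup.card_eq_card_quotient_mul_card_subgroup (π.comp W.subtype).ker,
        Nat.card_congr (QuotientGroup.quotientKerEquivRange (π.comp W.subtype)).toEquiv]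
      refine (Nat.mul_le_mul ?_ ?_).trans (le_of_eq (mul_comm (Nat.card (π.comp W.subtype).ker) _))
      · exact Nat.card_le_card_of_injective (fun z : ↥(A ⊓ Q) => (⟨⟨(z : G),
          hker _ (mem_inf.1 z.2).1 (mem_inf.1 z.2).2⟩,
          (QuotientGroup.eq_one_iff _).2 (mem_inf.1 z.2).2⟩ : (π.comp W.subtype).ker))
          fun z z' e => Subtype.ext (congrArg (fun u : (π.comp W.subtype).ker => ((u : W) : G)) e)
      · refine card_le_of_le fun c hc => ?_
        obtain ⟨d, hd, rfl⟩ := hBA hc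
        exact ⟨⟨d, mem_inf.2 ⟨hd, mem_comap.2 hc⟩⟩, rfl⟩
    calc Nat.card A ≤ Nat.card ↥(A ⊓ Q) * (2 ^ n * Nat.card B') := hA'.le.trans (Nat.mul_le_mul_left _ hcard)
      _ = 2 ^ n * (Nat.card ↥(A ⊓ Q) * Nat.card B') := by ring
      _ ≤ _ := Nat.mul_le_mul_left _ hW'
  -- the contradiction
  have hmain : ∀ (k : G) (q : ℕ), cj k W ≤ S → cj k⁻¹ W ≤ S → 0 < q → 2 * n ≤ q →
      Nat.card ↥(cj k W ⊓ centralizer (A : Set G)) * 2 ^ q ≤ Nat.card W → False := by
    intro k q hk hk' hq0 hq hK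
    set w := Nat.card W
    set L := Nat.card ↥(cj k W ⊓ centralizer (A : Set G))
    set L' := Nat.card ↥(cj k⁻¹ W ⊓ centralizer (A : Set G))
    have hL : L < w := by
      have h2q : 2 ≤ 2 ^ q := Nat.le_self_pow hq0.ne' 2
      have hLpos : 0 < L := Nat.card_pos
      nlinarith [Nat.mul_le_mul_left L h2q]
    have h1 := hsqR k hk fun h => hL.ne (by rw [← hcR k]; exact congrArg (fun T : Subgroup G => Nat.card T) (inf_eq_left.2 h))
    have hA2 : Nat.card A ^ 2 ≤ 2 ^ (2 * n) * w ^ 2 := by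
      refine (Nat.pow_le_pow_left hAW 2).trans (le_of_eq ?_)
      rw [mul_pow, ← pow_mul, mul_comm n 2]
    have hJ1 : L' ≤ Nat.card ↥(A ⊓ centralizer (cj k W : Set G)) :=
      (hKJ k).trans (card_le_of_le (inf_le_inf_right _ inf_le_left))
    have hq' : 2 ^ (2 * n) * L ≤ w :=
      le_trans (Nat.mul_le_mul_right _ (Nat.pow_le_pow_right two_pos hq)) (by rw [mul_comm]; exact hK)
    -- first inequality
    have e1 : w ^ 3 * L' ^ 2 < w ^ 3 * L ^ 2 := by
      calc w ^ 3 * L' ^ 2 ≤ w ^ 3 * Nat.card ↥(A ⊓ centralizer (cj k W : Set G)) ^ 2 :=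
            Nat.mul_le_mul_left _ (Nat.pow_le_pow_left hJ1 2)
        _ < Nat.card A ^ 2 * L ^ 3 := h1
        _ ≤ 2 ^ (2 * n) * w ^ 2 * L ^ 3 := Nat.mul_le_mul_right _ hA2
        _ = (2 ^ (2 * n) * L) * (w ^ 2 * L ^ 2) := by ring
        _ ≤ w * (w ^ 2 * L ^ 2) := Nat.mul_le_mul_right _ hq'
        _ = w ^ 3 * L ^ 2 := by ring
    have hLL : L' < L := lt_of_pow_lt_pow_left₀ 2 (Nat.zero_le _) (Nat.lt_of_mul_lt_mul_left e1)
    have h2 := hsqR k⁻¹ hk' fun h => (hLL.trans hL).ne (by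
      rw [← hcR k⁻¹]; exact congrArg (fun T : Subgroup G => Nat.card T) (inf_eq_left.2 h))
    have hJ2 : L ≤ Nat.card ↥(A ⊓ centralizer (cj k⁻¹ W : Set G)) := by
      have := hKJ k⁻¹
      rw [inv_inv] at this
      exact this.trans (card_le_of_le (inf_le_inf_right _ inf_le_left))
    have e2 : w ^ 3 * L ^ 2 < w ^ 3 * L ^ 2 := by
      calc w ^ 3 * L ^ 2 ≤ w ^ 3 * Nat.card ↥(A ⊓ centralizer (cj k⁻¹ W : Set G)) ^ 2 :=
            Nat.mul_le_mul_left _ (Nat.pow_le_pow_left hJ2 2)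
        _ < Nat.card A ^ 2 * L' ^ 3 := h2
        _ ≤ 2 ^ (2 * n) * w ^ 2 * L ^ 3 := Nat.mul_le_mul hA2 (Nat.pow_le_pow_left hLL.le 3)
        _ = (2 ^ (2 * n) * L) * (w ^ 2 * L ^ 2) := by ring
        _ ≤ w * (w ^ 2 * L ^ 2) := Nat.mul_le_mul_right _ hq'
        _ = w ^ 3 * L ^ 2 := by ring
    exact lt_irrefl _ e2
  have hmax : N ≤ 2 * max p p' := le_trans hjN (hpj.trans (by omega))
  rcases max_choice p p' with e | e <;> rw [e] at hmax
  · exact hmain g⁻¹ p hR'S (by rw [inv_inv]; exact hRS) (by omega) (hnum p hmax) hKa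
  · exact hmain g p' hRS hR'S (by omega) (hnum p' hmax) hKb

end Cfsg.Lib.SThreeFree
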