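import Cfsg.Agent.SThreeFree.Steps

/-!
Reductions for statements on elementary abelian subgroups in groups without a section `S₃` whose non-abelian
composition factors are Suzuki groups or `PSL₂(3^odd)`.
-/

set_option autoImplicit false
set_option linter.unusedSectionVars false
set_option linter.style.haveILetI false

namespace Cfsg.Lib.SThreeFree

open Subgroup
open scoped commutatorElement
open Cfsg.Lib.JComp (isPGroup_pCoreOf le_pCoreOf normalizer_le_pCoreOf conj_mem cj le_normalizer_of_conj elem_sq elem_comm elem_inv)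

universe u

variable {G : Type u} [Group G] [Finite G]

theorem odd_inf_pCoreOf {H O : Subgroup G} (hodd : Odd (Nat.card O)) : O ⊓ Cfsg.pCoreOf 2 H = ⊥ :=
  (Subgroup.eq_bot_iff_forall _).2 fun _ hx => Cfsg.Lib.JComp.eq_one_of_odd (isPGroup_pCoreOf H) hx.2
    (Odd.of_dvd_nat hodd (Subgroup.orderOf_dvd_natCard O hx.1))

/-- An element of odd order in a subgroup normalised by `A` commutes with the elements of `A` in the 2-core. -/
theorem key_of_odd {H O : Subgroup G} (hOH : O ≤ H) (hodd : Odd (Nat.card O)) {a : G} (haH : a ∈ H)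
    (han : a ∈ normalizer (O : Set G)) (hc : (⟨a, haH⟩ : H) ∈ Cfsg.pCore 2 H) {x : G} (hx : x ∈ O) :
    a * x = x * a := by
  have hac : a ∈ Cfsg.pCoreOf 2 H := mem_map.2 ⟨_, hc, rfl⟩
  have h1 : ⁅a, x⁆ ∈ Cfsg.pCoreOf 2 H := by
    rw [commutatorElement_def, show a * x * a⁻¹ * x⁻¹ = a * (x * a⁻¹ * x⁻¹) by group]
    exact mul_mem hac (conj_mem (Cfsg.Lib.Stellmacher.le_normalizer_core H (hOH hx)) (Subgroup.inv_mem _ hac))
  have h2 : ⁅a, x⁆ ∈ O := mul_mem (conj_mem han hx) (inv_mem hx)
  exact commutatorElement_eq_one_iff_mul_comm.1 (Cfsg.Lib.JComp.eq_one_of_odd (isPGroup_pCoreOf H) h1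
    (Odd.of_dvd_nat hodd (Subgroup.orderOf_dvd_natCard O h2)))

/-- A perfect subgroup whose commutators with `g` are central commutes with `g`. -/
theorem commute_of_perfect {X : Subgroup G} (hX : ⁅X, X⁆ = X) {g : G}
    (h : ∀ k ∈ X, ⁅g, k⁆ ∈ Subgroup.center G) : ∀ k ∈ X, g * k = k * g := by
  suffices hle : ⁅X, X⁆ ≤ centralizer ({g} : Set G) by
    intro k hk
    exact (mem_centralizer_singleton_iff.1 (hle (hX.symm ▸ hk))).symm
  refine commutator_le.2 fun k hk l hl => mem_centralizer_singleton_iff.2 ?_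
  obtain ⟨z, hz, ek⟩ : ∃ z, z ∈ Subgroup.center G ∧ g * k * g⁻¹ = z * k :=
    ⟨⁅g, k⁆, h k hk, by rw [commutatorElement_def]; group⟩
  obtain ⟨w, hw, el'⟩ : ∃ w, w ∈ Subgroup.center G ∧ g * l * g⁻¹ = w * l :=
    ⟨⁅g, l⁆, h l hl, by rw [commutatorElement_def]; group⟩
  have e : g * ⁅k, l⁆ * g⁻¹ = ⁅k, l⁆ := by
    have e1 : g * ⁅k, l⁆ * g⁻¹ = ⁅g * k * g⁻¹, g * l * g⁻¹⁆ := by simp only [commutatorElement_def]; group
    rw [e1, ek, el']
    have hz' := fun y => Subgroup.mem_center_iff.1 hz y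
    have hw' := fun y => Subgroup.mem_center_iff.1 hw y
    simp only [commutatorElement_def, mul_inv_rev]
    calc z * k * (w * l) * (k⁻¹ * z⁻¹) * (l⁻¹ * w⁻¹)
        = z * (k * w) * l * k⁻¹ * (z⁻¹ * l⁻¹) * w⁻¹ := by group
      _ = z * w * (k * l * k⁻¹) * (z⁻¹ * l⁻¹) * w⁻¹ := by rw [hw' k]; group
      _ = (z * w) * ((k * l * k⁻¹) * z⁻¹) * l⁻¹ * w⁻¹ := by group
      _ = (z * w) * (z⁻¹ * (k * l * k⁻¹)) * l⁻¹ * w⁻¹ := by
          rw [Subgroup.mem_center_iff.1 (inv_mem hz) (k * l * k⁻¹)]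
      _ = (z * w * z⁻¹) * ((k * l * k⁻¹ * l⁻¹) * w⁻¹) := by group
      _ = w * (w⁻¹ * (k * l * k⁻¹ * l⁻¹)) := by
          rw [← hz' w, mul_inv_cancel_right, Subgroup.mem_center_iff.1 (inv_mem hw) _]
      _ = k * l * k⁻¹ * l⁻¹ := by rw [mul_inv_cancel_left]
  exact (mul_inv_eq_iff_eq_mul.1 e).symm

theorem elem_of_mem_zpowers {g p q : G} (hp : p ∈ zpowers g) (hq : q ∈ zpowers g) : p * q = q * p := by
  obtain ⟨i, rfl⟩ := mem_zpowers_iff.1 hp
  obtain ⟨j, rfl⟩ := mem_zpowers_iff.1 hq
  exact (Commute.zpow_zpow_self g i j).eq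

theorem solvable_of_comm_quotient {N : Subgroup G} [N.Normal] (hN : Group.IsSolvable N)
    (h : ∀ x y : G, ⁅x, y⁆ ∈ N) : Group.IsSolvable G := by
  refine (Group.isSolvable_iff_subgroup_quotient N).2 ⟨hN, Group.isSolvable_of_comm fun x y => ?_⟩
  obtain ⟨x, rfl⟩ := QuotientGroup.mk'_surjective _ x
  obtain ⟨y, rfl⟩ := QuotientGroup.mk'_surjective _ y
  rw [← commutatorElement_eq_one_iff_mul_comm, ← map_commutatorElement]
  exact (QuotientGroup.eq_one_iff _).2 (h x y)

theorem solvable_of_commutator_le {X Y : Subgroup G} (hY : Group.IsSolvable Y) (hle : ⁅X, X⁆ ≤ Y) :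
    Group.IsSolvable X := by
  set D := commutator X
  have hD : D.map X.subtype = ⁅X, X⁆ := map_subtype_commutator X
  refine solvable_of_comm_quotient (G := X) (N := D) ?_ fun x y => commutator_mem_commutator (mem_top x) (mem_top y)
  refine Group.isSolvable_of_isSolvable_injective (f := (X.subtype.comp D.subtype).codRestrict Y fun d =>
    hle (hD ▸ mem_map_of_mem _ d.2)) fun a b e => ?_
  exact Subtype.ext (Subtype.ext (congrArg (fun z : Y => (z : G)) e))

variable {A : Subgroup G}

/-- A minimal failure of a statement on elementary abelian subgroups that is inherited from centralisers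
of their subgroups and from proper overgroups, and that holds in the Suzuki configuration. -/
structure Red (A : Subgroup G) : Prop where
  tame : Tame G
  elem : Cfsg.IsElementaryAbelian 2 A
  hcore : Cfsg.pCore 2 G = ⊥
  big : 2 < Nat.card A
  split : ∀ {D H : Subgroup G}, D ≤ A → D ≠ ⊥ → D ≠ A → ∀ (hAH : A ≤ H), H ≤ centralizer (D : Set G) → Tame H →
    (∀ a (ha : a ∈ A), (⟨a, hAH ha⟩ : H) ∈ Cfsg.pCore 2 H → a ∈ D) →
    (∃ N : Subgroup G, H = A ⊔ N ∧ A ≤ normalizer (N : Set G) ∧ N ⊓ Cfsg.pCoreOf 2 H = ⊥) → False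
  proper : ∀ {H : Subgroup G} (hAH : A ≤ H), H ≠ ⊤ → Tame H →
    (∀ a (ha : a ∈ A), (⟨a, hAH ha⟩ : H) ∈ Cfsg.pCore 2 H → a = 1) →
    (∃ N : Subgroup G, H = A ⊔ N ∧ A ≤ normalizer (N : Set G) ∧ N ⊓ Cfsg.pCoreOf 2 H = ⊥) → False
  suzuki : ∀ {a g x : G} {r n : ℕ}, a ∈ A → r.Prime → r ≠ 2 → orderOf x = r →
    x ∈ zpowers (a * (g * a * g⁻¹)) → (∀ i, 0 < i → i < 4 * n → ¬ r ∣ 2 ^ i - 1) → Nat.card A ≤ 2 ^ n → False

theorem Red.normal_step (C : Red A) (N : Subgroup G) [N.Normal]
    (hN : ¬ A ≤ centralizer (N : Set G)) : A ⊔ N = ⊤ ∧ A ⊓ centralizer (N : Set G) = ⊥ := by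
  haveI : Fact (Nat.Prime 2) := ⟨Nat.prime_two⟩
  set H := A ⊔ N
  have hkey : ∀ a (ha : a ∈ A), (⟨a, (le_sup_left : A ≤ H) ha⟩ : H) ∈ Cfsg.pCore 2 H →
      a ∈ A ⊓ centralizer (N : Set G) := by
    intro a ha hc
    refine ⟨ha, mem_centralizer_iff.2 fun n hn => ?_⟩
    set Y : Subgroup G := Cfsg.pCoreOf 2 H ⊓ N
    have hY2 : IsPGroup 2 Y := (isPGroup_pCoreOf H).to_le inf_le_left
    have hYN : N ≤ normalizer (Y : Set G) := Cfsg.Lib.Coprime.le_normalizer_inf
      ((le_sup_right : N ≤ H).trans (Cfsg.Lib.Stellmacher.le_normalizer_core H)) le_normalizer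
    have hY : Y ≤ Cfsg.pCore 2 G := by
      refine (le_pCoreOf hY2 inf_le_right hYN).trans (Cfsg.Lib.Components.le_pCore
        (hn := normalizer_eq_top_iff.1 (top_le_iff.1 ?_)) (isPGroup_pCoreOf N))
      exact ((normalizer_eq_top (H := N)).ge).trans (normalizer_le_pCoreOf 2 N)
    have hac : a ∈ Cfsg.pCoreOf 2 H := mem_map.2 ⟨_, hc, rfl⟩
    have hc1 : ⁅a, n⁆ ∈ Y := by
      refine ⟨?_, ?_⟩
      · rw [commutatorElement_def, show a * n * a⁻¹ * n⁻¹ = a * (n * a⁻¹ * n⁻¹) by group]
        exact mul_mem hac (conj_mem (Cfsg.Lib.Stellmacher.le_normalizer_core H (mem_sup_right hn)) (inv_mem hac))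
      · rw [commutatorElement_def]
        show a * n * a⁻¹ * n⁻¹ ∈ N
        exact mul_mem ((inferInstance : N.Normal).conj_mem n hn a) (inv_mem hn)
    exact (commutatorElement_eq_one_iff_mul_comm.1 (mem_bot.1 (C.hcore ▸ hY hc1))).symm
  have hNQ : N ⊓ Cfsg.pCoreOf 2 H = ⊥ := by
    set Y : Subgroup G := Cfsg.pCoreOf 2 H ⊓ N
    have hY : Y ≤ Cfsg.pCore 2 G := by
      refine (le_pCoreOf ((isPGroup_pCoreOf H).to_le inf_le_left) inf_le_right (Cfsg.Lib.Coprime.le_normalizer_inf
        ((le_sup_right : N ≤ H).trans (Cfsg.Lib.Stellmacher.le_normalizer_core H)) le_normalizer)).trans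
        (Cfsg.Lib.Components.le_pCore (hn := normalizer_eq_top_iff.1 (top_le_iff.1 ?_)) (isPGroup_pCoreOf N))
      exact ((normalizer_eq_top (H := N)).ge).trans (normalizer_le_pCoreOf 2 N)
    rw [inf_comm, ← le_bot_iff, ← C.hcore]
    exact hY
  have hwit : ∃ M : Subgroup G, H = A ⊔ M ∧ A ≤ normalizer (M : Set G) ∧ M ⊓ Cfsg.pCoreOf 2 H = ⊥ :=
    ⟨N, rfl, le_top.trans (normalizer_eq_top (H := N)).ge, hNQ⟩
  have hT : Tame H := by
    refine C.tame.subgroup (le_sup_right : N ≤ H) ?_
    refine Group.isSolvable_of_comm fun x y => ?_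
    obtain ⟨x, rfl⟩ := QuotientGroup.mk'_surjective _ x
    obtain ⟨y, rfl⟩ := QuotientGroup.mk'_surjective _ y
    have hd : ∀ z : H, ∃ a : H, (a : G) ∈ A ∧
        QuotientGroup.mk' (N.subgroupOf H) z = QuotientGroup.mk' (N.subgroupOf H) a := by
      intro z
      obtain ⟨a, ha, n, hn, e⟩ := mem_sup_of_normal_right.1 z.2
      refine ⟨⟨a, mem_sup_left ha⟩, ha, QuotientGroup.eq.2 (mem_subgroupOf.2 ?_)⟩
      show (z : G)⁻¹ * a ∈ N
      rw [← e, mul_inv_rev, mul_assoc, inv_mul_cancel, mul_one]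
      exact inv_mem hn
    obtain ⟨a, ha, ea⟩ := hd x
    obtain ⟨b, hb', eb⟩ := hd y
    rw [ea, eb, ← map_mul, ← map_mul]
    exact congrArg _ (Subtype.ext (elem_comm C.elem ha hb'))
  by_cases hD : A ⊓ centralizer (N : Set G) = ⊥
  · refine ⟨by_contra fun hH => C.proper le_sup_left hH hT (fun a ha hc => ?_) hwit, hD⟩
    exact mem_bot.1 (hD ▸ hkey a ha hc)
  · exfalso
    refine C.split inf_le_left hD (fun e => hN (e ▸ inf_le_right)) le_sup_left ?_ hT hkey hwit
    exact sup_le (le_centralizer_iff.1 fun d hd => mem_centralizer_iff.2 fun a ha =>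
      elem_comm C.elem ha (mem_inf.1 hd).1) (le_centralizer_iff.1 inf_le_right)


theorem Red.solvable_case (C : Red A) [Group.IsSolvable G] : False := by
  classical
  have hcore := C.hcore
  have hA3 := C.big
  haveI : Fact (Nat.Prime 2) := ⟨Nat.prime_two⟩
  set O := Cfsg.pPrimeCore 2 G with hO
  haveI : O.Normal := Cfsg.Lib.Components.pPrimeCore_normal' 2
  have hOodd : Odd (Nat.card O) := Nat.coprime_two_right.1 (Cfsg.Lib.Components.coprime_card_pPrimeCore 2)
  have hnc : ¬ A ≤ centralizer (O : Set G) := by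
    intro h
    have hAO := h.trans (Cfsg.Lib.FF.centralizer_pPrimeCore_le 2
      (Cfsg.Lib.Blocks.isPSolvable_of_solvable inferInstance) hcore)
    have hA1 : A = ⊥ := (Subgroup.eq_bot_iff_forall _).2 fun a ha => Cfsg.Lib.JComp.eq_one_of_odd
      (Cfsg.Lib.JComp.elem_isPGroup C.elem) ha (Odd.of_dvd_nat hOodd (Subgroup.orderOf_dvd_natCard O (hAO ha)))
    rw [hA1, Subgroup.card_bot] at hA3
    omega
  obtain ⟨a, ha, r, hr, hr1, har, hd⟩ := Cfsg.Lib.Stellmacher.exists_inverted_odd C.elem hOodd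
    ((normalizer_eq_top (H := O)).ge.trans' le_top) hnc
  set D := A ⊓ centralizer ({r} : Set G) with hD
  have hro : Odd (orderOf r) := Odd.of_dvd_nat hOodd (Subgroup.orderOf_dvd_natCard O hr)
  have haD : a ∉ D := fun h => by
    have := mem_centralizer_singleton_iff.1 (mem_inf.1 h).2
    rw [this, mul_inv_cancel_right] at har
    exact hr1 (Cfsg.Agent.S3195.eq_one_of_inv_eq hro har.symm)
  have hmem : ∀ b ∈ A, b ∈ D ∨ a * b ∈ D := fun b hb' => (hd b hb').imp
    (fun h => ⟨hb', mem_centralizer_singleton_iff.2 h⟩)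
    (fun h => ⟨mul_mem ha hb', mem_centralizer_singleton_iff.2 h⟩)
  have hD1 : D ≠ ⊥ := by
    intro e
    have hsub : ∀ b : A, (b : G) = 1 ∨ (b : G) = a := fun b => by
      rcases hmem b b.2 with h | h <;> rw [e, mem_bot] at h
      · exact Or.inl h
      · exact Or.inr ((inv_eq_of_mul_eq_one_right h).symm.trans (elem_inv C.elem ha))
    have := Nat.card_le_card_of_injective (fun b : A => decide ((b : G) = 1)) fun b c h => by
      rcases hsub b with e1 | e1 <;> rcases hsub c with e2 | e2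
      · exact Subtype.ext (e1.trans e2.symm)
      · exact Subtype.ext (e1.trans (by simp [e1, e2] at h; rw [e2]; exact h.symm))
      · exact Subtype.ext ((by simp [e1, e2] at h; rw [e1]; exact h : (b : G) = 1).trans e2.symm)
      · exact Subtype.ext (e1.trans e2.symm)
    simp at this
    omega
  have hAr : A ≤ normalizer (zpowers r : Set G) := by
    intro b hb'
    refine Cfsg.Lib.JComp.mem_normalizer_of_cj_le ?_
    rw [cj, MonoidHom.map_zpowers, zpowers_le]
    show b * r * b⁻¹ ∈ zpowers r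
    rcases hd b hb' with h | h
    · rw [h, mul_inv_cancel_right]; exact mem_zpowers r
    · have e : b * r * b⁻¹ = a⁻¹ * (a * b * r * (a * b)⁻¹) * a⁻¹⁻¹ := by group
      rw [h, mul_inv_cancel_right] at e
      rw [e, elem_inv C.elem ha]
      exact har.symm ▸ inv_mem (mem_zpowers r)
  refine C.split (H := A ⊔ zpowers r) inf_le_left hD1 (fun e => haD (e.ge ha)) le_sup_left ?_
    (Tame.of_solvable C.tame.free _) (fun x hx hc => ⟨hx, mem_centralizer_singleton_iff.2 ?_⟩)
    ⟨zpowers r, rfl, hAr, odd_inf_pCoreOf (by rw [Nat.card_zpowers]; exact hro)⟩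
  · refine sup_le (le_centralizer_iff.1 fun d hd' => mem_centralizer_iff.2 fun b hb' =>
      elem_comm C.elem hb' (mem_inf.1 hd').1) (zpowers_le.2 (mem_centralizer_iff.2 fun d hd' => ?_))
    exact mem_centralizer_singleton_iff.1 (mem_inf.1 hd').2
  · exact key_of_odd le_sup_right (by rw [Nat.card_zpowers]; exact hro) (mem_sup_left hx) (hAr hx) hc
      (mem_zpowers r)

theorem Red.simple_case (C : Red A)
    (hZodd : Odd (Nat.card (Subgroup.center G))) (K : Subgroup G) [hKn : K.Normal]
    (hKperf : ⁅K, K⁆ = K) (hKns : ¬ Group.IsSolvable K)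
    (hmin : ∀ Y : Subgroup G, K ⊓ Subgroup.center G ≤ Y → Y ≤ K → K ≤ normalizer (Y : Set G) →
      Y = K ⊓ Subgroup.center G ∨ Y = K) : False := by
  classical
  have hcore := C.hcore
  have hA3 := C.big
  haveI : Fact (Nat.Prime 2) := ⟨Nat.prime_two⟩
  set Z0 := K ⊓ Subgroup.center G with hZ0
  set N := Z0.subgroupOf K with hN
  haveI : N.Normal := inferInstance
  set S := ↥K ⧸ N
  set π := QuotientGroup.mk' N with hπ
  have hπ1 : ∀ k : K, π k = 1 ↔ (k : G) ∈ Subgroup.center G := fun k =>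
    (QuotientGroup.eq_one_iff k).trans ⟨fun h => (mem_subgroupOf.1 h).2, fun h => mem_subgroupOf.2 ⟨k.2, h⟩⟩
  have hSns : ¬ Group.IsSolvable S := fun h => hKns ((Group.isSolvable_iff_subgroup_quotient N).2
    ⟨Group.isSolvable_of_comm fun x y => Subtype.ext (Subtype.ext
      ((Subgroup.mem_center_iff.1 (mem_subgroupOf.1 x.2).2 _).symm)), h⟩)
  haveI : Nontrivial S := by
    by_contra hh
    rw [not_nontrivial_iff_subsingleton] at hh
    exact hSns (Group.isSolvable_of_comm fun a b => Subsingleton.elim _ _)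
  haveI hSs : IsSimpleGroup S := ⟨fun Y hY => by
    set Y' := (Y.comap π).map K.subtype with hY'
    have h0 : Z0 ≤ Y' := fun z hz => ⟨⟨z, hz.1⟩, by
      show π ⟨z, hz.1⟩ ∈ Y
      rw [(hπ1 ⟨z, hz.1⟩).2 hz.2]; exact one_mem _, rfl⟩
    have hKY : K ≤ normalizer (Y' : Set G) := le_normalizer_of_conj (by
      rintro k hk _ ⟨y, hy, rfl⟩
      exact ⟨⟨k, hk⟩ * y * ⟨k, hk⟩⁻¹, (hY.comap π).conj_mem y hy _, rfl⟩)
    have hs : Y = (Y.comap π).map π := (map_comap_eq_self_of_surjective (QuotientGroup.mk'_surjective N) Y).symm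
    rcases hmin Y' h0 (map_subtype_le _) hKY with h | h
    · left
      rw [hs, Subgroup.eq_bot_iff_forall]
      rintro _ ⟨y, hy, rfl⟩
      exact (hπ1 y).2 (h.le (mem_map_of_mem _ hy)).2
    · right
      rw [hs, eq_top_iff]
      rintro s -
      obtain ⟨k, rfl⟩ := QuotientGroup.mk'_surjective N s
      obtain ⟨y, hy, he⟩ := h.ge k.2
      obtain rfl := Subtype.ext he
      exact mem_map_of_mem _ hy⟩
  have hfam : Cfsg.IsSuzukiOrPSL2OddPowerThree S := comp_apply C.tame.comp hKn.isSubnormal π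
    (QuotientGroup.mk'_surjective N) hSs fun h => hSns (Group.isSolvable_of_comm fun a b => h.is_comm.comm a b)
  have hinv : ∀ g : G, N.map (MulAut.conjNormal g : MulAut K).toMonoidHom = N := by
    intro g
    ext k
    constructor
    · rintro ⟨m, hm, rfl⟩
      refine mem_subgroupOf.2 ⟨SetLike.coe_mem _, ?_⟩
      show g * (m : G) * g⁻¹ ∈ Subgroup.center G
      exact Subgroup.Normal.conj_mem inferInstance _ (mem_subgroupOf.1 hm).2 g
    · intro hk
      refine ⟨(MulAut.conjNormal g : MulAut K).symm k, mem_subgroupOf.2 ⟨SetLike.coe_mem _, ?_⟩,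
        MulEquiv.apply_symm_apply _ _⟩
      rw [MulAut.conjNormal_symm_apply]
      have h := Subgroup.Normal.conj_mem inferInstance _ (mem_subgroupOf.1 hk).2 g⁻¹
      rw [inv_inv] at h
      exact h
  let Ψ : G →* MulAut S := MonoidHom.mk' (fun g => QuotientGroup.congr N N (MulAut.conjNormal g) (hinv g))
    fun g h => MulEquiv.ext fun s => by
      obtain ⟨k, rfl⟩ := QuotientGroup.mk'_surjective N s
      show π ((MulAut.conjNormal (g * h) : MulAut K) k) =
        π ((MulAut.conjNormal g : MulAut K) ((MulAut.conjNormal h : MulAut K) k))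
      rw [map_mul]; rfl
  have hΨ : ∀ (g : G) (k : K), Ψ g (π k) = π ((MulAut.conjNormal g : MulAut K) k) := fun g k => rfl
  have hΨk : ∀ k : K, Ψ (k : G) = MulAut.conj (π k) := fun k => MulEquiv.ext fun s => by
    obtain ⟨m, rfl⟩ := QuotientGroup.mk'_surjective N s
    rw [hΨ, MulAut.conj_apply, ← map_inv, ← map_mul, ← map_mul]
    exact congrArg π (Subtype.ext (MulAut.conjNormal_apply _ _))
  have hker : ∀ g : G, Ψ g = 1 → g ∈ centralizer (K : Set G) := fun g hg => mem_centralizer_iff.2 fun k hk =>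
    (commute_of_perfect hKperf (fun m hm => by
      have h := DFunLike.congr_fun hg (π ⟨m, hm⟩)
      rw [hΨ] at h
      have h2 : π ((MulAut.conjNormal g : MulAut K) ⟨m, hm⟩ * (⟨m, hm⟩ : K)⁻¹) = 1 := by
        rw [map_mul, map_inv, h]
        exact mul_inv_cancel _
      have h3 := (hπ1 _).1 h2
      rwa [Subgroup.coe_mul, InvMemClass.coe_inv, MulAut.conjNormal_apply,
        ← commutatorElement_def] at h3) k hk).symm
  haveI : (centralizer (K : Set G)).Normal := normalizer_eq_top_iff.1 (top_le_iff.1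
    ((normalizer_eq_top (H := K)).ge.trans (Cfsg.Lib.Thompson.normalizer_le_normalizer_centralizer K)))
  have hCK : centralizer (K : Set G) ≤ Subgroup.center G := by
    by_cases hc : A ≤ centralizer ((centralizer (K : Set G) : Subgroup G) : Set G)
    · haveI : (centralizer ((centralizer (K : Set G) : Subgroup G) : Set G)).Normal := normalizer_eq_top_iff.1
        (top_le_iff.1 ((normalizer_eq_top (H := centralizer (K : Set G))).ge.trans
          (Cfsg.Lib.Thompson.normalizer_le_normalizer_centralizer _)))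
      by_cases hc2 : A ≤ centralizer ((centralizer ((centralizer (K : Set G) : Subgroup G) : Set G) : Subgroup G) : Set G)
      · exfalso
        have hA : ∀ g : G, ∀ a ∈ A, g * a * g⁻¹ ∈ centralizer ((centralizer (K : Set G) : Subgroup G) : Set G) :=
          fun g a ha => Subgroup.Normal.conj_mem inferInstance a (hc ha) g
        set M := Subgroup.normalClosure (A : Set G)
        have hMc : M ≤ centralizer ((centralizer (K : Set G) : Subgroup G) : Set G) := normalClosure_le_normal hc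
        have hMA : A ≤ centralizer (M : Set G) := hc2.trans (centralizer_le hMc)
        haveI : (centralizer (M : Set G)).Normal := normalizer_eq_top_iff.1 (top_le_iff.1
          ((normalizer_eq_top (H := M)).ge.trans (Cfsg.Lib.Thompson.normalizer_le_normalizer_centralizer M)))
        have hMM : M ≤ centralizer (M : Set G) := normalClosure_le_normal hMA
        have hM2 : IsPGroup 2 M := Cfsg.Lib.JComp.elem_isPGroup (Cfsg.Lib.JComp.elem_of_sq fun x hx => by
          refine (Subgroup.closure_induction (p := fun y _ => y ∈ M ∧ y * y = 1) (fun y hy => ?_)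
            ⟨one_mem _, one_mul 1⟩ (fun y z _ _ hy hz => ⟨mul_mem hy.1 hz.1, ?_⟩)
            (fun y _ hy => ⟨inv_mem hy.1, ?_⟩) hx).2
          · obtain ⟨b, hb', hbc⟩ := Group.mem_conjugatesOfSet_iff.1 hy
            refine ⟨subset_closure hy, ?_⟩
            obtain ⟨c, rfl⟩ := isConj_iff.1 hbc
            rw [conj_mul, elem_sq C.elem hb', mul_one, mul_inv_cancel]
          · have hyz := mem_centralizer_iff.1 (hMM hz.1) y hy.1
            rw [show y * z * (y * z) = y * (z * y) * z by group, ← hyz,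
              show y * (y * z) * z = y * y * (z * z) by group, hy.2, hz.2, one_mul]
          · rw [← mul_inv_rev, hy.2, inv_one])
        have hAle : A ≤ Cfsg.pCore 2 G := le_normalClosure.trans (Cfsg.Lib.Components.le_pCore hM2)
        rw [hcore] at hAle
        rw [le_bot_iff.1 hAle, Subgroup.card_bot] at hA3
        omega
      · obtain ⟨htop, hD⟩ := C.normal_step _ hc2
        intro z hz
        refine Subgroup.mem_center_iff.2 fun g => ?_
        obtain ⟨a, ha, c, hc', rfl⟩ := mem_sup_of_normal_right.1 (htop.ge (mem_top g))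
        have e1 : c * z = z * c := (mem_centralizer_iff.1 hc' z hz).symm
        have e2 : a * z = z * a := (mem_centralizer_iff.1 (hc ha) z hz).symm
        rw [mul_assoc, e1, ← mul_assoc, e2, mul_assoc]
    · exfalso
      obtain ⟨htop, -⟩ := C.normal_step _ hc
      refine hKns (Group.isSolvable_of_comm fun x y => Subtype.ext ?_)
      have hK : K ≤ centralizer (K : Set G) := by
        refine hKperf.ge.trans (commutator_le.2 fun k hk l hl => ?_)
        obtain ⟨a, ha, c, hc', rfl⟩ := mem_sup_of_normal_right.1 (htop.ge (mem_top k))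
        obtain ⟨b, hb', d, hd, rfl⟩ := mem_sup_of_normal_right.1 (htop.ge (mem_top l))
        have hq : QuotientGroup.mk' (centralizer (K : Set G)) ⁅a * c, b * d⁆ = 1 := by
          rw [map_commutatorElement, map_mul, map_mul,
            show QuotientGroup.mk' (centralizer (K : Set G)) c = 1 from (QuotientGroup.eq_one_iff c).2 hc',
            show QuotientGroup.mk' (centralizer (K : Set G)) d = 1 from (QuotientGroup.eq_one_iff d).2 hd,
            mul_one, mul_one, ← map_commutatorElement,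
            commutatorElement_eq_one_iff_mul_comm.2 (elem_comm C.elem ha hb'), map_one]
        exact (QuotientGroup.eq_one_iff _).1 hq
      exact (mem_centralizer_iff.1 (hK y.2) x x.2)
  -- the elements of `A` are inner
  have hAK : A ≤ K := by
    intro a ha
    have hf : Ψ a * Ψ a = 1 := by rw [← map_mul, elem_sq C.elem ha, map_one]
    obtain ⟨s, hs⟩ : Ψ a ∈ Cfsg.Inn S := by
      refine (inner_or_three hfam hSns (Ψ a) hf).resolve_right fun h3 => C.tame.free ?_
      have hle : Cfsg.Inn S ⊔ zpowers (Ψ a) ≤ Ψ.range := sup_le (by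
        rintro _ ⟨s, rfl⟩
        obtain ⟨k, rfl⟩ := QuotientGroup.mk'_surjective N s
        exact ⟨k, hΨk k⟩) (zpowers_le.2 ⟨a, rfl⟩)
      exact Cfsg.Lib.QuadPair.involves_of_surjective Ψ.rangeRestrict_surjective
        (Cfsg.Lib.QdFree.involves_of_injective (inclusion_injective hle) h3)
    obtain ⟨k, rfl⟩ := QuotientGroup.mk'_surjective N s
    set c := (k : G)⁻¹ * a with hc
    have hcz : c ∈ Subgroup.center G := hCK (hker c (by
      rw [hc, map_mul, map_inv, hΨk, hs, inv_mul_cancel]))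
    obtain ⟨j, hj⟩ := Odd.of_dvd_nat hZodd (Subgroup.orderOf_dvd_natCard _ hcz)
    have e1 : a ^ orderOf c = a := by rw [hj, pow_succ, pow_mul, pow_two, elem_sq C.elem ha, one_pow, one_mul]
    have e2 : a ^ orderOf c = (k : G) ^ orderOf c := by
      have : a = (k : G) * c := by rw [hc, mul_inv_cancel_left]
      conv_lhs => rw [this]
      rw [Commute.mul_pow (Subgroup.mem_center_iff.1 hcz (k : G)), pow_orderOf_eq_one, mul_one]
    rw [← e1, e2]
    exact pow_mem k.2 _
  set Ā := (A.subgroupOf K).map π with hAbar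
  have hĀe : Cfsg.IsElementaryAbelian 2 Ā := elem_map (G := K) π (elem_subgroupOf C.elem)
  have hinj : ∀ a : K, (a : G) ∈ A → π a = 1 → a = 1 := fun a ha h => Subtype.ext
    (Cfsg.Lib.JComp.eq_one_of_odd (Cfsg.Lib.JComp.elem_isPGroup C.elem) ha
      (Odd.of_dvd_nat hZodd (Subgroup.orderOf_dvd_natCard _ ((hπ1 a).1 h))))
  have hinj' : ∀ a b : K, (a : G) ∈ A → (b : G) ∈ A → π a = π b → a = b := fun a b ha hb' h =>
    inv_mul_eq_one.1 (hinj (a⁻¹ * b) (mul_mem (inv_mem ha) hb') (by rw [map_mul, map_inv, h, inv_mul_cancel]))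
  haveI : Nontrivial A := Finite.one_lt_card_iff_nontrivial.1 (by omega)
  obtain ⟨⟨a, haA⟩, hane⟩ := exists_ne (1 : A)
  set a' : K := ⟨a, hAK haA⟩
  have ha1 : π a' ≠ 1 := fun h => hane (Subtype.ext (congrArg (fun k : K => (k : G)) (hinj a' haA h)))
  have ha'A : π a' ∈ Ā := mem_map_of_mem π (mem_subgroupOf.2 haA)
  rcases elem_cases hfam hSns hĀe with ⟨n, r, hr, hr2, hcard, hprim, hex⟩ | hfour
  · obtain ⟨g, hg⟩ := hex _ ha'A ha1
    obtain ⟨g, rfl⟩ := QuotientGroup.mk'_surjective N g
    set w := a * ((g : G) * a * (g : G)⁻¹) with hw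
    have hrw : r ∣ orderOf w := by
      refine hg.trans ?_
      have e : π a' * (π g * π a' * (π g)⁻¹) = π (a' * (g * a' * g⁻¹)) := by simp only [map_mul, map_inv]
      rw [e]
      refine (orderOf_map_dvd π _).trans (dvd_of_eq ?_)
      rw [← orderOf_coe]; rfl
    have hx : orderOf (w ^ (orderOf w / r)) = r := by
      rw [orderOf_pow_of_dvd (Nat.div_pos (Nat.le_of_dvd (orderOf_pos w) hrw) hr.pos).ne'
        (Nat.div_dvd_of_dvd hrw), Nat.div_div_self hrw (orderOf_pos w).ne']
    refine C.suzuki haA hr hr2 hx (npow_mem_zpowers w _) hprim ?_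
    refine le_trans (le_of_eq ?_) hcard
    rw [hAbar]
    exact (Nat.card_congr (subgroupOfEquivOfLe hAK).toEquiv).symm.trans
      (Nat.card_congr (Equiv.ofBijective (π.subgroupMap (A.subgroupOf K))
        ⟨fun x y h => Subtype.ext (hinj' _ _ (mem_subgroupOf.1 x.2) (mem_subgroupOf.1 y.2)
          (congrArg Subtype.val h)), MonoidHom.subgroupMap_surjective _ _⟩))
  · obtain ⟨b, hbA, hb1, hba⟩ : ∃ b ∈ A, b ≠ 1 ∧ b ≠ a := by
      by_contra hall
      push Not at hall
      have := Nat.card_le_card_of_injective (fun b : A => decide ((b : G) = 1)) fun x y h => by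
        by_cases hx : (x : G) = 1 <;> by_cases hy : (y : G) = 1 <;> simp [hx, hy] at h
        · exact Subtype.ext (hx.trans hy.symm)
        · exact Subtype.ext ((hall x x.2 hx).trans (hall y y.2 hy).symm)
      simp at this
      omega
    set b' : K := ⟨b, hAK hbA⟩
    have hb1' : π b' ≠ 1 := fun h => hb1 (congrArg Subtype.val (hinj b' hbA h))
    obtain ⟨h4, x, hx1, hxo, hxa, hxb⟩ := hfour _ ha'A _ (mem_map_of_mem π (mem_subgroupOf.2 hbA)) ha1 hb1'
      fun h => hba (congrArg Subtype.val (hinj' a' b' haA hbA h)).symm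
    obtain ⟨x, rfl⟩ := QuotientGroup.mk'_surjective N x
    have ha2 := elem_sq C.elem haA
    have hai := elem_inv C.elem haA
    have hax : a * (x : G) = (x : G) * a := by
      have hz : ((a' * x * a'⁻¹ * x⁻¹ : K) : G) ∈ Subgroup.center G := (hπ1 _).1 (by
        rw [map_mul, map_mul, map_mul, map_inv, map_inv, hxa, mul_inv_cancel_right, mul_inv_cancel])
      set z := a * (x : G) * a⁻¹ * (x : G)⁻¹ with hzdef
      have e : z * (x : G) = a * x * a⁻¹ := by rw [hzdef, inv_mul_cancel_right]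
      have hzz : z * z = 1 := by
        have h : a * (z * (x : G)) * a⁻¹ = z * (a * x * a⁻¹) := by
          have hz' : z ∈ Subgroup.center G := by simpa [hzdef] using hz
          rw [← mul_assoc, Subgroup.mem_center_iff.1 hz' a]; group
        have h' : a * (a * x * a⁻¹) * a⁻¹ = (x : G) := by
          rw [hai]; calc a * (a * (x : G) * a) * a = (a * a) * x * (a * a) := by group
            _ = x := by rw [ha2, one_mul, mul_one]
        rw [e, h', ← e, ← mul_assoc] at h
        exact mul_right_cancel (h.symm.trans (one_mul _).symm)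
      have hz1 : z = 1 := Cfsg.Agent.S3195.eq_one_of_inv_eq
        (Odd.of_dvd_nat hZodd (Subgroup.orderOf_dvd_natCard _ hz)) (inv_eq_of_mul_eq_one_right hzz)
      rw [hz1, one_mul] at e
      exact (mul_inv_eq_iff_eq_mul.1 e.symm)
    have hb2 := elem_sq C.elem hbA
    have hbi := elem_inv C.elem hbA
    set y0 : K := x * b' * x⁻¹ * b'⁻¹
    have hy0 : π y0 = π x * π x := by
      simp only [y0, map_mul, map_inv]
      calc π x * π b' * (π x)⁻¹ * (π b')⁻¹ = π x * (π b' * π x * (π b')⁻¹)⁻¹ := by group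
        _ = π x * π x := by rw [hxb, inv_inv]
    obtain ⟨s, hs⟩ := Cfsg.Lib.JComp.exists_odd_pow (y0 : G)
    set y : G := (y0 : G) ^ 2 ^ s with hy
    have hy1 : y ≠ 1 := fun h => hx1 (mem_bot.1 (Cfsg.Lib.JComp.mem_of_odd_of_pow_mem (N := (⊥ : Subgroup S))
      (k := s + 1) hxo (mem_bot.2 (by
        rw [pow_succ', pow_mul, pow_two, ← hy0, ← map_pow]
        exact (congrArg π (Subtype.ext h : y0 ^ 2 ^ s = 1)).trans π.map_one))))
    have hby : b * y * b⁻¹ = y⁻¹ := by
      rw [hy, ← conj_pow, ← inv_pow]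
      congr 1
      show b * ((x : G) * b * (x : G)⁻¹ * b⁻¹) * b⁻¹ = ((x : G) * b * (x : G)⁻¹ * b⁻¹)⁻¹
      rw [mul_inv_rev, mul_inv_rev, mul_inv_rev, inv_inv, inv_inv]
      calc b * ((x : G) * b * (x : G)⁻¹ * b⁻¹) * b⁻¹ = b * x * b * (x : G)⁻¹ * (b * b)⁻¹ := by group
        _ = b * ((x : G) * (b⁻¹ * (x : G)⁻¹)) := by rw [hb2, hbi]; group
        _ = _ := by group
    have hay : a * y = y * a := by
      have hab : Commute a b := elem_comm C.elem haA hbA
      have : Commute a (y0 : G) := (((show Commute a (x : G) from hax).mul_right hab).mul_right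
        (show Commute a (x : G) from hax).inv_right).mul_right hab.inv_right
      exact this.pow_right _
    have hcases : ∀ c ∈ A, c = 1 ∨ c = a ∨ c = b ∨ c = a * b := by
      intro c hc
      set c' : K := ⟨c, hAK hc⟩
      rcases h4 _ (mem_map_of_mem π (mem_subgroupOf.2 hc : c' ∈ A.subgroupOf K)) with h | h | h | h
      · exact Or.inl (congrArg Subtype.val (hinj c' hc h))
      · exact Or.inr (Or.inl (congrArg Subtype.val (hinj' c' a' hc haA h)))
      · exact Or.inr (Or.inr (Or.inl (congrArg Subtype.val (hinj' c' b' hc hbA h))))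
      · rw [← map_mul] at h
        exact Or.inr (Or.inr (Or.inr (congrArg Subtype.val (hinj' c' (a' * b') hc (mul_mem haA hbA) h))))
    set Y := zpowers y
    have hAY : A ≤ normalizer (Y : Set G) := fun c hc => by
      refine Cfsg.Lib.JComp.mem_normalizer_of_cj_le ?_
      rw [cj, MonoidHom.map_zpowers, zpowers_le]
      show c * y * c⁻¹ ∈ Y
      rcases hcases c hc with rfl | rfl | rfl | rfl
      · rw [one_mul, inv_one, mul_one]; exact mem_zpowers y
      · rw [hay, mul_inv_cancel_right]; exact mem_zpowers y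
      · rw [hby]; exact inv_mem (mem_zpowers y)
      · rw [show a * b * y * (a * b)⁻¹ = a * (b * y * b⁻¹) * a⁻¹ by group, hby,
          ((show Commute a y from hay).inv_right).eq, mul_inv_cancel_right]
        exact inv_mem (mem_zpowers y)
    have hYodd : Odd (Nat.card Y) := by rw [Nat.card_zpowers]; exact hs
    have hbD : b ∉ zpowers a := fun h => by
      obtain ⟨i, hi⟩ := mem_powers_iff_mem_zpowers.2 h
      rcases Nat.even_or_odd i with ⟨j, rfl⟩ | ⟨j, rfl⟩
      · exact hb1 (by rw [← hi]; show a ^ (j + j) = 1; rw [← two_mul, pow_mul, pow_two, ha2, one_pow])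
      · exact hba (by rw [← hi]; show a ^ (2 * j + 1) = a; rw [pow_succ, pow_mul, pow_two, ha2, one_pow, one_mul])
    have hsol : Group.IsSolvable ↥(A ⊔ Y) := sup_comm Y A ▸ Cfsg.Lib.Signalizer.isSolvable_sup hAY
      (Group.isSolvable_of_comm fun p q => Subtype.ext (elem_of_mem_zpowers p.2 q.2))
      (Group.isSolvable_of_comm fun p q => Subtype.ext (elem_comm C.elem p.2 q.2))
    refine C.split (D := zpowers a) (H := A ⊔ Y) (zpowers_le.2 haA) ?_ (fun e => hbD (e ▸ hbA))
      le_sup_left ?_ (Tame.of_solvable C.tame.free _) (fun c hc hcc => ?_) ⟨Y, rfl, hAY, odd_inf_pCoreOf hYodd⟩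
    · exact fun h => hane (Subtype.ext (zpowers_eq_bot.1 h))
    · refine sup_le (le_centralizer_iff.1 (zpowers_le.2 (mem_centralizer_iff.2 fun c hc =>
        elem_comm C.elem hc haA))) (zpowers_le.2 (mem_centralizer_iff.2 ?_))
      intro d hd
      obtain ⟨i, rfl⟩ := mem_zpowers_iff.1 hd
      exact ((show Commute a y from hay).zpow_left i).eq
    · have hcy := key_of_odd le_sup_right hYodd (mem_sup_left hc) (hAY hc) hcc (mem_zpowers y)
      have hyo : Odd (orderOf y) := hs
      rcases hcases c hc with rfl | rfl | rfl | rfl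
      · exact one_mem _
      · exact mem_zpowers _
      · exfalso
        rw [hcy, mul_inv_cancel_right] at hby
        exact hy1 (Cfsg.Agent.S3195.eq_one_of_inv_eq hyo hby.symm)
      · exfalso
        have hby' : b * y = y * b := mul_left_cancel (a := a) (by
          rw [← mul_assoc, hcy, ← mul_assoc, ← hay, mul_assoc])
        rw [hby', mul_inv_cancel_right] at hby
        exact hy1 (Cfsg.Agent.S3195.eq_one_of_inv_eq hyo hby.symm)

end Cfsg.Lib.SThreeFree
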