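import Cfsg.Agent.SThreeFree.Act

/-!
Reduction steps for the squared bound.
-/

set_option autoImplicit false
set_option linter.unusedSectionVars false
set_option linter.style.haveILetI false

namespace Cfsg.Lib.SThreeFree

open Subgroup
open scoped commutatorElement
open Cfsg.Lib.JComp (isPGroup_pCoreOf le_pCoreOf normalizer_le_pCoreOf conj_mem cj le_normalizer_of_conj)

universe u v

/-- The hypotheses of the squared bound. -/
structure Hyp {G : Type u} [Group G] {V : Type v} [AddCommGroup V] (ρ : G →* AddMonoid.End V) (A : Subgroup G) :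
    Prop where
  inj : Function.Injective ρ
  tame : Tame G
  elem : Cfsg.IsElementaryAbelian 2 A
  core : A ⊓ Cfsg.pCore 2 G = ⊥
  two : ∀ x : V, x + x = 0

/-- A configuration all whose smaller configurations satisfy the bound. -/
structure Ctx {G : Type u} [Group G] [Finite G] {V : Type v} [AddCommGroup V] [Finite V]
    (ρ : G →* AddMonoid.End V) (A : Subgroup G) : Prop extends Hyp ρ A where
  ihV : ∀ {G' : Type u} [Group G'] [Finite G'] {V' : Type v} [AddCommGroup V'] [Finite V']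
    (ρ' : G' →* AddMonoid.End V') (A' : Subgroup G'), Hyp ρ' A' → Nat.card V' < Nat.card V → Bd ρ' A'
  ihG : ∀ {G' : Type u} [Group G'] [Finite G'] (ρ' : G' →* AddMonoid.End V) (A' : Subgroup G'),
    Hyp ρ' A' → Nat.card G' < Nat.card G → Bd ρ' A'
  ihA : ∀ A' : Subgroup G, Hyp ρ A' → Nat.card A' < Nat.card A → Bd ρ A'

variable {G : Type u} [Group G] [Finite G] {V : Type v} [AddCommGroup V] [Finite V]
  {ρ : G →* AddMonoid.End V} {A : Subgroup G}

theorem elem_map {H : Type u} [Group H] (f : G →* H) (hA : Cfsg.IsElementaryAbelian 2 A) :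
    Cfsg.IsElementaryAbelian 2 (A.map f) := Cfsg.Lib.JComp.elem_of_sq (by
  rintro _ ⟨a, ha, rfl⟩
  rw [← map_mul, Cfsg.Lib.JComp.elem_sq hA ha, map_one])

theorem elem_le {B : Subgroup G} (hA : Cfsg.IsElementaryAbelian 2 A) (h : B ≤ A) : Cfsg.IsElementaryAbelian 2 B :=
  Cfsg.Lib.JComp.elem_of_sq fun _ hb => Cfsg.Lib.JComp.elem_sq hA (h hb)

theorem elem_subgroupOf {H : Subgroup G} (hA : Cfsg.IsElementaryAbelian 2 A) :
    Cfsg.IsElementaryAbelian 2 (A.subgroupOf H) := Cfsg.Lib.JComp.elem_of_sq fun a ha =>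
  Subtype.ext (Cfsg.Lib.JComp.elem_sq hA (mem_subgroupOf.1 ha))

theorem isPGroup_of_ker {N : Subgroup G} [N.Normal] {X : Subgroup G} (hN : IsPGroup 2 N)
    (hX : IsPGroup 2 (X.map (QuotientGroup.mk' N))) : IsPGroup 2 X := by
  refine ((hX.comap_of_ker_isPGroup _ ?_).to_le (le_comap_map _ _))
  rwa [QuotientGroup.ker_mk']

theorem lift_hyp {N : Subgroup G} [N.Normal] (hT : Tame G) (h2 : ∀ x : V, x + x = 0) (φ : G →* AddMonoid.End V)
    (hN : N = φ.ker) {B : Subgroup G} (hB : Cfsg.IsElementaryAbelian 2 B)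
    (hcore : ∀ b ∈ B, QuotientGroup.mk' N b ∈ Cfsg.pCore 2 (G ⧸ N) → b = 1) :
    Hyp (QuotientGroup.lift N φ hN.le) (B.map (QuotientGroup.mk' N)) := by
  refine ⟨?_, hT.quotient N, elem_map _ hB, ?_, h2⟩
  · subst hN; exact lift_injective φ
  · rw [Subgroup.eq_bot_iff_forall]
    rintro _ ⟨⟨b, hb, rfl⟩, hbc⟩
    rw [hcore b hb hbc, map_one]

theorem bd_trivial (h : A = ⊥) : Bd ρ A := by
  subst h
  rw [Bd, fixd_card_of_bot, Subgroup.card_bot, one_pow, one_mul]

theorem Ctx.split (C : Ctx ρ A) (h : Cfsg.pCore 2 G ≠ ⊥) : Bd ρ A := by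
  classical
  haveI : Fact (Nat.Prime 2) := ⟨Nat.prime_two⟩
  set Q := Cfsg.pCore 2 G with hQ
  haveI : Q.Normal := Cfsg.Lib.Components.pCore_normal' 2
  set W := fixd ρ Q with hWdef
  have hW : ∀ g, ∀ x ∈ W, ρ g x ∈ W := fun g x hx =>
    fixd_invariant ρ (fun a ha => by simpa using (inferInstance : Q.Normal).conj_mem a ha g⁻¹) hx
  obtain ⟨x0, hx0⟩ : ∃ x : V, x ≠ 0 := by
    by_contra hall
    push Not at hall
    exact h ((Subgroup.eq_bot_iff_forall _).2 fun g _ => act_eq_one C.inj fun x => by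
      rw [hall x, map_zero])
  haveI : Nontrivial (AddSubgroup V) := ⟨⊥, ⊤, fun e => hx0 (AddSubgroup.mem_bot.1 (e ▸ AddSubgroup.mem_top x0))⟩
  have hWbot : Nat.card (V ⧸ W) < Nat.card V := by
    obtain ⟨y, -, hy0, hyW⟩ := fixd_ne_bot ρ (Cfsg.Lib.Components.isPGroup_pCore 2) ⊤
      (fun _ _ _ _ => trivial) top_ne_bot C.two
    rw [AddSubgroup.card_eq_card_quotient_mul_card_addSubgroup W]
    refine lt_mul_of_one_lt_right Nat.card_pos ?_
    exact Finite.one_lt_card_iff_nontrivial.2 ⟨⟨⟨y, hyW⟩, 0, fun e => hy0 (congrArg Subtype.val e)⟩⟩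
  have hWtop : Nat.card W < Nat.card V := by
    refine lt_of_le_of_ne (Nat.le_of_dvd Nat.card_pos W.card_addSubgroup_dvd_card) fun e => h ?_
    have hT := AddSubgroup.eq_top_of_card_eq W e
    exact (Subgroup.eq_bot_iff_forall _).2 fun g hg => act_eq_one C.inj fun x =>
      (hT ▸ AddSubgroup.mem_top x : x ∈ W) g hg
  set ρ1 := resAct ρ W hW
  set ρ2 := quoAct ρ W hW
  set R1 := (Cfsg.pCore 2 (G ⧸ ρ1.ker)).comap (QuotientGroup.mk' ρ1.ker) with hR1
  set R2 := (Cfsg.pCore 2 (G ⧸ ρ2.ker)).comap (QuotientGroup.mk' ρ2.ker) with hR2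
  have hN : IsPGroup 2 ↥(ρ1.ker ⊓ ρ2.ker) := fun g => ⟨1, by
    rw [pow_one, pow_two]; exact Subtype.ext (isPGroup_stab C.inj C.two W hW g.2.1 g.2.2)⟩
  have hR : R1 ⊓ R2 ≤ Q := by
    haveI : (Cfsg.pCore 2 (G ⧸ ρ1.ker)).Normal := Cfsg.Lib.Components.pCore_normal' 2
    haveI : (Cfsg.pCore 2 (G ⧸ ρ2.ker)).Normal := Cfsg.Lib.Components.pCore_normal' 2
    haveI : R1.Normal := Subgroup.Normal.comap inferInstance _
    haveI : R2.Normal := Subgroup.Normal.comap inferInstance _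
    refine Cfsg.Lib.Components.le_pCore fun ⟨g, hg1, hg2⟩ => ?_
    obtain ⟨s, hs⟩ := Cfsg.Lib.Components.isPGroup_pCore (G := G ⧸ ρ1.ker) 2 ⟨_, hg1⟩
    obtain ⟨t, ht⟩ := Cfsg.Lib.Components.isPGroup_pCore (G := G ⧸ ρ2.ker) 2 ⟨_, hg2⟩
    have hs' : g ^ 2 ^ s ∈ ρ1.ker := (QuotientGroup.eq_one_iff _).1 (congrArg Subtype.val hs)
    have ht' : g ^ 2 ^ t ∈ ρ2.ker := (QuotientGroup.eq_one_iff _).1 (congrArg Subtype.val ht)
    have hm : g ^ 2 ^ (s + t) ∈ ρ1.ker ⊓ ρ2.ker := by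
      refine ⟨?_, ?_⟩
      · rw [pow_add, pow_mul]; exact pow_mem hs' _
      · rw [add_comm, pow_add, pow_mul]; exact pow_mem ht' _
    obtain ⟨r, hr⟩ := hN ⟨_, hm⟩
    refine ⟨s + t + r, Subtype.ext ?_⟩
    show g ^ 2 ^ (s + t + r) = 1
    rw [pow_add, pow_mul]
    exact congrArg Subtype.val hr
  have hk2 : ∀ g ∈ ρ2.ker, g ∈ R2 := fun g hg => by
    rw [hR2, mem_comap, show QuotientGroup.mk' ρ2.ker g = 1 from (QuotientGroup.eq_one_iff g).2 hg]
    exact one_mem _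
  have hk1 : ∀ g ∈ ρ1.ker, g ∈ R1 := fun g hg => by
    rw [hR1, mem_comap, show QuotientGroup.mk' ρ1.ker g = 1 from (QuotientGroup.eq_one_iff g).2 hg]
    exact one_mem _
  obtain ⟨B, hBA, hB0, -, hcard⟩ := exists_complement C.elem (inf_le_left : A ⊓ R1 ≤ A)
  have hB1 : ∀ b ∈ B, b ∈ R1 → b = 1 := fun b hb hbR => mem_bot.1 (hB0 ▸ ⟨hb, hBA hb, hbR⟩)
  have hA2 : ∀ a ∈ A ⊓ R1, a ∈ R2 → a = 1 := fun a ha ha2 => mem_bot.1 (C.core ▸ ⟨ha.1, hR ⟨ha.2, ha2⟩⟩)
  have hyp1 := lift_hyp C.tame (two_sub C.two W) ρ1 rfl (elem_le C.elem hBA) hB1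
  have hyp2 := lift_hyp C.tame (two_quo C.two W) ρ2 rfl (elem_le C.elem inf_le_left) hA2
  have h1 := C.ihV _ _ hyp1 hWtop
  have h2 := C.ihV _ _ hyp2 hWbot
  unfold Bd at h1 h2 ⊢
  rw [fixd_map, card_map_mk] at h1
  swap
  · exact (Subgroup.eq_bot_iff_forall _).2 fun b hb => hB1 b hb.1 (hk1 b hb.2)
  rw [fixd_map, card_map_mk] at h2
  swap
  · exact (Subgroup.eq_bot_iff_forall _).2 fun a ha => hA2 a ha.1 (hk2 a ha.2)
  calc Nat.card A ^ 2 * Nat.card (fixd ρ A)
      ≤ (Nat.card ↥(A ⊓ R1) * Nat.card B) ^ 2 *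
          (Nat.card (fixd ρ1 B) * Nat.card (fixd ρ2 (A ⊓ R1))) :=
        Nat.mul_le_mul (Nat.pow_le_pow_left hcard 2) (card_fixd_le ρ W hW hBA inf_le_left)
    _ = (Nat.card B ^ 2 * Nat.card (fixd ρ1 B)) *
          (Nat.card ↥(A ⊓ R1) ^ 2 * Nat.card (fixd ρ2 (A ⊓ R1))) := by ring
    _ ≤ Nat.card W * Nat.card (V ⧸ W) := Nat.mul_le_mul h1 h2
    _ = Nat.card V := by rw [AddSubgroup.card_eq_card_quotient_mul_card_addSubgroup W, mul_comm]

/-- Recursion through the fixed points of a subgroup of `A`. -/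
theorem Ctx.rec_step (C : Ctx ρ A) {D H : Subgroup G} (hDA : D ≤ A) (hD1 : D ≠ ⊥) (hDne : D ≠ A) (hAH : A ≤ H)
    (hHD : H ≤ centralizer (D : Set G)) (hT : Tame H)
    (hkey : ∀ a (ha : a ∈ A), (⟨a, hAH ha⟩ : H) ∈ Cfsg.pCore 2 H → a ∈ D) : Bd ρ A := by
  classical
  haveI : Fact (Nat.Prime 2) := ⟨Nat.prime_two⟩
  set W := fixd ρ D with hWdef
  set σ := ρ.comp H.subtype
  have hW : ∀ g : H, ∀ x ∈ W, σ g x ∈ W := fun g x hx =>
    fixd_invariant ρ (g := (g : G)) (fun d hd => by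
      rw [mul_assoc, mem_centralizer_iff.1 (hHD g.2) d hd, inv_mul_cancel_left]; exact hd) hx
  have hWtop : Nat.card W < Nat.card V := by
    refine lt_of_le_of_ne (Nat.le_of_dvd Nat.card_pos W.card_addSubgroup_dvd_card) fun e => hD1 ?_
    have hT := AddSubgroup.eq_top_of_card_eq W e
    exact (Subgroup.eq_bot_iff_forall _).2 fun g hg => act_eq_one C.inj fun x =>
      (hT ▸ AddSubgroup.mem_top x : x ∈ W) g hg
  set σ1 := resAct σ W hW
  have hK : IsPGroup 2 σ1.ker := by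
    intro k
    obtain ⟨s, hs⟩ := Cfsg.Lib.JComp.exists_odd_pow (((k : H) : G))
    refine ⟨s, Subtype.ext (Subtype.ext (act_eq_one C.inj fun x => ?_))⟩
    refine act_trivial_of_fixd ρ C.two (P := D) ((Cfsg.Lib.JComp.elem_isPGroup C.elem).to_le hDA) hs
      (fun d hd => mem_centralizer_iff.1 (pow_mem (hHD (k : H).2) _) d hd) (fun y hy => ?_) x
    have h1 := congrArg Subtype.val (DFunLike.congr_fun (MonoidHom.mem_ker.1 (pow_mem k.2 (2 ^ s))) (⟨y, hy⟩ : W))
    exact h1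
  obtain ⟨B, hBA, hB0, hdec, hcard⟩ := exists_complement C.elem hDA
  set B' := B.subgroupOf H
  have hcore : ∀ b ∈ B', QuotientGroup.mk' σ1.ker b ∈ Cfsg.pCore 2 (H ⧸ σ1.ker) → b = 1 := by
    intro b hb hbc
    haveI : (Cfsg.pCore 2 (H ⧸ σ1.ker)).Normal := Cfsg.Lib.Components.pCore_normal' 2
    have hP : IsPGroup 2 ↥((Cfsg.pCore 2 (H ⧸ σ1.ker)).comap (QuotientGroup.mk' σ1.ker)) :=
      (Cfsg.Lib.Components.isPGroup_pCore 2).comap_of_ker_isPGroup _ (by rw [QuotientGroup.ker_mk']; exact hK)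
    have hb2 : b ∈ Cfsg.pCore 2 H :=
      Cfsg.Lib.Components.le_pCore (hn := Subgroup.Normal.comap inferInstance _) hP (mem_comap.2 hbc)
    exact Subtype.ext (mem_bot.1 (hB0 ▸ ⟨mem_subgroupOf.1 hb, hkey b (hBA (mem_subgroupOf.1 hb)) hb2⟩))
  have hyp := lift_hyp hT (two_sub C.two W) σ1 rfl (elem_subgroupOf (elem_le C.elem hBA)) hcore
  have h1 := C.ihV _ _ hyp hWtop
  have hDcore : D ⊓ Cfsg.pCore 2 G = ⊥ := le_bot_iff.1 (C.core ▸ inf_le_inf_right _ hDA)
  have h2 := C.ihA D ⟨C.inj, C.tame, elem_le C.elem hDA, hDcore, C.two⟩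
    (lt_of_le_of_ne (card_le_of_le hDA) fun e => hDne (eq_of_le_of_card_ge hDA e.ge))
  unfold Bd at h1 h2 ⊢
  rw [fixd_map, card_map_mk] at h1
  swap
  · refine (Subgroup.eq_bot_iff_forall _).2 fun b hb => hcore b hb.1 ?_
    rw [show QuotientGroup.mk' σ1.ker b = 1 from (QuotientGroup.eq_one_iff b).2 hb.2]
    exact one_mem _
  rw [Nat.card_congr (subgroupOfEquivOfLe (hBA.trans hAH)).toEquiv] at h1
  have hfix : Nat.card (fixd ρ A) ≤ Nat.card (fixd σ1 B') :=
    Nat.card_le_card_of_injective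
      (fun x => (⟨⟨x.1, fun d hd => x.2 d (hDA hd)⟩, fun b hb => Subtype.ext (x.2 b (hBA (mem_subgroupOf.1 hb)))⟩ :
        fixd σ1 B'))
      fun x y h => Subtype.ext (congrArg (fun z : fixd σ1 B' => ((z : W) : V)) h)
  calc Nat.card A ^ 2 * Nat.card (fixd ρ A) ≤ (Nat.card D * Nat.card B) ^ 2 * Nat.card (fixd σ1 B') :=
        Nat.mul_le_mul (Nat.pow_le_pow_left hcard 2) hfix
    _ = Nat.card D ^ 2 * (Nat.card B ^ 2 * Nat.card (fixd σ1 B')) := by ring
    _ ≤ Nat.card D ^ 2 * Nat.card W := Nat.mul_le_mul_left _ h1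
    _ ≤ _ := h2

/-- Passing to a proper subgroup. -/
theorem Ctx.proper (C : Ctx ρ A) {H : Subgroup G} (hAH : A ≤ H) (hH : H ≠ ⊤) (hT : Tame H)
    (hkey : ∀ a (ha : a ∈ A), (⟨a, hAH ha⟩ : H) ∈ Cfsg.pCore 2 H → a = 1) : Bd ρ A :=
  bd_subgroup ρ hAH (C.ihG _ _ ⟨C.inj.comp H.subtype_injective, hT, elem_subgroupOf C.elem,
    (Subgroup.eq_bot_iff_forall _).2 fun a ha => Subtype.ext (hkey a (mem_subgroupOf.1 ha.1) ha.2), C.two⟩
    (lt_of_le_of_ne (Nat.le_of_dvd Nat.card_pos H.card_subgroup_dvd_card) fun e => hH (eq_top_of_card_eq H e)))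

/-- A prime-order element acts without fixed points on the quotient by its fixed points. -/
theorem modEq_fix (h2 : ∀ x : V, x + x = 0) {x : G} {r : ℕ} (hr : r.Prime) (hr2 : r ≠ 2) (hx : orderOf x = r)
    (σ : G →* AddMonoid.End V) :
    r ∣ (fixd σ (zpowers x)).index - 1 ∧ ∃ j, (fixd σ (zpowers x)).index = 2 ^ j := by
  classical
  haveI : Fact r.Prime := ⟨hr⟩
  set F := fixd σ (zpowers x)
  have hF : ∀ g ∈ zpowers x, ∀ y ∈ F, σ g y ∈ F := fun g hg y hy => by rw [hy g hg]; exact hy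
  letI : MulAction (zpowers x) (V ⧸ F) :=
    { smul := fun g => QuotientAddGroup.map F F (σ g) fun y hy => hF g g.2 y hy
      one_smul := fun q => by
        obtain ⟨y, rfl⟩ := QuotientAddGroup.mk_surjective q
        exact congrArg (QuotientAddGroup.mk (s := F)) (act_one σ y)
      mul_smul := fun g h q => by
        obtain ⟨y, rfl⟩ := QuotientAddGroup.mk_surjective q
        exact congrArg (QuotientAddGroup.mk (s := F)) (act_mul σ g h y) }
  have hP : IsPGroup r (zpowers x) := IsPGroup.of_card (n := 1) (by rw [Nat.card_zpowers, hx, pow_one])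
  have hfx : MulAction.fixedPoints (zpowers x) (V ⧸ F) = {0} := by
    ext q
    simp only [Set.mem_singleton_iff, MulAction.mem_fixedPoints]
    constructor
    · intro hq
      obtain ⟨y, rfl⟩ := QuotientAddGroup.mk_surjective q
      set δ := -y + σ x y with hδ
      have hδF : δ ∈ F := (QuotientAddGroup.eq.1 (hq ⟨x, mem_zpowers x⟩).symm)
      have hxd : σ x δ = δ := hδF x (mem_zpowers x)
      have hpow : ∀ i : ℕ, σ (x ^ i) y = y + i • δ := by
        intro i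
        induction i with
        | zero => rw [pow_zero, act_one, zero_smul, add_zero]
        | succ i ih =>
          rw [pow_succ', act_mul, ih, map_add, map_nsmul, hxd, show σ x y = y + δ by rw [hδ, add_neg_cancel_left],
            succ_nsmul]
          abel
      have h0 : r • δ = 0 := by
        have := hpow r
        rw [← hx, pow_orderOf_eq_one, act_one, hx] at this
        exact add_left_cancel (this.symm.trans (add_zero y).symm)
      obtain ⟨c, hc⟩ := hr.odd_of_ne_two hr2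
      rw [hc, add_smul, one_smul, mul_smul, two_nsmul, h2, zero_add] at h0
      rw [QuotientAddGroup.eq_zero_iff]
      intro g hg
      obtain ⟨i, rfl⟩ := (mem_powers_iff_mem_zpowers.2 hg)
      show σ (x ^ i) y = y
      rw [hpow, h0, smul_zero, add_zero]
    · rintro rfl g
      exact congrArg (QuotientAddGroup.mk (s := F)) (map_zero (σ g))
  have hmod := hP.card_modEq_card_fixedPoints (α := V ⧸ F)
  rw [hfx, Nat.card_coe_set_eq, Set.ncard_singleton,
    ← AddSubgroup.index_eq_card] at hmod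
  refine ⟨(Nat.modEq_iff_dvd' (Nat.pos_of_ne_zero AddSubgroup.index_ne_zero_of_finite)).1 hmod.symm, ?_⟩
  haveI : Fact (Nat.Prime 2) := ⟨Nat.prime_two⟩
  have hPV : IsPGroup 2 (Multiplicative (V ⧸ F)) := fun q => ⟨1, by
    obtain ⟨y, hy⟩ := QuotientAddGroup.mk_surjective q.toAdd
    rw [pow_one, pow_two]
    exact congrArg Multiplicative.ofAdd (show q.toAdd + q.toAdd = 0 by rw [← hy, ← QuotientAddGroup.mk_add, h2]; rfl)⟩
  obtain ⟨j, hj⟩ := hPV.exists_card_eq
  exact ⟨j, by rw [AddSubgroup.index_eq_card, ← hj, Nat.card_congr Multiplicative.ofAdd]⟩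

/-- The index of the fixed points of an involution, through a product with a conjugate. -/
theorem index_sq_ge (h2 : ∀ x : V, x + x = 0) (σ : G →* AddMonoid.End V) (hσ : Function.Injective σ) {a g x : G}
    {r N : ℕ} (hr : r.Prime) (hr2 : r ≠ 2) (hx : orderOf x = r)
    (hxm : x ∈ zpowers (a * (g * a * g⁻¹))) (hprim : ∀ i, 0 < i → i < N → ¬ r ∣ 2 ^ i - 1) :
    2 ^ N ≤ (fixd σ (zpowers a)).index ^ 2 := by
  set F := fixd σ (zpowers a)
  set F' := fixd σ (zpowers (g * a * g⁻¹))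
  have hconj : F'.index = F.index := by
    rw [AddSubgroup.index_eq_card, AddSubgroup.index_eq_card]
    let f : V ≃+ V :=
      { toFun := σ g
        invFun := σ g⁻¹
        left_inv := act_inv_apply σ g
        right_inv := fun y => by simpa using act_inv_apply σ g⁻¹ y
        map_add' := map_add _ }
    refine (Nat.card_congr (QuotientAddGroup.congr F F' f ?_).toEquiv).symm
    have key : ∀ y, σ g y ∈ F' ↔ y ∈ F := by
      intro y
      constructor
      · intro hy c hc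
        obtain ⟨i, rfl⟩ := mem_zpowers_iff.1 hc
        have h := hy ((g * a * g⁻¹) ^ i) (mem_zpowers_iff.2 ⟨i, rfl⟩)
        rw [conj_zpow, ← act_mul, inv_mul_cancel_right, act_mul] at h
        exact act_injective σ g h
      · intro hy c hc
        obtain ⟨i, rfl⟩ := mem_zpowers_iff.1 hc
        rw [conj_zpow, ← act_mul, inv_mul_cancel_right, act_mul, hy (a ^ i) (mem_zpowers_iff.2 ⟨i, rfl⟩)]
    ext y
    constructor
    · rintro ⟨z, hz, rfl⟩
      exact (key z).2 hz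
    · intro hy
      refine ⟨f.symm y, (key _).1 (by show f (f.symm y) ∈ F'; rwa [f.apply_symm_apply]), f.apply_symm_apply y⟩
  have hle : F ⊓ F' ≤ fixd σ (zpowers x) := by
    intro y hy c hc
    have hm : ∀ i : ℤ, σ ((a * (g * a * g⁻¹)) ^ i) y = y := by
      intro i
      have h1 : σ (a * (g * a * g⁻¹)) y = y := by
        rw [act_mul, hy.2 _ (mem_zpowers _), hy.1 _ (mem_zpowers _)]
      have h1' : σ (a * (g * a * g⁻¹))⁻¹ y = y := by
        conv_lhs => rw [← h1]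
        exact act_inv_apply σ _ y
      induction i with
      | zero => rw [zpow_zero, act_one]
      | succ i ih => rw [zpow_add_one, act_mul, h1, ih]
      | pred i ih => rw [zpow_sub_one, act_mul, h1', ih]
    obtain ⟨i, rfl⟩ := mem_zpowers_iff.1 (zpowers_le.2 hxm hc)
    exact hm i
  have hidx : (fixd σ (zpowers x)).index ≤ F.index ^ 2 :=
    ((Nat.le_of_dvd (Nat.pos_of_ne_zero AddSubgroup.index_ne_zero_of_finite) (AddSubgroup.index_dvd_of_le hle)).trans
      AddSubgroup.index_inf_le).trans (by rw [hconj, pow_two])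
  refine le_trans ?_ hidx
  obtain ⟨hd, j, hj⟩ := modEq_fix h2 hr hr2 hx σ
  rw [hj] at hd ⊢
  refine Nat.pow_le_pow_right two_pos (not_lt.1 fun hlt => ?_)
  rcases Nat.eq_zero_or_pos j with rfl | hj0
  · have hx1 : x = 1 := act_eq_one hσ fun y =>
      (AddSubgroup.index_eq_one.1 (by simpa using hj) ▸ AddSubgroup.mem_top y : y ∈ fixd σ (zpowers x)) x (mem_zpowers x)
    rw [hx1, orderOf_one] at hx
    exact hr.one_lt.ne hx
  · exact hprim j hj0 hlt hd

theorem bd_of_index {k : ℕ} (hk : Nat.card A ≤ k) {a : G} (ha : a ∈ A)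
    (hidx : k ^ 2 ≤ (fixd ρ (zpowers a)).index) : Bd ρ A :=
  calc Nat.card A ^ 2 * Nat.card (fixd ρ A)
      ≤ (fixd ρ (zpowers a)).index * Nat.card (fixd ρ (zpowers a)) :=
        Nat.mul_le_mul ((Nat.pow_le_pow_left hk 2).trans hidx)
          (Nat.le_of_dvd Nat.card_pos (AddSubgroup.card_dvd_of_le (fixd_mono ρ (zpowers_le.2 ha))))
    _ = Nat.card V := AddSubgroup.index_mul_card _

theorem exists_inverted_prime {a : G} (ha : a * a = 1) (hn : a ∉ Cfsg.pCore 2 G) :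
    ∃ (x : G) (r : ℕ), r.Prime ∧ r ≠ 2 ∧ orderOf x = r ∧ a * x * a⁻¹ = x⁻¹ := by
  obtain ⟨y, hy1, hyo, hy⟩ := Cfsg.Agent.S3195.exists_inverted ha hn
  have hai : a⁻¹ = a := inv_eq_of_mul_eq_one_right ha
  obtain ⟨r, hr, hrd⟩ := Nat.exists_prime_and_dvd (fun e => hy1 (orderOf_eq_one_iff.1 e))
  refine ⟨y ^ (orderOf y / r), r, hr, fun e => ?_, ?_, ?_⟩
  · subst e
    exact Nat.not_even_iff_odd.2 hyo (even_iff_two_dvd.2 hrd)
  · rw [orderOf_pow_of_dvd (Nat.div_pos (Nat.le_of_dvd (orderOf_pos y) hrd) hr.pos).ne' (Nat.div_dvd_of_dvd hrd),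
      Nat.div_div_self hrd (orderOf_pos y).ne']
  · rw [← conj_pow, hai, hy, inv_pow]

theorem exists_card_pow (h2 : ∀ x : V, x + x = 0) : ∃ n, Nat.card V = 2 ^ n := by
  haveI : Fact (Nat.Prime 2) := ⟨Nat.prime_two⟩
  have h : IsPGroup 2 (Multiplicative V) := fun q => ⟨1, by
    rw [pow_one, pow_two]
    exact congrArg Multiplicative.ofAdd (h2 q.toAdd)⟩
  obtain ⟨n, hn⟩ := h.exists_card_eq
  exact ⟨n, by rw [← hn, Nat.card_congr Multiplicative.ofAdd]⟩

theorem Ctx.small (C : Ctx ρ A) (h : Nat.card A ≤ 2) : Bd ρ A := by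
  classical
  by_cases hA1 : A = ⊥
  · exact bd_trivial hA1
  obtain ⟨a, ha, ha1⟩ := (Subgroup.ne_bot_iff_exists_ne_one.1 hA1 |> fun ⟨⟨a, ha⟩, h⟩ =>
    (⟨a, ha, fun e => h (Subtype.ext e)⟩ : ∃ a ∈ A, a ≠ 1))
  have ha2 := Cfsg.Lib.JComp.elem_sq C.elem ha
  obtain ⟨x, r, hr, hr2, hx, hax⟩ := exists_inverted_prime ha2 fun hc => ha1 (mem_bot.1 (C.core ▸ ⟨ha, hc⟩))
  have hr3 : r ≠ 3 := by
    intro e
    subst e
    exact C.tame.free (Cfsg.Lib.SmallOffender.involves_perm_three (x := x) (a := a)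
      (by rw [← hx, pow_orderOf_eq_one]) ha2 hax (fun e => by rw [e, orderOf_one] at hx; omega))
  have hai : a⁻¹ = a := inv_eq_of_mul_eq_one_right ha2
  have hxx : x * x ∈ zpowers (a * (x⁻¹ * a * x⁻¹⁻¹)) := by
    have e : a * (x⁻¹ * a * x⁻¹⁻¹) = x * x := by
      rw [inv_inv, ← mul_assoc, ← mul_assoc]
      calc a * x⁻¹ * a * x = (a * x * a⁻¹)⁻¹ * x := by
            rw [mul_inv_rev, mul_inv_rev, inv_inv, hai, ← mul_assoc]
        _ = x * x := by rw [hax, inv_inv]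
    rw [e]; exact mem_zpowers _
  have hxo : orderOf (x * x) = r := by
    rw [← pow_two, orderOf_pow, hx, (Nat.coprime_primes hr Nat.prime_two).2 hr2, Nat.div_one]
  have h5 : 5 ≤ r := by
    by_contra h5
    have := hr.two_le
    interval_cases r <;> first | omega | (revert hr; decide)
  have hidx := index_sq_ge C.two ρ C.inj (N := 3) hr hr2 hxo hxx (fun i h0 hi hd => by
    interval_cases i <;> (have := Nat.le_of_dvd (by norm_num) hd; omega))
  refine bd_of_index h ha ?_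
  obtain ⟨j, hj⟩ : ∃ j, (fixd ρ (zpowers a)).index = 2 ^ j :=
    let ⟨j, hj⟩ := (Nat.dvd_prime_pow Nat.prime_two).1 ((AddSubgroup.index_dvd_card _).trans
      (dvd_of_eq (exists_card_pow C.two).choose_spec))
    ⟨j, hj.2⟩
  rw [hj, ← pow_mul] at hidx
  rw [hj]
  exact Nat.pow_le_pow_right two_pos (by have := (Nat.pow_le_pow_iff_right one_lt_two).1 hidx; omega)

end Cfsg.Lib.SThreeFree
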