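import Cfsg.Agent.SThreeFree.Orbit
import Cfsg.Agent.Components.Misc.SidkiMinimal

/-!
An element of odd order inverted by an element of an elementary abelian 2-subgroup and centralised by
a large part of it.
-/

set_option autoImplicit false
set_option linter.unusedSectionVars false
set_option linter.style.haveILetI false

namespace Cfsg.Lib.SThreeFree

open Subgroup
open Cfsg.Lib.JComp (elem_sq elem_comm elem_inv conj_mem)

universe u

/-- The witness: `g` centralises `B ≤ A`, and `a · (g a g⁻¹)` has a power of prime order `r`, with numerical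
conditions relating `|A : B|` and the orders of `2` modulo `r`. -/
def Wit {G : Type u} [Group G] (A : Subgroup G) : Prop :=
  ∃ (B : Subgroup G) (g a x : G) (r n N : ℕ), B ≤ A ∧ (∀ b ∈ B, g * b = b * g) ∧ a ∈ A ∧ r.Prime ∧ r ≠ 2 ∧
    orderOf x = r ∧ x ∈ zpowers (a * (g * a * g⁻¹)) ∧ (∀ i, 0 < i → i < N → ¬ r ∣ 2 ^ i - 1) ∧
    Nat.card A ≤ 2 ^ n * Nat.card B ∧ (∀ j, N ≤ 2 * j → 2 * n ≤ j)

variable {G : Type u} [Group G] [Finite G]

theorem wit_small {A : Subgroup G} (hT : Tame G) (hA : Cfsg.IsElementaryAbelian 2 A)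
    (hcore : Cfsg.pCore 2 G = ⊥) (hA1 : A ≠ ⊥) (hA2 : Nat.card A ≤ 2) : Wit A := by
  obtain ⟨a, ha, ha1⟩ : ∃ a ∈ A, a ≠ 1 := by
    by_contra h
    push Not at h
    exact hA1 ((Subgroup.eq_bot_iff_forall _).2 h)
  have ha2 := elem_sq hA ha
  obtain ⟨x, r, hr, hr2, hx, hax⟩ := exists_inverted_prime ha2 fun hc => ha1 (mem_bot.1 (hcore ▸ hc))
  have hr3 : r ≠ 3 := by
    intro e
    subst e
    exact hT.free (Cfsg.Lib.SmallOffender.involves_perm_three (x := x) (a := a)
      (by rw [← hx, pow_orderOf_eq_one]) ha2 hax (fun e => by rw [e, orderOf_one] at hx; omega))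
  have h5 : 5 ≤ r := by
    by_contra h5
    have := hr.two_le
    interval_cases r <;> first | omega | (revert hr; decide)
  refine ⟨⊥, x⁻¹, a, x * x, r, 1, 3, bot_le, fun b hb => by rw [mem_bot.1 hb, mul_one, one_mul], ha, hr, hr2,
    ?_, ?_, fun i h0 hi hd => ?_, by rw [Subgroup.card_bot, pow_one, mul_one]; exact hA2, fun j hj => by omega⟩
  · rw [← pow_two, orderOf_pow, hx, (Nat.coprime_primes hr Nat.prime_two).2 hr2, Nat.div_one]
  · have e : a * (x⁻¹ * a * x⁻¹⁻¹) = x * x := by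
      rw [inv_inv, ← mul_assoc, ← mul_assoc]
      calc a * x⁻¹ * a * x = (a * x * a⁻¹)⁻¹ * x := by
            rw [mul_inv_rev, mul_inv_rev, inv_inv, inv_eq_of_mul_eq_one_right ha2, ← mul_assoc]
        _ = x * x := by rw [hax, inv_inv]
    rw [e]; exact mem_zpowers _
  · interval_cases i <;> (have := Nat.le_of_dvd (by norm_num) hd; omega)

theorem wit_main : ∀ (m : ℕ) {G : Type u} [Group G] [Finite G], Nat.card G = m → Tame G →
    ∀ {A : Subgroup G}, Cfsg.IsElementaryAbelian 2 A → A ⊓ Cfsg.pCore 2 G = ⊥ → A ≠ ⊥ →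
    (∃ M : Subgroup G, M.Normal ∧ M ⊓ Cfsg.pCore 2 G = ⊥ ∧
      ∀ g : G, ∃ c n : G, (∀ a ∈ A, c * a = a * c) ∧ n ∈ M ∧ g = c * n) →
    Wit A := by
  intro m
  induction m using Nat.strong_induction_on with
  | _ m ih =>
    intro G _ _ hm hT A hA hcore hA1 hM
    classical
    haveI : Fact (Nat.Prime 2) := ⟨Nat.prime_two⟩
    set Q := Cfsg.pCore 2 G with hQ
    haveI : Q.Normal := Cfsg.Lib.Components.pCore_normal' 2
    by_cases hQ1 : Q = ⊥
    swap
    · -- pass to the quotient by the core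
      set π := QuotientGroup.mk' Q
      have hlt : Nat.card (G ⧸ Q) < m := by
        rw [← hm, Subgroup.card_eq_card_quotient_mul_card_subgroup Q]
        refine lt_mul_of_one_lt_right Nat.card_pos ?_
        exact (Subgroup.one_lt_card_iff_ne_bot Q).2 hQ1
      have hcA : Nat.card (A.map π) = Nat.card A := card_map_mk Q hcore
      obtain ⟨B', g', a', x', r, n, N, hBA, hgB, ha', hr, hr2, hx, hxm, hprim, hcard, hnum⟩ :=
        ih _ hlt (G := G ⧸ Q) rfl (hT.quotient Q) (A := A.map π) (elem_map π hA)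
          (by rw [Cfsg.Lib.HallHigman.pCore_quotient_pCore, inf_bot_eq])
          (fun e => hA1 (Subgroup.eq_bot_of_card_eq A (by rw [← hcA, e, Subgroup.card_bot])))
          ⟨⊤, inferInstance, by rw [Cfsg.Lib.HallHigman.pCore_quotient_pCore, inf_bot_eq],
            fun g => ⟨1, g, ⟨fun a _ => by rw [one_mul, mul_one], mem_top g, (one_mul g).symm⟩⟩⟩
      obtain ⟨a, ha, rfl⟩ := ha'
      obtain ⟨M, hMn, hMQ, hdec⟩ := hM
      obtain ⟨g, rfl⟩ := QuotientGroup.mk'_surjective Q g'
      obtain ⟨c, k, hc, hk, e⟩ := hdec g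
      set B := A ⊓ B'.comap π with hB
      have hkB : ∀ b ∈ B, k * b = b * k := by
        intro b hb
        have hbk : π k * π b = π b * π k := by
          have h := hgB _ (mem_comap.1 (mem_inf.1 hb).2)
          have hcb : π c * π b = π b * π c := by rw [← map_mul, hc b (mem_inf.1 hb).1, map_mul]
          rw [e, map_mul] at h
          refine mul_left_cancel (a := π c) ?_
          rw [← mul_assoc, ← mul_assoc, h, hcb, mul_assoc]
        have hmem : k * b * k⁻¹ * b⁻¹ ∈ M ⊓ Q := by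
          refine mem_inf.2 ⟨?_, ?_⟩
          · rw [show k * b * k⁻¹ * b⁻¹ = k * (b * k⁻¹ * b⁻¹) by group]
            exact mul_mem hk (hMn.conj_mem _ (inv_mem hk) b)
          · refine (QuotientGroup.eq_one_iff _).1 ?_
            show π (k * b * k⁻¹ * b⁻¹) = 1
            rw [map_mul, map_mul, map_mul, hbk, map_inv, map_inv, mul_inv_cancel_right, mul_inv_cancel]
        rw [hMQ, mem_bot] at hmem
        exact mul_inv_eq_iff_eq_mul.1 (mul_inv_eq_one.1 hmem)
      set w := a * (k * a * k⁻¹) with hw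
      have hwo : orderOf (π w) = orderOf (π a * (π g * π a * (π g)⁻¹)) := by
        have hca : π c * π a = π a * π c := by rw [← map_mul, hc a ha, map_mul]
        rw [show π a * (π g * π a * (π g)⁻¹) = MulAut.conj (π c) (π w) from ?_, MulEquiv.orderOf_eq]
        rw [MulAut.conj_apply, hw, map_mul π a, map_mul, map_mul, map_inv, e, map_mul, mul_inv_rev]
        calc π a * (π c * π k * π a * ((π k)⁻¹ * (π c)⁻¹))
            = (π a * π c) * (π k * π a * (π k)⁻¹) * (π c)⁻¹ := by group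
          _ = _ := by rw [← hca]; group
      have hrw : r ∣ orderOf w := by
        refine dvd_trans ?_ ((dvd_of_eq hwo.symm).trans (orderOf_map_dvd π w))
        rw [← hx, ← Nat.card_zpowers, ← Nat.card_zpowers]
        exact Subgroup.card_dvd_of_le (zpowers_le.2 hxm)
      have hcB : Nat.card B' ≤ Nat.card B := by
        refine Nat.card_le_card_of_surjective (fun b : B => (⟨π b, mem_comap.1 (mem_inf.1 b.2).2⟩ : B')) ?_
        rintro ⟨b', hb'⟩
        obtain ⟨b, hb, rfl⟩ := hBA hb'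
        exact ⟨⟨b, mem_inf.2 ⟨hb, mem_comap.2 hb'⟩⟩, rfl⟩
      refine ⟨B, k, a, w ^ (orderOf w / r), r, n, N, inf_le_left, hkB, ha, hr, hr2, ?_, npow_mem_zpowers w _,
        hprim, ?_, hnum⟩
      · rw [orderOf_pow_of_dvd (Nat.div_pos (Nat.le_of_dvd (orderOf_pos w) hrw) hr.pos).ne'
          (Nat.div_dvd_of_dvd hrw), Nat.div_div_self hrw (orderOf_pos w).ne']
      · rw [← hcA]
        exact hcard.trans (Nat.mul_le_mul_left _ hcB)
    -- trivial core
    by_cases hA2 : Nat.card A ≤ 2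
    · exact wit_small hT hA hQ1 hA1 hA2
    by_contra hw
    have recur : ∀ {D H : Subgroup G}, D ≤ A → D ≠ A → ∀ (hAH : A ≤ H), H ≤ centralizer (D : Set G) → Tame H →
        H ≠ ⊤ → (∀ a (ha : a ∈ A), (⟨a, hAH ha⟩ : H) ∈ Cfsg.pCore 2 H → a ∈ D) →
        (∃ M : Subgroup G, H = A ⊔ M ∧ A ≤ normalizer (M : Set G) ∧ M ⊓ Cfsg.pCoreOf 2 H = ⊥) → False := by
      intro D H hDA hDne hAH hHD hTH hHne hkey ⟨M, hHM, hAM, hMQ⟩
      obtain ⟨B0, hBA, hB0, hdec, hcard⟩ := exists_complement hA hDA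
      have hMH : M ≤ H := hHM ▸ le_sup_right
      have hlt : Nat.card H < m := hm ▸ lt_of_le_of_ne (Nat.le_of_dvd Nat.card_pos H.card_subgroup_dvd_card)
        fun e => hHne (eq_top_of_card_eq H e)
      haveI hn : (M.subgroupOf H).Normal := (normal_subgroupOf_iff_le_normalizer hMH).2
        (hHM.le.trans (sup_le hAM le_normalizer))
      have hcjoin : ∀ g : H, ∃ a ∈ A, ∃ y ∈ M, (g : G) = a * y := by
        intro g
        have hg : (g : G) ∈ ((A ⊔ M : Subgroup G) : Set G) := hHM.le g.2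
        rw [Subgroup.coe_mul_of_left_le_normalizer_right A M hAM] at hg
        obtain ⟨a, ha, y, hy, e⟩ := Set.mem_mul.1 hg
        exact ⟨a, ha, y, hy, e.symm⟩
      obtain ⟨B', g, a, x, r, n, N, hBB, hgB, ha, hr, hr2, hx, hxm, hprim, hn', hnum⟩ :=
        ih _ hlt (G := H) rfl hTH (A := B0.subgroupOf H) (elem_subgroupOf (elem_le hA hBA))
          ((Subgroup.eq_bot_iff_forall _).2 fun b ⟨hb, hbc⟩ => Subtype.ext (mem_bot.1 (hB0 ▸
            mem_inf.2 ⟨mem_subgroupOf.1 hb, hkey (b : G) (hBA (mem_subgroupOf.1 hb)) hbc⟩)))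
          (fun e => hDne (le_antisymm hDA fun a ha => by
            obtain ⟨c, hc, b, hb, rfl⟩ := hdec a ha
            have hb1 : (⟨b, hAH (hBA hb)⟩ : H) ∈ B0.subgroupOf H := mem_subgroupOf.2 hb
            rw [e, mem_bot] at hb1
            rw [show b = 1 from congrArg Subtype.val hb1, mul_one]
            exact hc))
          ⟨M.subgroupOf H, hn, (Subgroup.eq_bot_iff_forall _).2 fun y ⟨hy, hyc⟩ => Subtype.ext (mem_bot.1 (hMQ ▸
            mem_inf.2 ⟨mem_subgroupOf.1 hy, mem_map.2 ⟨y, hyc, rfl⟩⟩)), fun g => by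
            obtain ⟨a, ha, y, hy, e⟩ := hcjoin g
            exact ⟨⟨a, hAH ha⟩, ⟨y, hMH hy⟩, ⟨fun b hb => Subtype.ext
              (elem_comm hA ha (hBA (mem_subgroupOf.1 hb))), mem_subgroupOf.2 hy, Subtype.ext e⟩⟩⟩
      have hB'0 : B'.map H.subtype ≤ B0 := by
        rintro _ ⟨b, hb, rfl⟩
        exact mem_subgroupOf.1 (hBB hb)
      refine hw ⟨D ⊔ B'.map H.subtype, g, a, x, r, n, N, sup_le hDA (hB'0.trans hBA), ?_,
        hBA (mem_subgroupOf.1 ha), hr, hr2, (orderOf_coe x).trans hx, ?_, hprim, ?_, hnum⟩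
      · intro b hb
        have hle : D ⊔ B'.map H.subtype ≤ centralizer ({(g : G)} : Set G) := sup_le
          (fun d hd => mem_centralizer_singleton_iff.2 (mem_centralizer_iff.1 (hHD g.2) d hd))
          (by rintro _ ⟨b', hb', rfl⟩
              exact mem_centralizer_singleton_iff.2 (congrArg Subtype.val (hgB b' hb')).symm)
        exact (mem_centralizer_singleton_iff.1 (hle hb)).symm
      · obtain ⟨i, hi⟩ := mem_zpowers_iff.1 hxm
        exact mem_zpowers_iff.2 ⟨i, by simpa using congrArg Subtype.val hi⟩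
      · have hc1 : Nat.card B0 ≤ 2 ^ n * Nat.card B' :=
          (le_of_eq (Nat.card_congr (subgroupOfEquivOfLe (hBA.trans hAH)).toEquiv).symm).trans hn'
        have hc2 : Nat.card D * Nat.card B' ≤ Nat.card ↥(D ⊔ B'.map H.subtype) := by
          rw [← Nat.card_prod]
          refine Nat.card_le_card_of_injective (fun z : D × B' => (⟨z.1 * (z.2 : H),
            mul_mem (mem_sup_left z.1.2) (mem_sup_right (mem_map_of_mem _ z.2.2))⟩ :
            ↥(D ⊔ B'.map H.subtype))) ?_
          rintro ⟨d, b⟩ ⟨d', b'⟩ e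
          have e' : (d : G) * ((b : H) : G) = d' * ((b' : H) : G) := congrArg Subtype.val e
          have h1 : (d' : G)⁻¹ * d = ((b' : H) : G) * ((b : H) : G)⁻¹ := by
            rw [eq_mul_inv_iff_mul_eq, mul_assoc, e', inv_mul_cancel_left]
          have h2 : (d' : G)⁻¹ * d ∈ B0 ⊓ D := mem_inf.2 ⟨h1 ▸ mul_mem (hB'0 (mem_map_of_mem _ b'.2))
            (inv_mem (hB'0 (mem_map_of_mem _ b.2))), mul_mem (inv_mem d'.2) d.2⟩
          rw [hB0, mem_bot, inv_mul_eq_one] at h2
          obtain rfl : d' = d := Subtype.ext h2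
          exact Prod.ext rfl (Subtype.ext (Subtype.ext (mul_left_cancel e')))
        calc Nat.card A ≤ Nat.card D * Nat.card B0 := hcard
          _ ≤ Nat.card D * (2 ^ n * Nat.card B') := Nat.mul_le_mul_left _ hc1
          _ = 2 ^ n * (Nat.card D * Nat.card B') := by ring
          _ ≤ _ := Nat.mul_le_mul_left _ hc2
    refine Red.false (A := A) ⟨hT, hA, hQ1, not_le.1 hA2, ?_, ?_, ?_⟩
    · intro D H hDA hD hne hAH hHD hTH hkey hwit
      refine recur hDA hne hAH hHD hTH ?_ hkey hwit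
      rintro rfl
      haveI : D.Normal := ⟨fun d hd g => by
        rwa [← mem_centralizer_iff.1 (hHD (mem_top g)) d hd, mul_inv_cancel_right]⟩
      have hle : D ≤ Q := Cfsg.Lib.Components.le_pCore ((Cfsg.Lib.JComp.elem_isPGroup hA).to_le hDA)
      exact hD (le_bot_iff.1 (hQ1 ▸ hle))
    · intro H hAH hH hTH hkey hwit
      exact recur (D := ⊥) bot_le (Ne.symm hA1) hAH
        (fun h _ => mem_centralizer_iff.2 fun d hd => by rw [mem_bot.1 hd, one_mul, mul_one]) hTH hH
        (fun a ha hc => mem_bot.2 (hkey a ha hc)) hwit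
    · intro a g x r n ha hr hr2 hx hxm hprim hcard
      exact hw ⟨⊥, g, a, x, r, n, 4 * n, bot_le, fun b hb => by rw [mem_bot.1 hb, mul_one, one_mul], ha, hr, hr2,
        hx, hxm, hprim, by rw [Subgroup.card_bot, mul_one]; exact hcard, fun j hj => by omega⟩

/-- The witness exists for an elementary abelian subgroup when the core is trivial. -/
theorem wit_exists {G : Type u} [Group G] [Finite G] (hT : Tame G) {A : Subgroup G}
    (hA : Cfsg.IsElementaryAbelian 2 A) (hcore : Cfsg.pCore 2 G = ⊥) (hA1 : A ≠ ⊥) : Wit A :=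
  wit_main _ rfl hT hA (by rw [hcore, inf_bot_eq]) hA1
    ⟨⊤, inferInstance, by rw [hcore, inf_bot_eq],
      fun g => ⟨1, g, ⟨fun a _ => by rw [one_mul, mul_one], mem_top g, (one_mul g).symm⟩⟩⟩

end Cfsg.Lib.SThreeFree
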